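import Cfsg.Agent.Lib.TwoTransA4.Plane

/-!
# Degree 16: the affine group of the plane over the field with four elements
-/

set_option autoImplicit false
set_option maxHeartbeats 400000
set_option linter.style.haveILetI false
set_option linter.unusedSectionVars false

namespace Cfsg.Agent.TwoTransA4

open Subgroup MulAction Polynomial

variable {G : Type*} [Group G] {Ω : Type*} [MulAction G Ω] [Finite G] [Finite Ω] [FaithfulSMul G Ω]

instance fact_irreducible_four : Fact (Irreducible (X ^ 2 + X + 1 : (ZMod 2)[X])) := by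
  refine ⟨(Polynomial.irreducible_iff_roots_eq_zero_of_degree_le_three ?_ ?_).2 ?_⟩
  · rw [show (X ^ 2 + X + 1 : (ZMod 2)[X]).natDegree = 2 by compute_degree!]
  · rw [show (X ^ 2 + X + 1 : (ZMod 2)[X]).natDegree = 2 by compute_degree!]; norm_num
  · refine Multiset.eq_zero_of_forall_notMem fun x hx => ?_
    have h := (Polynomial.mem_roots'.1 hx).2
    simp only [IsRoot.def, eval_add, eval_pow, eval_X, eval_one] at h
    clear hx
    revert h
    revert x
    decide

/-- The field with four elements. -/
abbrev F4 : Type := AdjoinRoot (X ^ 2 + X + 1 : (ZMod 2)[X])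

theorem monic_four : (X ^ 2 + X + 1 : (ZMod 2)[X]).Monic := by monicity!

instance finite_four : Finite F4 := by
  haveI : Module.Finite (ZMod 2) F4 := (AdjoinRoot.powerBasis' monic_four).finite
  exact Module.finite_of_finite (ZMod 2)

noncomputable instance fintype_four : Fintype F4 := Fintype.ofFinite _

theorem card_four_field : Fintype.card F4 = 4 := by
  rw [Module.card_fintype (AdjoinRoot.powerBasis' monic_four).basis, ZMod.card, Fintype.card_fin,
    AdjoinRoot.powerBasis'_dim, show (X ^ 2 + X + 1 : (ZMod 2)[X]).natDegree = 2 by compute_degree!]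
  norm_num

namespace Plane

variable (hP : Plane G Ω)
include hP

theorem equiv_affine (a b : Ω) (hab : a ≠ b) :
    Nonempty (G ≃* ((Fin 2 → F4) ≃ᵃ[F4] (Fin 2 → F4))) := by
  classical
  obtain ⟨R, hRn, hR2, hRc, hRf, hRt⟩ := hP.exists_regular
  haveI := hRn
  have hGcard : Nat.card G = 2880 := by rw [hP.setup.card_group hab, hP.card]
  set H := stabilizer G a with hH
  have hHcard : Nat.card H = 180 := by rw [hP.setup.card_stabilizer hab, hP.card]
  choose r hrR hra using fun c => hRt a c
  have hRu : ∀ x ∈ R, ∀ c, x • a = c → x = r c := by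
    intro x hx c hxc
    by_contra hne
    refine hRf ((r c)⁻¹ * x) (mul_mem (inv_mem (hrR c)) hx) (fun e => hne (inv_mul_eq_one.1 e).symm) a ?_
    rw [mul_smul, hxc, inv_smul_eq_iff, hra]
  -- the five lines through `a`
  let Ls : Set (Set Ω) := (fun c => line G a c) '' ({a} : Set Ω)ᶜ
  have hLsub : ∀ (h : G), h • a = a → ∀ c, a ≠ c → (fun x => h • x) '' line G a c = line G a (h • c) := by
    intro h ha c hc
    refine Set.eq_of_subset_of_ncard_le ?_ ?_
    · rintro _ ⟨x, hx, rfl⟩
      have := hP.smul_mem_line hc h hx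
      rwa [ha] at this
    · rw [Set.ncard_image_of_injective _ (MulAction.injective h)]
      show (fixS Ω (four G a (h • c))).ncard ≤ (fixS Ω (four G a c)).ncard
      rw [hP.ncard_line a c hc, hP.ncard_line a (h • c) fun e => hc (smul_left_cancel h (ha.trans e))]
  letI : MulAction H Ls :=
    { smul := fun h L => ⟨(fun x => (h : G) • x) '' L.1, by
        obtain ⟨c, hc, e⟩ := L.2
        refine ⟨(h : G) • c, fun e' => hc (smul_left_cancel (h : G) (e'.trans (h.2 : (h : G) • a = a).symm)), ?_⟩
        rw [← e]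
        exact (hLsub h h.2 c (Ne.symm hc)).symm⟩
      one_smul := fun L => Subtype.ext (by show (fun x => (1 : G) • x) '' L.1 = L.1; simp)
      mul_smul := fun h h' L => Subtype.ext (by
        show (fun x => ((h : G) * h') • x) '' L.1 = (fun x => (h : G) • x) '' ((fun x => (h' : G) • x) '' L.1)
        rw [Set.image_image]; simp only [mul_smul]) }
  have hfive : Nat.card Ls = 5 := by
    haveI := Fintype.ofFinite Ω
    have hmap : ∀ c ∈ Finset.univ.erase a, line G a c ∈ Ls.toFinset := fun c hc =>
      Set.mem_toFinset.2 ⟨c, (Finset.mem_erase.1 hc).1, rfl⟩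
    have hfib : ∀ L ∈ Ls.toFinset, ((Finset.univ.erase a).filter fun c => line G a c = L).card = 3 := by
      intro L hL
      obtain ⟨c, hc, rfl⟩ := Set.mem_toFinset.1 hL
      have hac : a ≠ c := Ne.symm hc
      rw [← Set.ncard_coe_finset, show (((Finset.univ.erase a).filter fun d => line G a d = line G a c) : Set Ω) =
        line G a c \ {a} from ?_, Set.ncard_sdiff_singleton_of_mem (hP.left_mem hac)]
      · show (fixS Ω (four G a c)).ncard - 1 = 3
        rw [hP.ncard_line a c hac]
      ext d
      simp only [Finset.coe_filter, Finset.mem_erase, Finset.mem_univ, and_true, Set.mem_ofPred, Set.mem_sdiff,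
        Set.mem_singleton_iff]
      exact ⟨fun h => ⟨h.2 ▸ hP.right_mem (Ne.symm h.1), h.1⟩,
        fun h => ⟨h.2, hP.line_eq hac (hP.left_mem hac) h.1 (Ne.symm h.2)⟩⟩
    have h := Finset.card_eq_sum_card_fiberwise hmap
    rw [Finset.sum_congr rfl hfib, Finset.sum_const, Finset.card_erase_of_mem (Finset.mem_univ a),
      Finset.card_univ, ← Nat.card_eq_fintype_card, hP.card, ← Set.ncard_eq_toFinset_card', smul_eq_mul,
      ← Nat.card_coe_set_eq] at h
    omega
  -- an element fixing all lines and one further point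
  set ψ := MulAction.toPermHom H Ls
  have hconjR : ∀ (h : G), h • a = a → ∀ c, h * r c * h⁻¹ = r (h • c) := fun h ha c => by
    refine hRu _ (hRn.conj_mem _ (hrR c) h) _ ?_
    rw [mul_smul, mul_smul, inv_smul_eq_iff.2 ha.symm, hra]
  have hkerline : ∀ k : H, k ∈ ψ.ker → ∀ c, a ≠ c → ∀ x ∈ line G a c, (k : G) • x ∈ line G a c := by
    intro k hk c hc x hx
    have h := congrArg Subtype.val (Equiv.ext_iff.1 hk (⟨_, ⟨c, Ne.symm hc, rfl⟩⟩ : Ls))
    exact h.subset ⟨x, hx, rfl⟩
  have hfix1 : ∀ k : H, k ∈ ψ.ker → ∀ c, a ≠ c → (k : G) • c = c → ∀ s, s ∉ line G a c → (k : G) • s = s := by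
    intro k hk c hc hkc s hs
    have hka : (k : G) • a = a := k.2
    have has : a ≠ s := fun e => hs (e ▸ hP.left_mem hc)
    set y := r c
    have hya : y • a = c := hra c
    have hyk : (k : G) * y = y * k := mul_inv_eq_iff_eq_mul.1 (by rw [hconjR k hka c, hkc])
    set t := y • s
    have hy1 : y ≠ 1 := fun e => hc (by rw [← hya, e, one_smul])
    have hyI : y ∈ I0 G Ω := hP.mem_I0 (hR2 y (hrR c)) hy1 (hRf y (hrR c) hy1)
    have hat : a ≠ t := fun e => hs (by
      rw [show s = c by rw [← hya, e]; exact (hP.inv_smul hyI s).symm]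
      exact hP.right_mem hc)
    have hts : y • (k : G) • s = (k : G) • t := by rw [← mul_smul, ← hyk, mul_smul]
    have h1 : (k : G) • t ∈ line G c (y • s) := hts ▸ hya ▸ hP.smul_mem_line has y
      (hkerline k hk s has s (hP.right_mem has))
    have h2 : (k : G) • t ∈ line G a t := hkerline k hk t hat t (hP.right_mem hat)
    have hct : c ≠ t := fun e => has (smul_left_cancel y (hya.trans e))
    by_contra hne
    have hkt : (k : G) • t ≠ t := fun e => hne (smul_left_cancel y (hts.trans e))
    have heq := hP.line_unique hct hat hkt h1 (hP.right_mem hct) h2 (hP.right_mem hat)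
    -- then `y` maps the line `a s` to itself
    have ha' : y • a ∈ line G a t := hya ▸ heq ▸ hP.left_mem hct
    have hs' : y • t ∈ line G a t := hP.image_eq_or_disjoint hyI hat (hP.left_mem hat) ha' (hP.right_mem hat)
    rw [hP.inv_smul hyI s] at hs'
    exact hs ((hP.line_eq hat (hP.left_mem hat) (hya ▸ ha') hc).symm ▸ hs')
  have hsemi : ∀ k : H, k ∈ ψ.ker → ∀ c, a ≠ c → (k : G) • c = c → k = 1 := by
    intro k hk c hc hkc
    refine Subtype.ext (Perm.eq_one_of_forall_smul_eq (α := Ω) fun x => ?_)
    rcases eq_or_ne a x with rfl | hax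
    · exact k.2
    by_cases hx : x ∈ line G a c
    · obtain ⟨s, hs⟩ : ∃ s, s ∉ line G a c := by
        by_contra hall
        push Not at hall
        have := hP.ncard_line a c hc
        rw [show fixS Ω (four G a c) = Set.univ from Set.eq_univ_of_forall hall, Set.ncard_univ, hP.card] at this
        omega
      have has : a ≠ s := fun e => hs (e ▸ hP.left_mem hc)
      refine hfix1 k hk s has (hfix1 k hk c hc hkc s hs) x fun hxs => hs ?_
      have := hP.line_unique has hc hax (hP.left_mem has) hxs (hP.left_mem hc) hx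
      exact this ▸ hP.right_mem has
    · exact hfix1 k hk c hc hkc x hx
  set Z := ψ.ker
  have hZle : Nat.card Z ≤ 3 := by
    have hinj : Function.Injective fun k : Z => ((k : H) : G) • b := by
      intro k k' e
      have h := hsemi ((k'.1)⁻¹ * k.1) (mul_mem (inv_mem k'.2) k.2) b hab (by
        show ((((k' : H))⁻¹ * (k : H) : H) : G) • b = b
        rw [Subgroup.coe_mul, Subgroup.coe_inv, mul_smul, inv_smul_eq_iff]
        exact e)
      exact Subtype.ext (inv_mul_eq_one.1 h).symm
    rw [← Set.ncard_univ, ← Set.ncard_image_of_injective Set.univ hinj]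
    refine (Set.ncard_le_ncard (t := line G a b \ {a}) ?_).trans ?_
    · rintro _ ⟨k, -, rfl⟩
      refine ⟨hkerline k k.2 b hab b (hP.right_mem hab), fun e => hab ?_⟩
      exact smul_left_cancel ((k : H) : G) ((show ((k : H) : G) • a = a from (k : H).2).trans e.symm)
    · rw [Set.ncard_sdiff_singleton_of_mem (hP.left_mem hab)]
      show (fixS Ω (four G a b)).ncard - 1 ≤ 3
      rw [hP.ncard_line a b hab]
  have himg : Nat.card ψ.range ∣ 120 := by
    refine (Subgroup.card_subgroup_dvd_card _).trans ?_
    rw [Nat.card_perm, hfive]; rfl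
  have hprod : Nat.card Z * Nat.card ψ.range = 180 := by
    rw [← hHcard, ← Subgroup.index_ker]
    exact Subgroup.card_mul_index Z
  have hZ3 : Nat.card Z = 3 := by
    obtain ⟨q, hq⟩ := himg
    have hpos : 0 < Nat.card Z := Nat.card_pos
    rcases (show Nat.card Z = 1 ∨ Nat.card Z = 2 ∨ Nat.card Z = 3 by omega) with e | e | e
    · rw [e, one_mul] at hprod
      rw [hprod] at hq
      omega
    · rw [e] at hprod
      have h90 : Nat.card ψ.range = 90 := by omega
      rw [h90] at hq
      omega
    · exact e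
  obtain ⟨k, hk⟩ := exists_prime_orderOf_dvd_card' (G := Z) 3 (by rw [hZ3])
  have hk1 : k ≠ 1 := fun e => by rw [e, orderOf_one] at hk; omega
  -- the kernel is central
  obtain ⟨σ⟩ : Nonempty (Ls ≃ Fin 5) := ⟨Finite.equivFinOfCardEq hfive⟩
  set Φ : H →* Equiv.Perm (Fin 5) := σ.permCongrHom.toMonoidHom.comp ψ
  have hΦker : Φ.ker = Z := by
    ext x
    simp [Φ, Z, MonoidHom.mem_ker]
  have hΦr : Φ.range = alternatingGroup (Fin 5) := by
    refine Equiv.Perm.eq_alternatingGroup_of_index_eq_two ?_
    have h1 := Φ.range.card_mul_index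
    have h2 : Nat.card Φ.range = 60 := by
      have := Subgroup.card_mul_index Φ.ker
      rw [Subgroup.index_ker, hΦker, hZ3, hHcard] at this
      omega
    rw [h2, Nat.card_perm, Nat.card_fin] at h1
    simp [Nat.factorial] at h1
    omega
  set c : H →* MulAut Z := MulAut.conjNormal
  have hcentral : ∀ h : H, c h = 1 := by
    intro h
    have hK : c.ker = ⊤ := by
      set Φ' : H →* alternatingGroup (Fin 5) :=
        (MulEquiv.subgroupCongr hΦr).toMonoidHom.comp Φ.rangeRestrict
      have hΦ's : Function.Surjective Φ' :=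
        (MulEquiv.subgroupCongr hΦr).surjective.comp Φ.rangeRestrict_surjective
      have hZK : Φ'.ker ≤ c.ker := by
        intro x hx
        have hxZ : x ∈ Z := by
          rw [← hΦker, MonoidHom.mem_ker]
          exact congrArg Subtype.val (show Φ' x = 1 from hx)
        haveI : IsCyclic Z := isCyclic_of_prime_card (p := 3) hZ3
        refine MulEquiv.ext fun z => Subtype.ext ?_
        show x * z * x⁻¹ = (z : H)
        have := congrArg Subtype.val ((IsCyclic.isMulCommutative (α := Z)).is_comm.comm ⟨x, hxZ⟩ z)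
        simp only [Subgroup.coe_mul] at this
        rw [this, mul_inv_cancel_right]
      haveI : IsCyclic Z := isCyclic_of_prime_card (p := 3) hZ3
      have hidx : c.ker.index ∣ 2 := by
        rw [Subgroup.index_ker]
        refine (Subgroup.card_subgroup_dvd_card _).trans ?_
        rw [IsCyclic.card_mulAut, hZ3, Nat.totient_prime Nat.prime_three]
      have hcomap : (c.ker.map Φ').comap Φ' = c.ker := Subgroup.comap_map_eq_self hZK
      rcases ((inferInstance : c.ker.Normal).map Φ' hΦ's).eq_bot_or_eq_top with e | e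
      · exfalso
        rw [e, MonoidHom.comap_bot] at hcomap
        rw [← hcomap, Subgroup.index_ker, MonoidHom.range_eq_top.2 hΦ's, Subgroup.card_top,
          nat_card_alternatingGroup, Nat.card_fin] at hidx
        revert hidx; decide
      · rw [← hcomap, e, Subgroup.comap_top]
    exact MonoidHom.mem_ker.1 (hK.symm ▸ Subgroup.mem_top h)
  -- `R` as a module
  letI : CommGroup R :=
    { (inferInstance : Group R) with mul_comm := fun x y => Subtype.ext (hRc _ x.2 _ y.2).eq }
  set kk : G := ((k : H) : G)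
  have hka : kk • a = a := (k : H).2
  have hnorm : ∀ g : G, ∀ x ∈ R, g * (kk * x * kk⁻¹) * g⁻¹ = kk * (g * x * g⁻¹) * kk⁻¹ := by
    intro g x hx
    set y := r (g • a)
    set h := y⁻¹ * g with hh
    have hha : h • a = a := by rw [hh, mul_smul, inv_smul_eq_iff, hra]
    have hz : h * kk * h⁻¹ = kk :=
      congrArg (fun z : Z => ((z : H) : G)) (DFunLike.congr_fun (hcentral ⟨h, hha⟩) k)
    have hy : ∀ z ∈ R, y * z * y⁻¹ = z := fun z hz => by
      rw [(hRc y (hrR _) z hz).eq, mul_inv_cancel_right]
    have e : ∀ z ∈ R, g * z * g⁻¹ = h * z * h⁻¹ := fun z hz => by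
      rw [show g * z * g⁻¹ = y * (h * z * h⁻¹) * y⁻¹ by rw [hh]; group]
      exact hy _ (hRn.conj_mem z hz h)
    rw [e _ (hRn.conj_mem x hx kk), e x hx]
    calc h * (kk * x * kk⁻¹) * h⁻¹ = (h * kk * h⁻¹) * (h * x * h⁻¹) * (h * kk * h⁻¹)⁻¹ := by group
      _ = kk * (h * x * h⁻¹) * kk⁻¹ := by rw [hz]
  letI mod2 : Module (ZMod 2) (Additive R) := AddCommGroup.zmodModule fun x => by
    rw [two_nsmul]
    exact congrArg Additive.ofMul (Subtype.ext (hR2 _ x.toMul.2) : x.toMul * x.toMul = 1)
  let cj : G → Module.End (ZMod 2) (Additive R) := fun g =>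
    (MonoidHom.toAdditive (MulAut.conjNormal (H := R) g).toMonoidHom).toZModLinearMap 2
  have hcj : ∀ g (x : Additive R), ((cj g x).toMul : G) = g * (x.toMul : G) * g⁻¹ := fun _ _ => rfl
  set ζ := cj kk
  have hpoly : aeval ζ (X ^ 2 + X + 1 : (ZMod 2)[X]) = 0 := by
    refine LinearMap.ext fun x => ?_
    simp only [map_add, map_mul, aeval_X, map_one, pow_two, LinearMap.add_apply, Module.End.mul_apply,
      Module.End.one_apply, LinearMap.zero_apply]
    refine Additive.toMul.injective (Subtype.ext ?_)
    set y : G := (x.toMul : G)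
    set z := kk * (kk * y * kk⁻¹) * kk⁻¹ * (kk * y * kk⁻¹) * y with hzdef
    show z = 1
    have hy : y ∈ R := x.toMul.2
    have hky : kk * y * kk⁻¹ ∈ R := hRn.conj_mem y hy kk
    have hkky : kk * (kk * y * kk⁻¹) * kk⁻¹ ∈ R := hRn.conj_mem _ hky kk
    have hzR : z ∈ R := mul_mem (mul_mem hkky hky) hy
    have hkk : kk * kk * kk = 1 := by
      have h := pow_orderOf_eq_one k
      rw [hk, pow_three, ← mul_assoc] at h
      exact congrArg (fun w : Z => ((w : H) : G)) h
    have hzk : kk * z * kk⁻¹ = z := by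
      calc kk * z * kk⁻¹ = (kk * kk * kk) * y * (kk * kk * kk)⁻¹ * (kk * (kk * y * kk⁻¹) * kk⁻¹) *
            (kk * y * kk⁻¹) := by rw [hzdef]; group
        _ = y * (kk * (kk * y * kk⁻¹) * kk⁻¹) * (kk * y * kk⁻¹) := by rw [hkk]; group
        _ = (kk * (kk * y * kk⁻¹) * kk⁻¹) * (y * (kk * y * kk⁻¹)) := by
            rw [(hRc y hy _ hkky).eq, mul_assoc]
        _ = z := by rw [(hRc y hy _ hky).eq, hzdef]; group
    by_contra hne
    have hza : a ≠ z • a := (hRf z hzR hne a).symm
    refine hk1 (Subtype.ext (hsemi k.1 k.2 (z • a) hza ?_))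
    have hcomm : kk * z = z * kk := mul_inv_eq_iff_eq_mul.1 hzk
    show kk • z • a = z • a
    rw [← mul_smul, hcomm, mul_smul, hka]
  let φ : F4 →+* Module.End (ZMod 2) (Additive R) :=
    Ideal.Quotient.lift (Ideal.span {(X ^ 2 + X + 1 : (ZMod 2)[X])}) (aeval ζ).toRingHom fun p hp => by
      obtain ⟨q, rfl⟩ := Ideal.mem_span_singleton.1 hp
      show aeval ζ (_ * q) = 0
      rw [map_mul, hpoly, zero_mul]
  letI modF : Module F4 (Additive R) := Module.compHom (Additive R) φ
  have hlin : ∀ g (w : F4) (x : Additive R), cj g (w • x) = w • cj g x := by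
    intro g w x
    obtain ⟨p, rfl⟩ := AdjoinRoot.mk_surjective w
    have hc : Commute (cj g) ζ := LinearMap.ext fun x => by
      refine Additive.toMul.injective (Subtype.ext ?_)
      rw [Module.End.mul_apply, Module.End.mul_apply, hcj, hcj, hcj, hcj]
      exact hnorm g _ x.toMul.2
    have hcp : Commute (cj g) (aeval ζ p) := by
      induction p using Polynomial.induction_on' with
      | add p q hp hq => rw [map_add]; exact hp.add_right hq
      | monomial i c =>
        rw [aeval_monomial]
        exact (Algebra.commute_algebraMap_right c (cj g)).mul_right (hc.pow_right i)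
    exact LinearMap.congr_fun hcp.eq x
  -- coordinates
  have hRcard : Nat.card R = 16 := by
    rw [← hP.card]
    exact Nat.card_congr (Equiv.ofBijective (fun x : R => (x : G) • a)
      ⟨fun x y e => Subtype.ext ((hRu x x.2 _ e).trans (hRu y y.2 _ rfl).symm),
        fun c => ⟨⟨r c, hrR c⟩, hra c⟩⟩)
  haveI : Fintype (Additive R) := Fintype.ofFinite _
  have hrank : Module.finrank F4 (Additive R) = 2 := by
    have h := Module.card_eq_pow_finrank (K := F4) (V := Additive R)
    rw [card_four_field, ← Nat.card_eq_fintype_card, show Nat.card (Additive R) = 16 from hRcard] at h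
    exact Nat.pow_right_injective (by norm_num : 2 ≤ 4) (h.symm.trans (by norm_num : 16 = 4 ^ 2))
  obtain ⟨β⟩ : Nonempty (Additive R ≃ₗ[F4] (Fin 2 → F4)) :=
    ⟨(Module.finBasisOfFinrankEq F4 (Additive R) hrank).equivFun⟩
  let pt : (Fin 2 → F4) → Ω := fun w => ((β.symm w).toMul : G) • a
  have hptinj : Function.Injective pt := fun w w' e => by
    refine β.symm.injective (Additive.toMul.injective (Subtype.ext ?_))
    exact (hRu _ (β.symm w).toMul.2 _ e).trans (hRu _ (β.symm w').toMul.2 _ rfl).symm
  let co : Ω → (Fin 2 → F4) := fun c => β (Additive.ofMul ⟨r c, hrR c⟩)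
  have hptco : ∀ c, pt (co c) = c := fun c => by simp [pt, co, hra]
  let L : G → (Fin 2 → F4) ≃ₗ[F4] (Fin 2 → F4) := fun g =>
    β.symm.trans ((LinearEquiv.ofBijective
      ({ toFun := cj g, map_add' := map_add (cj g), map_smul' := fun w x => hlin g w x } :
        Additive R →ₗ[F4] Additive R)
      (Finite.injective_iff_bijective.1 fun x y e => by
        refine Additive.toMul.injective (Subtype.ext ?_)
        have := congrArg (fun z : Additive R => (z.toMul : G)) e
        simp only [LinearMap.coe_mk, AddHom.coe_mk, hcj] at this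
        simpa using this)).trans β)
  have hmain : ∀ g w, g • pt w = pt (L g w + co (g • a)) := by
    intro g w
    show g • ((β.symm w).toMul : G) • a = ((β.symm (L g w + co (g • a))).toMul : G) • a
    rw [map_add, toMul_add, Subgroup.coe_mul, mul_smul]
    have e1 : ((β.symm (L g w)).toMul : G) = g * ((β.symm w).toMul : G) * g⁻¹ := by
      simp [L, hcj]
    rw [e1, show ((β.symm (co (g • a))).toMul : G) = r (g • a) by simp [co], hra, mul_smul, mul_smul,
      inv_smul_smul]
  let Ψ₀ : G → ((Fin 2 → F4) ≃ᵃ[F4] (Fin 2 → F4)) := fun g =>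
    AffineEquiv.mk' (fun w => L g w + co (g • a)) (L g) 0 fun w => by simp
  have hΨ : ∀ g w, Ψ₀ g w = L g w + co (g • a) := fun _ _ => rfl
  let Ψ : G →* ((Fin 2 → F4) ≃ᵃ[F4] (Fin 2 → F4)) := MonoidHom.mk' Ψ₀ fun g g' => by
    refine AffineEquiv.ext fun w => hptinj ?_
    rw [AffineEquiv.coe_mul, Function.comp_apply, hΨ, hΨ, ← hmain, ← hmain, hΨ, ← hmain, mul_smul]
  have hΨinj : Function.Injective Ψ := by
    refine (injective_iff_map_eq_one Ψ).2 fun g hg => Perm.eq_one_of_forall_smul_eq (α := Ω) fun c => ?_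
    rw [← hptco c, hmain]
    exact congrArg pt (DFunLike.congr_fun hg (co c))
  haveI : Finite ((Fin 2 → F4) ≃ₗ[F4] (Fin 2 → F4)) :=
    Finite.of_injective (fun e => (⇑e : (Fin 2 → F4) → (Fin 2 → F4))) DFunLike.coe_injective
  have hinjA : Function.Injective
      (fun e : (Fin 2 → F4) ≃ᵃ[F4] (Fin 2 → F4) => (e 0, e.linear)) := fun e e' h => by
    obtain ⟨h0, hl⟩ := Prod.mk.injEq .. ▸ h
    refine AffineEquiv.ext fun w => ?_
    have h1 := e.map_vadd 0 w
    have h2 := e'.map_vadd 0 w
    simp only [vadd_eq_add, add_zero] at h1 h2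
    rw [h1, h2, h0, hl]
  haveI : Finite ((Fin 2 → F4) ≃ᵃ[F4] (Fin 2 → F4)) := Finite.of_injective _ hinjA
  have hcardA : Nat.card ((Fin 2 → F4) ≃ᵃ[F4] (Fin 2 → F4)) ≤ 2880 := by
    refine (Nat.card_le_card_of_injective _ hinjA).trans ?_
    rw [Nat.card_prod, Nat.card_fun, Nat.card_eq_fintype_card (α := F4), card_four_field, Nat.card_fin,
      ← Nat.card_congr (Matrix.GeneralLinearGroup.toLin.trans
        (LinearMap.GeneralLinearGroup.generalLinearEquiv F4 (Fin 2 → F4))).toEquiv,
      Matrix.card_GL_field, card_four_field, Fin.prod_univ_two]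
    norm_num
  exact ⟨MulEquiv.ofBijective Ψ ((Nat.bijective_iff_injective_and_card Ψ).2
    ⟨hΨinj, le_antisymm (Nat.card_le_card_of_injective Ψ hΨinj) (hGcard ▸ hcardA)⟩)⟩

end Plane

end Cfsg.Agent.TwoTransA4
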