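import Cfsg.Agent.Lib.GW.Assembly
import Cfsg.Agent.Lib.GW.PartII.PartTwoFinal
import Cfsg.Agent.Lib.PSL2.Classes
import Cfsg.Agent.Lib.PSL2.Klein
import Cfsg.Agent.Lib.DihedralSylow.Basic

/-!
# Consequences of the Gorenstein-Walter theorem

* `exists_fourData`: the arithmetic of a core-free group with four-group Sylow 2-subgroups and one
  class of involutions.
-/

set_option autoImplicit false
set_option maxHeartbeats 400000
set_option linter.style.haveILetI false

namespace Cfsg.Agent.TwoTransA4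

open Subgroup Cfsg.Agent.PSL2
open scoped MatrixGroups

theorem mul_self_of_orderOf {G : Type*} [Group G] {x : G} (hx : orderOf x = 2) : x * x = 1 := by
  have := pow_orderOf_eq_one x; rwa [hx, pow_two] at this

theorem orderOf_two {G : Type*} [Group G] {x : G} (h : x * x = 1) (h1 : x ≠ 1) : orderOf x = 2 :=
  orderOf_eq_prime (by rw [pow_two, h]) h1

/-- The number of involutions times the centraliser order is the group order, for one class. -/
theorem invol_mul_centralizer {X : Type*} [Group X] [Finite X]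
    (hone : ∀ x y : X, orderOf x = 2 → orderOf y = 2 → IsConj x y) {i : X} (hi : orderOf i = 2) :
    {x : X | orderOf x = 2}.ncard * Nat.card (centralizer ({i} : Set X)) = Nat.card X := by
  rw [← card_isConj_mul_centralizer i, ← Nat.card_coe_set_eq]
  congr 1
  refine Nat.card_congr (Equiv.subtypeEquivRight fun x => ⟨fun hx => hone i x hi hx, fun hx => ?_⟩)
  obtain ⟨c, rfl⟩ := isConj_iff.1 hx
  show orderOf (MulAut.conj c i) = 2
  rw [MulEquiv.orderOf_eq, hi]

theorem isInvPair_map {X Y : Type*} [Group X] [Group Y] {f : Y →* X} (hf : Function.Injective f) {i w : Y} :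
    IsInvPair (f i) (f w) ↔ IsInvPair i w := by
  unfold IsInvPair
  rw [orderOf_injective f hf, orderOf_injective f hf, hf.ne_iff]
  refine ⟨fun h => ⟨h.1, h.2.1, hf (by rw [map_mul, map_mul]; exact h.2.2.1), h.2.2.2⟩,
    fun h => ⟨h.1, h.2.1, h.2.2.1.map f, h.2.2.2⟩⟩

/-- Each involution `i` commutes with `2 a` others, each inverting an element of order `a` of `C(i)`. -/
def InvShape (X : Type*) [Group X] (a : ℕ) : Prop :=
  ∀ i : X, orderOf i = 2 → {w | IsInvPair i w}.ncard = 2 * a ∧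
    ∀ w, IsInvPair i w → ∃ x, orderOf x = a ∧ Commute x i ∧ w * x * w⁻¹ = x⁻¹

theorem InvShape.map {X Y : Type*} [Group X] [Group Y] {a : ℕ} (h : InvShape Y a) (f : Y →* X)
    (hf : Function.Injective f) (hr : ∀ x : X, orderOf x = 2 → x ∈ f.range) : InvShape X a := by
  intro i hi
  obtain ⟨j, rfl⟩ := hr i hi
  obtain ⟨h1, h2⟩ := h j (by rwa [orderOf_injective f hf] at hi)
  constructor
  · rw [← h1, ← Set.ncard_image_of_injective _ hf]
    congr 1
    ext w
    constructor
    · intro hw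
      obtain ⟨v, rfl⟩ := hr w hw.2.1
      exact ⟨v, (isInvPair_map hf).1 hw, rfl⟩
    · rintro ⟨v, hv, rfl⟩
      exact (isInvPair_map hf).2 hv
  · intro w hw
    obtain ⟨v, rfl⟩ := hr w hw.2.1
    obtain ⟨x, hx, hxi, hxv⟩ := h2 v ((isInvPair_map hf).1 hw)
    exact ⟨f x, by rw [orderOf_injective f hf, hx], hxi.map f, by rw [← map_inv, ← map_mul, ← map_mul, hxv, map_inv]⟩

theorem eight_not_dvd {X : Type*} [Group X] [Finite X] (hS : ∀ S : Sylow 2 X, IsKleinFour (S : Subgroup X)) :
    ¬ 8 ∣ Nat.card X := by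
  haveI := Fact.mk Nat.prime_two
  intro h
  obtain ⟨H, hH⟩ := Sylow.exists_subgroup_card_pow_prime 2 (n := 3) h
  obtain ⟨S, hle⟩ := (IsPGroup.of_card hH).exists_le_sylow
  have := Subgroup.card_dvd_of_le hle
  rw [hH, (hS S).card_four] at this
  omega

theorem alt_four_shape : (∀ i : alternatingGroup (Fin 4), i * i = 1 → i ≠ 1 →
      (Finset.univ.filter fun w : alternatingGroup (Fin 4) =>
        w * w = 1 ∧ w ≠ 1 ∧ i * w = w * i ∧ i ≠ w).card = 2) ∧
    (Finset.univ.filter fun i : alternatingGroup (Fin 4) => i * i = 1 ∧ i ≠ 1).card = 3 := by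
  decide

theorem orderOf_eq_two_iff' {G : Type*} [Group G] {x : G} : orderOf x = 2 ↔ x * x = 1 ∧ x ≠ 1 :=
  ⟨fun h => ⟨mul_self_of_orderOf h, fun e => by rw [e, orderOf_one] at h; omega⟩,
    fun h => orderOf_two h.1 h.2⟩

theorem shape_alt_four : InvShape (alternatingGroup (Fin 4)) 1 ∧
    {x : alternatingGroup (Fin 4) | orderOf x = 2}.ncard = 3 := by
  classical
  refine ⟨fun i hi => ⟨?_, fun w _ => ⟨1, orderOf_one, Commute.one_left i, by group⟩⟩, ?_⟩
  · obtain ⟨h1, h2⟩ := orderOf_eq_two_iff'.1 hi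
    rw [mul_one, ← alt_four_shape.1 i h1 h2, ← Set.ncard_coe_finset]
    congr 1
    ext w
    simp only [Set.mem_ofPred, Finset.coe_filter, Finset.mem_univ, true_and, IsInvPair,
      orderOf_eq_two_iff', Commute, SemiconjBy]
    tauto
  · rw [← alt_four_shape.2, ← Set.ncard_coe_finset]
    congr 1
    ext w
    simp [orderOf_eq_two_iff']

theorem card_pairs_dihedral {n : ℕ} [NeZero n] (h3 : 3 ≤ n) (hn : 2 ∣ n) {z : DihedralGroup n}
    (hz : orderOf z = 2) (hcz : ∀ d, z * d = d * z) :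
    {d | IsInvPair z d}.ncard = n ∧ ∀ d, IsInvPair z d → d * .r 2 * d⁻¹ = (.r 2)⁻¹ := by
  obtain ⟨hz2, hz1⟩ := orderOf_eq_two_iff'.1 hz
  obtain ⟨k, rfl⟩ : ∃ k, z = .r k := by
    rcases z with k | k
    · exact ⟨k, rfl⟩
    · have := hcz (.r 1)
      rw [DihedralGroup.sr_mul_r, DihedralGroup.r_mul_sr, DihedralGroup.sr.injEq] at this
      have h2 : (2 : ZMod n) = 0 := by linear_combination this
      rw [show (2 : ZMod n) = ((2 : ℕ) : ZMod n) by norm_num, ZMod.natCast_eq_zero_iff] at h2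
      exact absurd (Nat.le_of_dvd (by omega) h2) (by omega)
  rw [DihedralGroup.r_mul_r, DihedralGroup.one_def, DihedralGroup.r.injEq] at hz2
  have hkh : k = DihedralSylow.half n := (DihedralSylow.eq_zero_or_half hz2).resolve_left fun e =>
    hz1 (by rw [e, DihedralGroup.r_zero])
  have hset : {d | IsInvPair (DihedralGroup.r k) d} = Set.range DihedralGroup.sr := by
    ext d
    constructor
    · rintro ⟨-, h2, -, hne⟩
      rcases d with i | i
      · exfalso
        obtain ⟨hi2, hi1⟩ := orderOf_eq_two_iff'.1 h2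
        rw [DihedralGroup.r_mul_r, DihedralGroup.one_def, DihedralGroup.r.injEq] at hi2
        rcases DihedralSylow.eq_zero_or_half hi2 with e | e
        · exact hi1 (by rw [e, DihedralGroup.r_zero])
        · exact hne (by rw [e, hkh])
      · exact ⟨i, rfl⟩
    · rintro ⟨i, rfl⟩
      exact ⟨hz, DihedralGroup.orderOf_sr i, hcz _, by simp⟩
  refine ⟨?_, fun d hd => ?_⟩
  · rw [hset, Set.ncard_range_of_injective fun i j e => DihedralGroup.sr.inj e, Nat.card_zmod]
  · obtain ⟨i, rfl⟩ := hset.subset hd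
    rw [mul_inv_eq_iff_eq_mul, DihedralGroup.inv_r, DihedralGroup.sr_mul_r, DihedralGroup.r_mul_sr,
      sub_neg_eq_add]

theorem shape_psl {F : Type*} [Field F] [Fintype F] (h2 : (2 : F) ≠ 0) (hq : 3 < Fintype.card F)
    (h8 : ¬ 8 ∣ Nat.card PSL(2, F)) :
    ∃ a m, Odd a ∧ InvShape PSL(2, F) a ∧ {x : PSL(2, F) | orderOf x = 2}.ncard = m ∧
      ((2 ≤ a ∧ m + 6 * a = 8 * a * a + 1) ∨ m = 8 * a * a + 6 * a + 1) := by
  set P := PSL(2, F) with hP
  set q := Fintype.card F with hqq
  obtain ⟨kq, hkq⟩ := (odd_card_iff.2 h2 : Odd q)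
  have heven : 2 ∣ Nat.card P := by
    have h : 2 * Nat.card P = q * (q ^ 2 - 1) := two_mul_card_PSL h2
    have h4 : 4 ∣ q * (q ^ 2 - 1) := by
      refine Dvd.dvd.mul_left ⟨kq * kq + kq, ?_⟩ q
      rw [show q = 2 * kq + 1 from hkq]; ring_nf; omega
    omega
  haveI := Fact.mk Nat.prime_two
  obtain ⟨i, hi⟩ := exists_prime_orderOf_dvd_card' 2 heven
  have hone : ∀ x y : P, orderOf x = 2 → orderOf y = 2 → IsConj x y :=
    fun x y hx hy => psl_involutions_isConj hx hy
  have hcases : ∃ a, 0 < a ∧ (∀ j : P, orderOf j = 2 →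
      Nonempty (centralizer ({j} : Set P) ≃* DihedralGroup (2 * a))) ∧ (q = 4 * a + 1 ∨ q + 1 = 4 * a) := by
    rcases (show q % 4 = 1 ∨ q % 4 = 3 by omega) with hm | hm
    · refine ⟨q / 4, by omega, fun j hj => ?_, Or.inl (by omega)⟩
      obtain ⟨n, ⟨hn, -⟩ | ⟨-, hn⟩, e⟩ := dihedral_centralizer_involution h2 hj
      · rwa [show 2 * (q / 4) = n by rw [hn, ← hqq]; omega]
      · rw [← hqq] at hn; omega
    · refine ⟨(q + 1) / 4, by omega, fun j hj => ?_, Or.inr (by omega)⟩
      obtain ⟨n, ⟨-, hn⟩ | ⟨hn, -⟩, e⟩ := dihedral_centralizer_involution h2 hj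
      · rw [← hqq] at hn; omega
      · rwa [show 2 * ((q + 1) / 4) = n by rw [hn, ← hqq]; omega]
  obtain ⟨a, ha0, hD, hqa⟩ := hcases
  haveI : NeZero (2 * a) := ⟨by omega⟩
  have hC : Nat.card (centralizer ({i} : Set P)) = 4 * a := by
    obtain ⟨e⟩ := hD i hi
    rw [Nat.card_congr e.toEquiv, DihedralGroup.nat_card]
    ring
  have hodd : Odd a := by
    rw [Nat.odd_iff]
    by_contra h
    refine h8 (Dvd.dvd.trans ?_ (centralizer ({i} : Set P)).card_subgroup_dvd_card)
    rw [hC]
    omega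
  have hshape : InvShape P a := by
    intro j hj
    obtain ⟨e⟩ := hD j hj
    set C := centralizer ({j} : Set P) with hCdef
    have hjC : j ∈ C := mem_centralizer_singleton_iff.2 rfl
    have hin : ∀ w, IsInvPair j w → w ∈ C := fun w hw => mem_centralizer_singleton_iff.2 hw.2.2.1.eq.symm
    let f : DihedralGroup (2 * a) →* P := C.subtype.comp e.symm.toMonoidHom
    have hf : Function.Injective f := C.subtype_injective.comp e.symm.injective
    have hfz : f (e ⟨j, hjC⟩) = j := by simp [f]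
    have hz : orderOf (e ⟨j, hjC⟩) = 2 := by rw [← orderOf_injective f hf, hfz, hj]
    have hcz : ∀ d, e ⟨j, hjC⟩ * d = d * e ⟨j, hjC⟩ := by
      intro d
      refine hf ?_
      rw [map_mul, map_mul, hfz]
      exact (mem_centralizer_singleton_iff.1 (e.symm d).2).symm
    have himg : {w | IsInvPair j w} = f '' {d | IsInvPair (e ⟨j, hjC⟩) d} := by
      ext w
      constructor
      · intro hw
        refine ⟨e ⟨w, hin w hw⟩, (isInvPair_map hf).1 ?_, by simp [f]⟩
        rwa [hfz, show f (e ⟨w, hin w hw⟩) = w by simp [f]]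
      · rintro ⟨d, hd, rfl⟩
        have := (isInvPair_map hf).2 hd
        rwa [hfz] at this
    rw [himg, Set.ncard_image_of_injective _ hf]
    rcases Nat.lt_or_ge a 2 with ha | ha
    · obtain rfl : a = 1 := by omega
      refine ⟨?_, fun w _ => ⟨1, orderOf_one, Commute.one_left j, by group⟩⟩
      have hK : ∀ d : DihedralGroup (2 * 1), d * d = 1 := by decide
      have hset : {d | IsInvPair (e ⟨j, hjC⟩) d} = ({1, e ⟨j, hjC⟩} : Set (DihedralGroup (2 * 1)))ᶜ := by
        ext d
        simp only [Set.mem_ofPred, Set.mem_compl_iff, Set.mem_insert_iff, Set.mem_singleton_iff]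
        refine ⟨fun h => not_or.2 ⟨fun e => ?_, h.2.2.2.symm⟩, fun h => ?_⟩
        · have := h.2.1; rw [e, orderOf_one] at this; omega
        · obtain ⟨h1, h2'⟩ := not_or.1 h
          exact ⟨hz, orderOf_two (hK d) h1, hcz d, Ne.symm h2'⟩
      rw [hset, Set.ncard_compl, Set.ncard_pair (fun e1 => by rw [← e1, orderOf_one] at hz; omega),
        DihedralGroup.nat_card]
    · obtain ⟨h1, h2'⟩ := card_pairs_dihedral (by omega) ⟨a, rfl⟩ hz hcz
      refine ⟨h1, fun w hw => ⟨f (.r 2), ?_, ?_, ?_⟩⟩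
      · rw [orderOf_injective f hf,
          show (DihedralGroup.r 2 : DihedralGroup (2 * a)) = .r 1 ^ 2 from (DihedralGroup.r_one_pow 2).symm,
          orderOf_pow, DihedralGroup.orderOf_r_one, Nat.gcd_eq_right ⟨a, rfl⟩]
        omega
      · have := (show Commute (DihedralGroup.r 2) (e ⟨j, hjC⟩) from (hcz _).symm).map f
        rwa [hfz] at this
      · obtain ⟨d, hd, rfl⟩ := himg.subset hw
        rw [← map_inv, ← map_mul, ← map_mul, h2' d hd, map_inv]
  refine ⟨a, _, hodd, hshape, rfl, ?_⟩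
  have h1 := invol_mul_centralizer hone hi
  rw [hC] at h1
  have h2' := two_mul_card_PSL h2
  rw [← hqq, ← h1, Nat.mul_sub_one] at h2'
  set m := {x : P | orderOf x = 2}.ncard
  have hle : q ≤ q * q ^ 2 := Nat.le_mul_of_pos_right q (by positivity)
  zify [hle] at h2'
  rcases hqa with e | e
  · right
    have e' : (q : ℤ) = 4 * a + 1 := by exact_mod_cast e
    rw [e'] at h2'
    have : (m : ℤ) * (8 * a) = (8 * a * a + 6 * a + 1) * (8 * a) := by linear_combination h2'
    exact_mod_cast mul_right_cancel₀ (by omega) this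
  · left
    refine ⟨by omega, ?_⟩
    have e' : (q : ℤ) = 4 * a - 1 := by
      have h' : (q : ℤ) + 1 = 4 * a := by exact_mod_cast e
      linarith
    rw [e'] at h2'
    have : ((m : ℤ) + 6 * a) * (8 * a) = (8 * a * a + 1) * (8 * a) := by linear_combination h2'
    exact_mod_cast mul_right_cancel₀ (by omega) this

/-- The data of a core-free group with four-group Sylow 2-subgroups and one class of involutions. -/
theorem exists_fourData {X : Type*} [Group X] [Finite X]
    (hS : ∀ S : Sylow 2 X, IsKleinFour (S : Subgroup X)) (hO : Cfsg.oddCore X = ⊥)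
    (hone : ∀ x y : X, orderOf x = 2 → orderOf y = 2 → IsConj x y) :
    ∃ a m : ℕ, Odd a ∧
      ((a = 1 ∧ m = 3) ∨ (2 ≤ a ∧ m + 6 * a = 8 * a * a + 1) ∨ m = 8 * a * a + 6 * a + 1) ∧
      (∀ i : X, orderOf i = 2 → m * Nat.card (centralizer ({i} : Set X)) = Nat.card X) ∧
      (∀ (i : X) (V : Subgroup X), orderOf i = 2 → IsKleinFour V →
        3 * Nat.card (centralizer ({i} : Set X)) = a * Nat.card (normalizer (V : Set X))) ∧
      InvShape X a := by
  haveI := Fact.mk Nat.prime_two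
  have h8 := eight_not_dvd hS
  suffices key : ∃ a m : ℕ, Odd a ∧
      ((a = 1 ∧ m = 3) ∨ (2 ≤ a ∧ m + 6 * a = 8 * a * a + 1) ∨ m = 8 * a * a + 6 * a + 1) ∧
      InvShape X a ∧ {x : X | orderOf x = 2}.ncard = m by
    obtain ⟨a, m, hodd, hm, hsh, hcount⟩ := key
    refine ⟨a, m, hodd, hm, fun i hi => hcount ▸ invol_mul_centralizer hone hi, fun i V hi hV => ?_, hsh⟩
    obtain ⟨S₀⟩ : Nonempty (Sylow 2 X) := inferInstance
    have hsyl : ∀ W : Subgroup X, IsKleinFour W → ∃ S : Sylow 2 X, (S : Subgroup X) = W := fun W hW => by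
      obtain ⟨S, hle⟩ := (IsPGroup.of_card (p := 2) (n := 2) (G := W) hW.card_four).exists_le_sylow
      exact ⟨S, (Subgroup.eq_of_le_of_card_ge hle (by rw [hW.card_four, (hS S).card_four])).symm⟩
    have hcard : Nat.card {W : Subgroup X // IsKleinFour W} = Nat.card (Sylow 2 X) :=
      (Nat.card_congr (Equiv.ofBijective (fun S : Sylow 2 X => (⟨S, hS S⟩ : {W : Subgroup X // IsKleinFour W}))
        ⟨fun S T e => Sylow.ext (congrArg Subtype.val e), fun W => by
          obtain ⟨S, hS'⟩ := hsyl W.1 W.2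
          exact ⟨S, Subtype.ext hS'⟩⟩)).symm
    obtain ⟨S, rfl⟩ := hsyl V hV
    have h1 := card_isInvPair (G := X)
    rw [hcard, Sylow.card_eq_index_normalizer S] at h1
    change _ = 6 * (normalizer ((S : Subgroup X) : Set X)).index at h1
    have h2 : Nat.card {p : X × X // IsInvPair p.1 p.2} = m * (2 * a) := by
      classical
      haveI := Fintype.ofFinite X
      let e : {p : X × X // IsInvPair p.1 p.2} ≃ Σ i : {x : X // orderOf x = 2}, {w : X // IsInvPair i.1 w} :=
        { toFun := fun p => ⟨⟨p.1.1, p.2.1⟩, ⟨p.1.2, p.2⟩⟩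
          invFun := fun p => ⟨(p.1.1, p.2.1), p.2.2⟩
          left_inv := fun _ => rfl
          right_inv := fun _ => rfl }
      have hh : ∀ j : {x : X // orderOf x = 2}, Nat.card {w : X // IsInvPair j.1 w} = 2 * a := fun j =>
        (Nat.card_coe_set_eq {w | IsInvPair j.1 w}).trans (hsh j.1 j.2).1
      rw [Nat.card_congr e, Nat.card_sigma, Finset.sum_congr rfl fun j _ => hh j, Finset.sum_const, smul_eq_mul,
        ← hcount, Finset.card_univ, ← Nat.card_eq_fintype_card, ← Nat.card_coe_set_eq]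
      rfl
    rw [h2] at h1
    have h3 := Subgroup.index_mul_card (normalizer ((S : Subgroup X) : Set X))
    have h4 := invol_mul_centralizer hone hi
    rw [hcount] at h4
    have hm0 : 0 < m := Nat.pos_of_ne_zero fun e => by
      rw [e, zero_mul] at h4; exact absurd h4.symm Nat.card_pos.ne'
    refine Nat.eq_of_mul_eq_mul_left hm0 ?_
    set idx := (normalizer ((S : Subgroup X) : Set X)).index
    set N := Nat.card (normalizer ((S : Subgroup X) : Set X))
    have h5 : m * (2 * a) * N = 6 * (idx * N) := by rw [h1]; ring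
    rw [h3, ← h4] at h5
    linarith [h5, mul_comm m a, mul_left_comm m a N, mul_assoc m a N, mul_left_comm 2 m (a * N)]
  have hd : GW.SubDihedral X := fun S => by
    haveI := hS S
    exact Or.inr ⟨2, le_rfl, IsKleinFour.nonempty_mulEquiv⟩
  obtain ⟨S₀⟩ : Nonempty (Sylow 2 X) := inferInstance
  rcases GW.structure_of_oddCore_eq_bot hd (GW.knownSections GW.partTwo) hO with
    hp | ⟨⟨e⟩⟩ | ⟨⟨e⟩⟩ | ⟨E, hEn, -, hEk, -⟩
  · exfalso
    have htop : (S₀ : Subgroup X) = ⊤ := (S₀.3 (hp.to_subgroup ⊤) le_top).symm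
    haveI := hS S₀
    obtain ⟨a, ha, ha1, -⟩ := exists_mem_ne (hS S₀) 1
    obtain ⟨b, hb, hb1, hba⟩ := exists_mem_ne (hS S₀) a
    obtain ⟨c, hc⟩ := isConj_iff.1
      (hone a b (orderOf_eq_two_of_mem_klein (hS S₀) ha ha1) (orderOf_eq_two_of_mem_klein (hS S₀) hb hb1))
    have hcS : c ∈ (S₀ : Subgroup X) := htop ▸ mem_top c
    have := congrArg Subtype.val
      ((IsKleinFour.isMulCommutative (G := (S₀ : Subgroup X))).is_comm.comm ⟨c, hcS⟩ ⟨a, ha⟩)
    apply hba
    rw [← hc]
    simp only [Subgroup.coe_mul] at this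
    rw [this]; group
  · refine ⟨1, 3, odd_one, Or.inl ⟨rfl, rfl⟩, shape_alt_four.1.map e.symm.toMonoidHom e.symm.injective
      (fun x _ => ⟨e x, e.symm_apply_apply x⟩), ?_⟩
    rw [← shape_alt_four.2, ← Set.ncard_image_of_injective {x : X | orderOf x = 2} e.injective]
    congr 1
    ext y
    exact ⟨fun ⟨x, hx, hxy⟩ => hxy ▸ (MulEquiv.orderOf_eq e x).trans hx,
      fun hy => ⟨e.symm y, (MulEquiv.orderOf_eq e.symm y).trans hy, e.apply_symm_apply y⟩⟩
  · exfalso
    apply h8
    rw [Nat.card_congr e.toEquiv, Nat.card_perm, Nat.card_fin]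
    decide
  · obtain ⟨j, hj⟩ := exists_prime_orderOf_dvd_card' (G := E) 2 hEk.even_card
    have hr : ∀ x : X, orderOf x = 2 → x ∈ E := fun x hx => by
      obtain ⟨c, rfl⟩ := isConj_iff.1 (hone j x (by rwa [Subgroup.orderOf_coe]) hx)
      exact hEn.conj_mem _ j.2 c
    rcases hEk with ⟨F, iF, iF', hodd, hq, ⟨ψ⟩⟩ | ⟨⟨ψ⟩⟩
    · have h2 := odd_card_iff.1 hodd
      obtain ⟨a, m, ha, hsh, hc, hm⟩ := shape_psl h2 hq fun h => h8
        (h.trans (by rw [← Nat.card_congr ψ.toEquiv]; exact E.card_subgroup_dvd_card))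
      let f : PSL(2, F) →* X := E.subtype.comp ψ.symm.toMonoidHom
      have hf : Function.Injective f := E.subtype_injective.comp ψ.symm.injective
      have hfr : ∀ x : X, orderOf x = 2 → x ∈ f.range := fun x hx => ⟨ψ ⟨x, hr x hx⟩, by simp [f]⟩
      refine ⟨a, m, ha, Or.inr hm, hsh.map f hf hfr, ?_⟩
      rw [← hc, ← Set.ncard_image_of_injective _ hf]
      congr 1
      ext x
      refine ⟨fun hx => ?_, fun ⟨y, hy, hxy⟩ => hxy ▸ (orderOf_injective f hf y).trans hy⟩
      obtain ⟨y, rfl⟩ := hfr x hx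
      exact ⟨y, (orderOf_injective f hf y).symm.trans hx, rfl⟩
    · exfalso
      refine h8 (Dvd.dvd.trans ?_ E.card_subgroup_dvd_card)
      rw [Nat.card_congr ψ.toEquiv, nat_card_alternatingGroup, Nat.card_fin]
      decide

end Cfsg.Agent.TwoTransA4
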