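import Cfsg.Agent.Lib.TwoTransA4.Count
import Cfsg.Agent.Lib.TwoTransA4.Local
import Cfsg.Agent.Lib.Perm.Transitive

/-!
# Doubly transitive groups with two-point stabilisers `A₄`

Two-point stabilisers, their four-groups, the centraliser of an involution with at least two fixed points and
the involutions exchanging two given points.
-/

set_option autoImplicit false
set_option maxHeartbeats 400000
set_option linter.style.haveILetI false
set_option linter.unusedSectionVars false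

namespace Cfsg.Agent.TwoTransA4

open Subgroup MulAction

variable {G : Type*} [Group G] {Ω : Type*} [MulAction G Ω]

variable (G) in
/-- The hypothesis: doubly transitive, all two-point stabilisers are `A₄`. -/
structure Setup (Ω : Type*) [MulAction G Ω] : Prop where
  h2 : IsMultiplyPretransitive G Ω 2
  alt : ∀ c d : Ω, c ≠ d →
    Nonempty (↥(stabilizer G c ⊓ stabilizer G d) ≃* alternatingGroup (Fin 4))

/-- The two-point stabiliser. -/
abbrev pair (G : Type*) [Group G] {Ω : Type*} [MulAction G Ω] (c d : Ω) : Subgroup G :=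
  stabilizer G c ⊓ stabilizer G d

/-- The subgroup generated by the involutions fixing two given points. -/
def four (G : Type*) [Group G] {Ω : Type*} [MulAction G Ω] (c d : Ω) : Subgroup G :=
  Subgroup.closure {x | x ∈ pair G c d ∧ x * x = 1}

/-- An involution with at least two fixed points. -/
def InU (Ω : Type*) [MulAction G Ω] (x : G) : Prop :=
  x ≠ 1 ∧ x * x = 1 ∧ ∃ c d : Ω, c ≠ d ∧ x • c = c ∧ x • d = d

/-- The fixed points of `x`. -/
def fixE (Ω : Type*) [MulAction G Ω] (x : G) : Set Ω := {c | x • c = c}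

/-- The points fixed by a subgroup. -/
def fixS (Ω : Type*) [MulAction G Ω] (K : Subgroup G) : Set Ω := {c | ∀ x ∈ K, x • c = c}

/-- The involutions mapping `c` to `d`. -/
def Sw (G : Type*) [Group G] {Ω : Type*} [MulAction G Ω] (c d : Ω) : Set G :=
  {t | t * t = 1 ∧ t • c = d}

theorem mem_pair {c d : Ω} {x : G} : x ∈ pair G c d ↔ x • c = c ∧ x • d = d := by
  simp only [pair, Subgroup.mem_inf, mem_stabilizer_iff]

theorem conj_mem_pair {c d : Ω} {x : G} (g : G) (hx : x ∈ pair G c d) :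
    g * x * g⁻¹ ∈ pair G (g • c) (g • d) := by
  rw [mem_pair] at hx ⊢
  simp only [mul_smul, inv_smul_smul, hx, and_self]

theorem smul_of_mem {t : G} {c d : Ω} (ht : t ∈ Sw G c d) : t • d = c := by
  rw [← ht.2, ← mul_smul, ht.1, one_smul]

theorem mul_mem_pair {s t : G} {c d : Ω} (hs : s ∈ Sw G c d) (ht : t ∈ Sw G c d) : t * s ∈ pair G c d :=
  mem_pair.2 ⟨by rw [mul_smul, hs.2, smul_of_mem ht], by rw [mul_smul, smul_of_mem hs, ht.2]⟩

theorem conj_mem_Sw {c d : Ω} {t : G} (g : G) (ht : t ∈ Sw G c d) :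
    g * t * g⁻¹ ∈ Sw G (g • c) (g • d) := by
  refine ⟨?_, by rw [mul_smul, mul_smul, inv_smul_smul, ht.2]⟩
  rw [show g * t * g⁻¹ * (g * t * g⁻¹) = g * (t * t) * g⁻¹ by group, ht.1]; group

theorem InU.conj {x : G} (hx : InU Ω x) (g : G) : InU Ω (g * x * g⁻¹) := by
  obtain ⟨h1, h2, c, d, hcd, hc, hd⟩ := hx
  refine ⟨fun e => h1 (conj_eq_one_iff.1 e), ?_, g • c, g • d, fun e => hcd (smul_left_cancel g e), ?_, ?_⟩
  · rw [show g * x * g⁻¹ * (g * x * g⁻¹) = g * (x * x) * g⁻¹ by group, h2]; group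
  · rw [mul_smul, mul_smul, inv_smul_smul, hc]
  · rw [mul_smul, mul_smul, inv_smul_smul, hd]

theorem inU_conj_iff {x : G} (g : G) : InU Ω x ↔ InU Ω (g * x * g⁻¹) :=
  ⟨fun h => h.conj g, fun h => by have := h.conj g⁻¹; simpa [mul_assoc] using this⟩

theorem fixE_conj (g x : G) : fixE Ω (g * x * g⁻¹) = (fun c => g • c) '' fixE Ω x := by
  ext c
  refine ⟨fun hc => ⟨g⁻¹ • c, ?_, smul_inv_smul g c⟩, ?_⟩
  · show x • g⁻¹ • c = g⁻¹ • c
    conv_rhs => rw [← hc]
    simp [mul_smul]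
  · rintro ⟨b, hb, rfl⟩
    show (g * x * g⁻¹) • g • b = g • b
    rw [mul_smul, mul_smul, inv_smul_smul, hb]

theorem smul_mem_fixE {g x : G} (h : Commute g x) {c : Ω} (hc : c ∈ fixE Ω x) : g • c ∈ fixE Ω x := by
  show x • g • c = g • c
  rw [← mul_smul, ← h.eq, mul_smul, hc]

/-- An involution, on an invariant set, has as many fixed points as the set has points, modulo 2. -/
theorem ncard_fix_mod_two [Finite Ω] {t : G} {X : Set Ω} (hpres : ∀ c ∈ X, t • c ∈ X)
    (hinv : ∀ c ∈ X, t • t • c = c) : {c ∈ X | t • c = c}.ncard % 2 = X.ncard % 2 := by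
  classical
  have hsub : {c ∈ X | t • c = c} ⊆ X := fun c hc => hc.1
  have hfin : (X \ {c ∈ X | t • c = c}).Finite := Set.toFinite _
  have h := Finset.sum_involution (s := hfin.toFinset) (f := fun _ => (1 : ZMod 2)) (fun c _ => t • c)
    (fun _ _ => rfl) (fun c hc _ => ?_) (fun c hc => ?_) (fun c hc => ?_)
  · rw [Finset.sum_const, nsmul_eq_mul, mul_one, ZMod.natCast_eq_zero_iff,
      ← Set.ncard_eq_toFinset_card _ hfin, Set.ncard_sdiff hsub] at h
    have := Set.ncard_le_ncard hsub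
    omega
  · have hc' := hfin.mem_toFinset.1 hc
    exact fun e => hc'.2 ⟨hc'.1, e⟩
  · have hc' := hfin.mem_toFinset.1 hc
    refine hfin.mem_toFinset.2 ⟨hpres c hc'.1, fun e => hc'.2 ⟨hc'.1, ?_⟩⟩
    have := e.2
    rw [hinv c hc'.1] at this
    exact this.symm
  · exact hinv c (hfin.mem_toFinset.1 hc).1

/-- The order of a subgroup from one orbit. -/
theorem card_eq_ncard_mul [Finite G] (M : Subgroup G) (c : Ω) (X : Set Ω) (h1 : ∀ m ∈ M, m • c ∈ X)
    (h2 : ∀ d ∈ X, ∃ m ∈ M, m • c = d) :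
    Nat.card M = X.ncard * Nat.card ↥(M ⊓ stabilizer G c) := by
  have horb : orbit M c = X := by
    ext d
    refine ⟨fun ⟨m, hm⟩ => hm ▸ h1 m m.2, fun hd => ?_⟩
    obtain ⟨m, hm, e⟩ := h2 d hd
    exact ⟨⟨m, hm⟩, e⟩
  have hmap : M ⊓ stabilizer G c = (stabilizer M c).map M.subtype := by
    ext x
    simp only [Subgroup.mem_map, Subgroup.mem_inf, mem_stabilizer_iff]
    exact ⟨fun h => ⟨⟨x, h.1⟩, h.2, rfl⟩, fun ⟨m, hm, e⟩ => e ▸ ⟨m.2, hm⟩⟩
  rw [← horb, ← Nat.card_coe_set_eq, hmap, Subgroup.card_map_of_injective M.subtype_injective,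
    ← Nat.card_prod]
  exact Nat.card_congr (orbitProdStabilizerEquivGroup M c).symm

set_option synthInstance.maxHeartbeats 200000 in
set_option synthInstance.maxSize 1024 in
theorem alt_facts : (∀ x y : alternatingGroup (Fin 4), x * x = 1 → y * y = 1 → x * y * (x * y) = 1) ∧
    (∀ x y : alternatingGroup (Fin 4), x * x = 1 → x ≠ 1 → y * y = 1 → y ≠ 1 → ∃ z, z * x * z⁻¹ = y) ∧
    (∀ x z : alternatingGroup (Fin 4), x * x = 1 → x ≠ 1 → z * x = x * z → z * z = 1) ∧
    (Finset.univ.filter fun x : alternatingGroup (Fin 4) => x * x = 1).card = 4 ∧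
    (∀ z : alternatingGroup (Fin 4), z * z = 1 ∨ z * z * z = 1) := by
  refine ⟨?_, ?_, ?_, ?_, ?_⟩ <;> decide

namespace Setup

variable [Finite G] [Finite Ω] [FaithfulSMul G Ω] (hS : Setup G Ω)
include hS

theorem four_eq {c d : Ω} (hcd : c ≠ d) {x : G} : x ∈ four G c d ↔ x ∈ pair G c d ∧ x * x = 1 := by
  obtain ⟨e⟩ := hS.alt c d hcd
  refine ⟨fun hx => ?_, fun hx => Subgroup.subset_closure hx⟩
  refine Subgroup.closure_induction (p := fun x _ => x ∈ pair G c d ∧ x * x = 1)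
    (fun x hx => hx) ⟨one_mem _, one_mul 1⟩ ?_ ?_ hx
  · rintro x y - - ⟨hx, hx2⟩ ⟨hy, hy2⟩
    refine ⟨mul_mem hx hy, ?_⟩
    have key := alt_facts.1 (e ⟨x, hx⟩) (e ⟨y, hy⟩) (by rw [← map_mul, ← map_one e]; exact congrArg e (Subtype.ext hx2))
      (by rw [← map_mul, ← map_one e]; exact congrArg e (Subtype.ext hy2))
    rw [← map_mul, ← map_mul, MulEquiv.map_eq_one_iff] at key
    exact congrArg Subtype.val key
  · rintro x - ⟨hx, hx2⟩
    exact ⟨inv_mem hx, by rw [← mul_inv_rev, hx2, inv_one]⟩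

theorem four_le {c d : Ω} (hcd : c ≠ d) {x : G} (hx : x ∈ four G c d) : x • c = c ∧ x • d = d :=
  mem_pair.1 ((hS.four_eq hcd).1 hx).1

theorem four_sq {c d : Ω} (hcd : c ≠ d) {x : G} (hx : x ∈ four G c d) : x * x = 1 :=
  ((hS.four_eq hcd).1 hx).2

theorem four_inU {c d : Ω} (hcd : c ≠ d) {x : G} (hx : x ∈ four G c d) (h1 : x ≠ 1) : InU Ω x :=
  ⟨h1, hS.four_sq hcd hx, c, d, hcd, hS.four_le hcd hx⟩

theorem four_comm {c d : Ω} (hcd : c ≠ d) {x y : G} (hx : x ∈ four G c d) (hy : y ∈ four G c d) :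
    Commute x y := by
  have h := hS.four_sq hcd (mul_mem hx hy)
  show x * y = y * x
  calc x * y = (x * x) * (y * x)  * (x * y * (x * y)) := by
        rw [h, hS.four_sq hcd hx, one_mul, mul_one, ← inv_eq_of_mul_eq_one_right h, mul_inv_rev,
          inv_eq_of_mul_eq_one_right (hS.four_sq hcd hx), inv_eq_of_mul_eq_one_right (hS.four_sq hcd hy)]
    _ = y * x := by rw [h, hS.four_sq hcd hx, one_mul, mul_one]

theorem card_pair {c d : Ω} (hcd : c ≠ d) : Nat.card (pair G c d) = 12 := by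
  obtain ⟨e⟩ := hS.alt c d hcd
  rw [Nat.card_congr e.toEquiv, nat_card_alternatingGroup, Nat.card_fin]
  decide

theorem card_four {c d : Ω} (hcd : c ≠ d) : Nat.card (four G c d) = 4 := by
  classical
  obtain ⟨e⟩ := hS.alt c d hcd
  rw [← alt_facts.2.2.2.1, ← Nat.card_eq_finsetCard]
  refine Nat.card_congr ⟨fun x => ⟨e ⟨x, ((hS.four_eq hcd).1 x.2).1⟩, ?_⟩,
    fun y => ⟨(e.symm y.1 : G), (hS.four_eq hcd).2 ⟨(e.symm y.1).2, ?_⟩⟩, fun x => by simp, fun y => by simp⟩
  · rw [Finset.mem_filter, ← map_mul, MulEquiv.map_eq_one_iff]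
    exact ⟨Finset.mem_univ _, Subtype.ext (hS.four_sq hcd x.2)⟩
  · have hy := (Finset.mem_filter.1 y.2).2
    rw [← Subgroup.coe_mul, ← map_mul, hy, map_one, Subgroup.coe_one]

theorem isKlein {c d : Ω} (hcd : c ≠ d) : IsKleinFour (four G c d) := by
  refine ⟨hS.card_four hcd, ?_⟩
  have hdvd : Monoid.exponent (four G c d) ∣ 2 :=
    Monoid.exponent_dvd_of_forall_pow_eq_one fun x => by
      rw [pow_two]; exact Subtype.ext (hS.four_sq hcd x.2)
  rcases (Nat.dvd_prime Nat.prime_two).1 hdvd with h | h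
  · exfalso
    have h1 := hS.card_four hcd
    haveI := Monoid.exp_eq_one_iff.1 h
    rw [Nat.card_of_subsingleton (1 : four G c d)] at h1
    omega
  · exact h

theorem four_conj {c d : Ω} (hcd : c ≠ d) {x y : G} (hx : x ∈ four G c d) (hx1 : x ≠ 1)
    (hy : y ∈ four G c d) (hy1 : y ≠ 1) : ∃ z ∈ pair G c d, z * x * z⁻¹ = y := by
  obtain ⟨e⟩ := hS.alt c d hcd
  obtain ⟨hxp, hx2⟩ := (hS.four_eq hcd).1 hx
  obtain ⟨hyp, hy2⟩ := (hS.four_eq hcd).1 hy
  obtain ⟨z, hz⟩ := alt_facts.2.1 (e ⟨x, hxp⟩) (e ⟨y, hyp⟩)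
    (by rw [← map_mul, ← map_one e]; exact congrArg e (Subtype.ext hx2))
    (by rw [Ne, MulEquiv.map_eq_one_iff]; exact fun h => hx1 (congrArg Subtype.val h))
    (by rw [← map_mul, ← map_one e]; exact congrArg e (Subtype.ext hy2))
    (by rw [Ne, MulEquiv.map_eq_one_iff]; exact fun h => hy1 (congrArg Subtype.val h))
  refine ⟨e.symm z, (e.symm z).2, ?_⟩
  have := congrArg (fun w => ((e.symm w : pair G c d) : G)) hz
  simpa using this

theorem mem_four_of_commute {c d : Ω} (hcd : c ≠ d) {x z : G} (hx : x ∈ four G c d) (hx1 : x ≠ 1)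
    (hz : z ∈ pair G c d) (h : Commute z x) : z ∈ four G c d := by
  obtain ⟨e⟩ := hS.alt c d hcd
  obtain ⟨hxp, hx2⟩ := (hS.four_eq hcd).1 hx
  have := alt_facts.2.2.1 (e ⟨x, hxp⟩) (e ⟨z, hz⟩)
    (by rw [← map_mul, ← map_one e]; exact congrArg e (Subtype.ext hx2))
    (by rw [Ne, MulEquiv.map_eq_one_iff]; exact fun h => hx1 (congrArg Subtype.val h))
    (by rw [← map_mul, ← map_mul]; exact congrArg e (Subtype.ext h.eq))
  rw [← map_mul, MulEquiv.map_eq_one_iff] at this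
  exact (hS.four_eq hcd).2 ⟨hz, congrArg Subtype.val this⟩

theorem pair_cube {c d : Ω} (hcd : c ≠ d) {z : G} (hz : z ∈ pair G c d) (h : z ∉ four G c d) :
    z * z * z = 1 := by
  obtain ⟨e⟩ := hS.alt c d hcd
  rcases alt_facts.2.2.2.2 (e ⟨z, hz⟩) with h' | h'
  · rw [← map_mul, MulEquiv.map_eq_one_iff] at h'
    exact absurd ((hS.four_eq hcd).2 ⟨hz, congrArg Subtype.val h'⟩) h
  · rw [← map_mul, ← map_mul, MulEquiv.map_eq_one_iff] at h'
    exact congrArg Subtype.val h'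

theorem exists_mem_four {c d : Ω} (hcd : c ≠ d) (u : G) : ∃ v ∈ four G c d, v ≠ 1 ∧ v ≠ u :=
  PSL2.exists_mem_ne (hS.isKlein hcd) u

theorem four_cases {c d : Ω} (hcd : c ≠ d) {u v x : G} (hu : u ∈ four G c d) (hu1 : u ≠ 1)
    (hv : v ∈ four G c d) (hv1 : v ≠ 1) (hvu : v ≠ u) (hx : x ∈ four G c d) :
    x = 1 ∨ x = u ∨ x = v ∨ x = u * v := by
  have h := PSL2.isInvPair_of_mem (hS.isKlein hcd) hu hv hu1 hv1 hvu.symm
  rw [PSL2.eq_klein (hS.isKlein hcd) h hu hv] at hx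
  exact PSL2.mem_klein.1 hx

theorem conj_mem_four {c d : Ω} (hcd : c ≠ d) {x : G} (g : G) (hx : x ∈ four G c d) :
    g * x * g⁻¹ ∈ four G (g • c) (g • d) := by
  refine (hS.four_eq fun e => hcd (smul_left_cancel g e)).2 ⟨conj_mem_pair g ((hS.four_eq hcd).1 hx).1, ?_⟩
  rw [show g * x * g⁻¹ * (g * x * g⁻¹) = g * (x * x) * g⁻¹ by group, hS.four_sq hcd hx]; group

theorem Sw_conj_four {c d : Ω} (hcd : c ≠ d) {t x : G} (ht : t ∈ Sw G c d) (hx : x ∈ four G c d) :
    t * x * t⁻¹ ∈ four G c d := by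
  have := hS.conj_mem_four hcd t hx
  rw [ht.2, smul_of_mem ht] at this
  rw [hS.four_eq hcd.symm, mem_pair] at this
  exact (hS.four_eq hcd).2 ⟨mem_pair.2 this.1.symm, this.2⟩

theorem four_eq_of_fix {c d e' e : Ω} (hcd : c ≠ d) (hne : e ≠ e') (he : e ∈ fixS Ω (four G c d))
    (he' : e' ∈ fixS Ω (four G c d)) : four G e e' = four G c d := by
  refine (Subgroup.eq_of_le_of_card_ge (fun x hx => (hS.four_eq hne).2 ⟨mem_pair.2 ⟨he x hx, he' x hx⟩,
    hS.four_sq hcd hx⟩) ?_).symm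
  rw [hS.card_four hne, hS.card_four hcd]

theorem mem_fixS_self {c d : Ω} (hcd : c ≠ d) :
    c ∈ fixS Ω (four G c d) ∧ d ∈ fixS Ω (four G c d) :=
  ⟨fun _ hx => (hS.four_le hcd hx).1, fun _ hx => (hS.four_le hcd hx).2⟩

/-- Witt's lemma for an involution with two fixed points. -/
theorem witt {u x : G} {c d e e' : Ω} (hu1 : u ≠ 1) (hcd : c ≠ d) (hu : u ∈ four G c d)
    (hx1 : x ≠ 1) (he : e ≠ e') (hx : x ∈ four G e e') :
    ∃ h : G, h * u * h⁻¹ = x ∧ h • c = e ∧ h • d = e' := by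
  obtain ⟨g, hgc, hgd⟩ := Perm.exists_smul_eq_two hS.h2 hcd he
  have h1 := hS.conj_mem_four hcd g hu
  rw [hgc, hgd] at h1
  obtain ⟨z, hz, hzx⟩ := hS.four_conj he h1 (fun e' => hu1 (conj_eq_one_iff.1 e')) hx hx1
  refine ⟨z * g, ?_, ?_, ?_⟩
  · rw [← hzx]; group
  · rw [mul_smul, hgc, (mem_pair.1 hz).1]
  · rw [mul_smul, hgd, (mem_pair.1 hz).2]

theorem inU_mem_four {x : G} (hx : InU Ω x) :
    ∃ c d : Ω, c ≠ d ∧ x ∈ four G c d := by
  obtain ⟨-, h2, c, d, hcd, hc, hd⟩ := hx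
  exact ⟨c, d, hcd, (hS.four_eq hcd).2 ⟨mem_pair.2 ⟨hc, hd⟩, h2⟩⟩

theorem mem_four_of_fix {x : G} (h2 : x * x = 1) {c d : Ω} (hcd : c ≠ d) (hc : x • c = c)
    (hd : x • d = d) : x ∈ four G c d :=
  (hS.four_eq hcd).2 ⟨mem_pair.2 ⟨hc, hd⟩, h2⟩

theorem exists_conj_inU {x y : G} (hx : InU Ω x) (hy : InU Ω y) : ∃ h : G, h * x * h⁻¹ = y := by
  obtain ⟨c, d, hcd, hxf⟩ := hS.inU_mem_four hx
  obtain ⟨e, e', he, hyf⟩ := hS.inU_mem_four hy
  obtain ⟨h, hh, -⟩ := hS.witt hx.1 hcd hxf hy.1 he hyf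
  exact ⟨h, hh⟩

theorem ncard_fixE_eq {x y : G} (hx : InU Ω x) (hy : InU Ω y) :
    (fixE Ω x).ncard = (fixE Ω y).ncard := by
  obtain ⟨h, rfl⟩ := hS.exists_conj_inU hx hy
  rw [fixE_conj, Set.ncard_image_of_injective _ (MulAction.injective h)]

theorem two_le_fix {x : G} (hx : InU Ω x) : 2 ≤ (fixE Ω x).ncard := by
  obtain ⟨-, -, c, d, hcd, hc, hd⟩ := hx
  exact (Set.one_lt_ncard (Set.toFinite _)).2 ⟨c, hc, d, hd, hcd⟩

theorem ncard_fixS_eq {c d e e' : Ω} (hcd : c ≠ d) (he : e ≠ e') :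
    (fixS Ω (four G c d)).ncard = (fixS Ω (four G e e')).ncard := by
  obtain ⟨g, hgc, hgd⟩ := Perm.exists_smul_eq_two hS.h2 hcd he
  subst hgc hgd
  rw [← Set.ncard_image_of_injective (fixS Ω (four G c d)) (MulAction.injective g)]
  congr 1
  ext a
  constructor
  · rintro ⟨b, hb, rfl⟩ x hx
    have h := hS.conj_mem_four he g⁻¹ hx
    rw [inv_smul_smul, inv_smul_smul, inv_inv] at h
    have := hb _ h
    rwa [mul_smul, mul_smul, inv_smul_eq_iff] at this
  · intro ha
    refine ⟨g⁻¹ • a, fun x hx => ?_, smul_inv_smul g a⟩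
    have := ha _ (hS.conj_mem_four hcd g hx)
    rw [mul_smul, mul_smul] at this
    rw [eq_inv_smul_iff]
    exact this

theorem two_le_fixS {c d : Ω} (hcd : c ≠ d) : 2 ≤ (fixS Ω (four G c d)).ncard :=
  (Set.one_lt_ncard (Set.toFinite _)).2 ⟨c, (hS.mem_fixS_self hcd).1, d, (hS.mem_fixS_self hcd).2, hcd⟩

theorem fixS_subset {c d : Ω} {x : G} (hx : x ∈ four G c d) : fixS Ω (four G c d) ⊆ fixE Ω x :=
  fun _ he => he x hx

/-- In the fixed points of `u`, a further involution of the four group fixes exactly the fixed points of the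
four group. -/
theorem fix_inter {c d : Ω} (hcd : c ≠ d) {u v : G} (hu : u ∈ four G c d) (hu1 : u ≠ 1)
    (hv : v ∈ four G c d) (hv1 : v ≠ 1) (hvu : v ≠ u) :
    {e ∈ fixE Ω u | v • e = e} = fixS Ω (four G c d) := by
  ext e
  refine ⟨fun ⟨he, hve⟩ x hx => ?_, fun he => ⟨he u hu, he v hv⟩⟩
  rcases hS.four_cases hcd hu hu1 hv hv1 hvu hx with rfl | rfl | rfl | rfl
  · exact one_smul G e
  · exact he
  · exact hve
  · rw [mul_smul, hve]; exact he

/-! ### Orders -/

theorem pretransitive : IsPretransitive G Ω := by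
  haveI := hS.h2
  exact isPretransitive_of_is_two_pretransitive

theorem two_le_card {c d : Ω} (hcd : c ≠ d) : 2 ≤ Nat.card Ω :=
  Finite.one_lt_card_iff_nontrivial.2 ⟨c, d, hcd⟩

theorem card_stabilizer {c d : Ω} (hcd : c ≠ d) :
    Nat.card (stabilizer G c) = (Nat.card Ω - 1) * 12 := by
  rw [card_eq_ncard_mul (stabilizer G c) d {e | e ≠ c}, hS.card_pair hcd]
  · congr 1
    rw [show {e : Ω | e ≠ c} = ({c} : Set Ω)ᶜ from rfl, Set.ncard_compl, Set.ncard_singleton]
  · intro m hm e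
    rw [mem_stabilizer_iff] at hm
    exact hcd.symm (smul_left_cancel m (e.trans hm.symm))
  · intro e he
    obtain ⟨g, hgc, hgd⟩ := Perm.exists_smul_eq_two hS.h2 hcd (Ne.symm he)
    exact ⟨g, mem_stabilizer_iff.2 hgc, hgd⟩

theorem card_group {c d : Ω} (hcd : c ≠ d) :
    Nat.card G = Nat.card Ω * ((Nat.card Ω - 1) * 12) := by
  haveI := hS.pretransitive
  rw [← hS.card_stabilizer hcd, ← index_stabilizer_of_transitive (G := G) c,
    Subgroup.index_mul_card]

theorem exists_centralizer_map {u : G} {c d e e' : Ω} (hu1 : u ≠ 1) (hcd : c ≠ d) (hu : u ∈ four G c d)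
    (he : e ≠ e') (hue : u • e = e) (hue' : u • e' = e') :
    ∃ h ∈ centralizer ({u} : Set G), h • c = e ∧ h • d = e' := by
  obtain ⟨h, hh, hc, hd⟩ := hS.witt hu1 hcd hu hu1 he (hS.mem_four_of_fix (hS.four_sq hcd hu) he hue hue')
  exact ⟨h, mem_centralizer_singleton_iff.2 (mul_inv_eq_iff_eq_mul.1 hh), hc, hd⟩

theorem centralizer_inf_pair {u : G} {c d : Ω} (hu1 : u ≠ 1) (hcd : c ≠ d) (hu : u ∈ four G c d) :
    centralizer ({u} : Set G) ⊓ pair G c d = four G c d := by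
  ext x
  refine ⟨fun ⟨h1, h2⟩ => hS.mem_four_of_commute hcd hu hu1 h2 (mem_centralizer_singleton_iff.1 h1),
    fun hx => ⟨mem_centralizer_singleton_iff.2 (hS.four_comm hcd hx hu), ((hS.four_eq hcd).1 hx).1⟩⟩

theorem card_centralizer_stabilizer {u : G} {c d : Ω} (hu1 : u ≠ 1) (hcd : c ≠ d)
    (hu : u ∈ four G c d) :
    Nat.card ↥(centralizer ({u} : Set G) ⊓ stabilizer G c) = ((fixE Ω u).ncard - 1) * 4 := by
  rw [card_eq_ncard_mul _ d (fixE Ω u \ {c}), inf_assoc, hS.centralizer_inf_pair hu1 hcd hu,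
    hS.card_four hcd, Set.ncard_sdiff_singleton_of_mem (s := fixE Ω u) (hS.four_le hcd hu).1]
  · intro m hm
    obtain ⟨h1, h2⟩ := Subgroup.mem_inf.1 hm
    refine ⟨smul_mem_fixE (mem_centralizer_singleton_iff.1 h1) (hS.four_le hcd hu).2, fun e => hcd.symm ?_⟩
    exact smul_left_cancel m (e.trans (mem_stabilizer_iff.1 h2).symm)
  · intro e he
    obtain ⟨h, hh, hc, hd⟩ := hS.exists_centralizer_map hu1 hcd hu (Ne.symm he.2) (hS.four_le hcd hu).1 he.1
    exact ⟨h, ⟨hh, hc⟩, hd⟩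

theorem card_centralizer {u : G} (hu : InU Ω u) :
    Nat.card (centralizer ({u} : Set G)) = (fixE Ω u).ncard * (((fixE Ω u).ncard - 1) * 4) := by
  obtain ⟨c, d, hcd, huf⟩ := hS.inU_mem_four hu
  rw [card_eq_ncard_mul _ c (fixE Ω u), hS.card_centralizer_stabilizer hu.1 hcd huf]
  · intro m hm
    exact smul_mem_fixE (mem_centralizer_singleton_iff.1 hm) (hS.four_le hcd huf).1
  · intro e he
    rcases eq_or_ne e c with rfl | hec
    · exact ⟨1, one_mem _, one_smul G _⟩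
    · obtain ⟨h, hh, hc, -⟩ := hS.exists_centralizer_map hu.1 hcd huf hec he (hS.four_le hcd huf).1
      exact ⟨h, hh, hc⟩

theorem card_normalizer_stabilizer {c d : Ω} (hcd : c ≠ d) :
    Nat.card ↥(normalizer (four G c d : Set G) ⊓ stabilizer G c) =
      ((fixS Ω (four G c d)).ncard - 1) * 12 := by
  have hle : pair G c d ≤ normalizer (four G c d : Set G) := fun g hg => by
    have key : ∀ g ∈ pair G c d, ∀ x ∈ four G c d, g * x * g⁻¹ ∈ four G c d := fun g hg x hx => by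
      have := hS.conj_mem_four hcd g hx
      rwa [(mem_pair.1 hg).1, (mem_pair.1 hg).2] at this
    rw [mem_normalizer_iff]
    exact fun x => ⟨key g hg x, fun h => by
      have := key g⁻¹ (inv_mem hg) _ h
      simpa [mul_assoc] using this⟩
  rw [card_eq_ncard_mul _ d (fixS Ω (four G c d) \ {c}), inf_assoc, inf_eq_right.2 hle, hS.card_pair hcd,
    Set.ncard_sdiff_singleton_of_mem (hS.mem_fixS_self hcd).1]
  · intro m hm
    obtain ⟨h1, h2⟩ := Subgroup.mem_inf.1 hm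
    refine ⟨fun x hx => ?_, fun e => hcd.symm (smul_left_cancel m (e.trans (mem_stabilizer_iff.1 h2).symm))⟩
    have h3 := (mem_normalizer_iff''.1 h1 x).1 hx
    have := (hS.mem_fixS_self hcd).2 _ h3
    rwa [mul_smul, mul_smul, inv_smul_eq_iff] at this
  · intro e he
    obtain ⟨g, hgc, hgd⟩ := Perm.exists_smul_eq_two hS.h2 hcd (Ne.symm he.2)
    refine ⟨g, ⟨?_, hgc⟩, hgd⟩
    have heq := hS.four_eq_of_fix hcd (Ne.symm he.2) (hS.mem_fixS_self hcd).1 he.1
    have key : ∀ x ∈ four G c d, g * x * g⁻¹ ∈ four G c d := fun x hx => by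
      have := hS.conj_mem_four hcd g hx
      rwa [hgc, hgd, heq] at this
    refine mem_normalizer_iff.2 fun x => ⟨key x, fun h => ?_⟩
    have hsurj : Function.Surjective (fun y : four G c d => (⟨g * y * g⁻¹, key y y.2⟩ : four G c d)) :=
      Finite.injective_iff_surjective.1 fun y y' e => Subtype.ext (by simpa using congrArg Subtype.val e)
    obtain ⟨y, hy⟩ := hsurj ⟨_, h⟩
    have : (y : G) = x := by simpa using congrArg Subtype.val hy
    exact this ▸ y.2

/-! ### Swappers -/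

/-- The number of involutions with two fixed points times the centraliser order. -/
theorem ncard_inU {u : G} (hu : InU Ω u) :
    {x : G | InU Ω x}.ncard * Nat.card (centralizer ({u} : Set G)) = Nat.card G := by
  rw [← PSL2.card_isConj_mul_centralizer u, ← Nat.card_coe_set_eq]
  congr 1
  refine Nat.card_congr (Equiv.subtypeEquivRight fun x => ⟨fun hx => isConj_iff.2 (hS.exists_conj_inU hu hx),
    fun hx => ?_⟩)
  obtain ⟨c, rfl⟩ := isConj_iff.1 hx
  exact hu.conj c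

theorem ncard_uSw_eq {c d e e' : Ω} (hcd : c ≠ d) (he : e ≠ e') :
    {t : G | InU Ω t ∧ t • c = d}.ncard = {t : G | InU Ω t ∧ t • e = e'}.ncard := by
  obtain ⟨g, rfl, rfl⟩ := Perm.exists_smul_eq_two hS.h2 hcd he
  exact ncard_maps_eq (I := {t | InU Ω t}) (fun t => inU_conj_iff g) c d

theorem lam_eq {u : G} (hu : InU Ω u) {c d : Ω} (hcd : c ≠ d) :
    3 * (Nat.card Ω - (fixE Ω u).ncard) =
      {t : G | InU Ω t ∧ t • c = d}.ncard * ((fixE Ω u).ncard * ((fixE Ω u).ncard - 1)) := by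
  have h1 := card_mul_moved {x : G | InU Ω x} (Set.univ : Set Ω)
    (s := {t : G | InU Ω t ∧ t • c = d}.ncard) (φ := (fixE Ω u).ncard) (fun _ _ _ _ => Set.mem_univ _)
    (fun e _ e' _ he => hS.ncard_uSw_eq he hcd)
    (fun t ht => by rw [← hS.ncard_fixE_eq ht hu]; simp [fixE])
  rw [Set.ncard_univ] at h1
  have h2 := hS.ncard_inU hu
  rw [hS.card_centralizer hu, hS.card_group hcd] at h2
  have hn := hS.two_le_card hcd
  refine Nat.eq_of_mul_eq_mul_left (show 0 < Nat.card Ω * (Nat.card Ω - 1) * 4 by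
    have : 0 < Nat.card Ω - 1 := by omega
    positivity) ?_
  set I := {x : G | InU Ω x}.ncard
  set f := (fixE Ω u).ncard
  set lam := {t : G | InU Ω t ∧ t • c = d}.ncard
  set n := Nat.card Ω
  calc n * (n - 1) * 4 * (3 * (n - f)) = (n * ((n - 1) * 12)) * (n - f) := by ring
    _ = (I * (f * ((f - 1) * 4))) * (n - f) := by rw [h2]
    _ = (I * (n - f)) * (f * ((f - 1) * 4)) := by ring
    _ = _ := by rw [h1]; ring

theorem fix_lt {u : G} (hu : InU Ω u) : (fixE Ω u).ncard < Nat.card Ω := by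
  rw [← Set.ncard_univ]
  refine Set.ncard_lt_ncard (Set.ssubset_univ_iff.2 fun h => hu.1 ?_)
  exact Perm.eq_one_of_forall_smul_eq (α := Ω) fun a => (h.symm.subset (Set.mem_univ a) : a ∈ fixE Ω u)

theorem lam_pos {u : G} (hu : InU Ω u) {c d : Ω} (hcd : c ≠ d) :
    0 < {t : G | InU Ω t ∧ t • c = d}.ncard := by
  have := hS.lam_eq hu hcd
  have := hS.fix_lt hu
  by_contra h
  simp only [not_lt, nonpos_iff_eq_zero] at h
  have e := hS.lam_eq hu hcd
  rw [h, zero_mul] at e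
  omega

/-- Either all involutions exchanging two points centralise their four group, or none does. -/
theorem central_of_one {c d : Ω} (hcd : c ≠ d) {s t : G} (hs : s ∈ Sw G c d) (ht : t ∈ Sw G c d)
    (hc : ∀ x ∈ four G c d, Commute t x) : ∀ x ∈ four G c d, Commute s x := by
  have hts : t * s ∈ pair G c d := mul_mem_pair hs ht
  by_cases h : t * s ∈ four G c d
  · intro x hx
    have : Commute (t * (t * s)) x := (hc x hx).mul_left (hS.four_comm hcd h hx)
    rwa [← mul_assoc, ht.1, one_mul] at this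
  intro x hx
  rcases eq_or_ne x 1 with rfl | hx1
  · exact Commute.one_right s
  exfalso
  apply h
  -- the action of `z = t s` on the four group is an involution, but `z³ = 1`
  have hz3 := hS.pair_cube hcd hts h
  have hact : ∀ y ∈ four G c d, (t * s) * y * (t * s)⁻¹ = s * y * s⁻¹ := fun y hy => by
    calc t * s * y * (t * s)⁻¹ = t * (s * y * s⁻¹) * t⁻¹ := by group
      _ = s * y * s⁻¹ := by rw [(hc _ (hS.Sw_conj_four hcd hs hy)).eq, mul_inv_cancel_right]
  have h2 : (t * s) * ((t * s) * x * (t * s)⁻¹) * (t * s)⁻¹ = x := by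
    rw [hact x hx, hact _ (hS.Sw_conj_four hcd hs hx), inv_eq_of_mul_eq_one_right hs.1]
    calc s * (s * x * s) * s = (s * s) * x * (s * s) := by group
      _ = x := by rw [hs.1, one_mul, mul_one]
  refine hS.mem_four_of_commute hcd hx hx1 hts ?_
  set z := t * s
  have h3 : z * z * x * (z * z)⁻¹ = x := by
    calc z * z * x * (z * z)⁻¹ = z * (z * x * z⁻¹) * z⁻¹ := by group
      _ = x := h2
  show z * x = x * z
  calc z * x = z * (z * z * x * (z * z)⁻¹) := by rw [h3]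
    _ = (z * z * z) * x * (z * z * z)⁻¹ * z := by group
    _ = x * z := by rw [hz3]; group

theorem Sw_eq_image {c d : Ω} (hcd : c ≠ d) {t : G} (ht : t ∈ Sw G c d)
    (hc : ∀ x ∈ four G c d, Commute t x) : Sw G c d = (fun x => t * x) '' (four G c d : Set G) := by
  ext s
  constructor
  · intro hs
    refine ⟨t * s, ?_, by simp only; rw [← mul_assoc, ht.1, one_mul]⟩
    obtain ⟨x, hx, hx1, -⟩ := hS.exists_mem_four hcd 1
    exact hS.mem_four_of_commute hcd hx hx1 (mul_mem_pair hs ht)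
      ((hc x hx).mul_left (hS.central_of_one hcd hs ht hc x hx))
  · rintro ⟨x, hx, rfl⟩
    refine ⟨?_, by rw [mul_smul, (hS.four_le hcd hx).1, ht.2]⟩
    show t * x * (t * x) = 1
    rw [(hc x hx).symm.mul_mul_mul_comm, ht.1, hS.four_sq hcd hx, one_mul]

end Setup

end Cfsg.Agent.TwoTransA4
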