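import Mathlib

/-!
# Double counting of moved points and fixed points in an invariant set

`I` is a set of group elements mapping a set of points `X` into itself.
-/

set_option autoImplicit false

namespace Cfsg.Agent.TwoTransA4

open scoped Classical in
/-- If every ordered pair of `X` is realised by `s` elements of `I` and each element of `I` fixes `φ` points of
`X`, then `|I| (|X| - φ) = |X| (|X| - 1) s`. -/
theorem card_mul_moved {G Ω : Type*} [Group G] [Finite G] [MulAction G Ω] [Finite Ω] (I : Set G)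
    (X : Set Ω) {s φ : ℕ} (hpres : ∀ t ∈ I, ∀ c ∈ X, t • c ∈ X)
    (hs : ∀ c ∈ X, ∀ d ∈ X, c ≠ d → {t ∈ I | t • c = d}.ncard = s)
    (hφ : ∀ t ∈ I, {c ∈ X | t • c = c}.ncard = φ) :
    I.ncard * (X.ncard - φ) = X.ncard * (X.ncard - 1) * s := by
  have hI : I.Finite := I.toFinite
  have hX : X.Finite := X.toFinite
  have key := Finset.sum_card_bipartiteAbove_eq_sum_card_bipartiteBelow
    (fun (t : G) (q : Ω × Ω) => t • q.1 = q.2) (s := hI.toFinset) (t := hX.toFinset.offDiag)
  have h1 : ∀ t ∈ hI.toFinset, (Finset.bipartiteAbove (fun (t : G) (q : Ω × Ω) => t • q.1 = q.2)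
      hX.toFinset.offDiag t).card = X.ncard - φ := by
    intro t ht
    have ht' := hI.mem_toFinset.1 ht
    have hsub : {c ∈ X | t • c = c} ⊆ X := fun c hc => hc.1
    rw [← hφ t ht', ← Set.ncard_sdiff hsub, ← Set.ncard_coe_finset]
    refine Set.ncard_congr (fun q _ => q.1) (fun q hq => ?_) (fun q q' hq hq' e => ?_) (fun c hc => ?_)
    · simp only [Finset.coe_filter, Finset.bipartiteAbove, Finset.mem_offDiag, Set.Finite.mem_toFinset,
        Set.mem_ofPred] at hq
      exact ⟨hq.1.1, fun h => hq.1.2.2 (by rw [← hq.2, h.2])⟩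
    · simp only [Finset.coe_filter, Finset.bipartiteAbove, Set.mem_ofPred] at hq hq'
      exact Prod.ext e (by rw [← hq.2, ← hq'.2, e])
    · refine ⟨(c, t • c), ?_, rfl⟩
      simp only [Finset.coe_filter, Finset.bipartiteAbove, Finset.mem_offDiag, Set.Finite.mem_toFinset,
        Set.mem_ofPred]
      exact ⟨⟨hc.1, hpres t ht' c hc.1, fun h => hc.2 ⟨hc.1, h.symm⟩⟩, trivial⟩
  have h2 : ∀ q ∈ hX.toFinset.offDiag, (Finset.bipartiteBelow (fun (t : G) (q : Ω × Ω) => t • q.1 = q.2)
      hI.toFinset q).card = s := by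
    intro q hq
    simp only [Finset.mem_offDiag, Set.Finite.mem_toFinset] at hq
    rw [← hs q.1 hq.1 q.2 hq.2.1 hq.2.2, ← Set.ncard_coe_finset]
    congr 1
    ext t
    simp [Finset.bipartiteBelow]
  rw [Finset.sum_congr rfl h1, Finset.sum_congr rfl h2, Finset.sum_const, Finset.sum_const, smul_eq_mul,
    smul_eq_mul, Finset.offDiag_card, ← Set.ncard_eq_toFinset_card I hI,
    ← Set.ncard_eq_toFinset_card X hX] at key
  rw [key]
  rcases Nat.eq_zero_or_pos X.ncard with h | h
  · simp [h]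
  · rw [Nat.mul_sub_one]

open scoped Classical in
/-- If every point of `X` is fixed by `r` elements of `I` and each element of `I` fixes `φ` points of `X`, then
`|I| φ = |X| r`. -/
theorem card_mul_fixed {G Ω : Type*} [Group G] [Finite G] [MulAction G Ω] [Finite Ω] (I : Set G)
    (X : Set Ω) {r φ : ℕ} (hr : ∀ c ∈ X, {t ∈ I | t • c = c}.ncard = r)
    (hφ : ∀ t ∈ I, {c ∈ X | t • c = c}.ncard = φ) :
    I.ncard * φ = X.ncard * r := by
  have hI : I.Finite := I.toFinite
  have hX : X.Finite := X.toFinite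
  have key := Finset.sum_card_bipartiteAbove_eq_sum_card_bipartiteBelow
    (fun (t : G) (c : Ω) => t • c = c) (s := hI.toFinset) (t := hX.toFinset)
  have h1 : ∀ t ∈ hI.toFinset, (Finset.bipartiteAbove (fun (t : G) (c : Ω) => t • c = c)
      hX.toFinset t).card = φ := fun t ht => by
    rw [← hφ t (hI.mem_toFinset.1 ht), ← Set.ncard_coe_finset]
    congr 1
    ext c
    simp [Finset.bipartiteAbove]
  have h2 : ∀ c ∈ hX.toFinset, (Finset.bipartiteBelow (fun (t : G) (c : Ω) => t • c = c)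
      hI.toFinset c).card = r := fun c hc => by
    rw [← hr c (hX.mem_toFinset.1 hc), ← Set.ncard_coe_finset]
    congr 1
    ext t
    simp [Finset.bipartiteBelow]
  rw [Finset.sum_congr rfl h1, Finset.sum_congr rfl h2, Finset.sum_const, Finset.sum_const, smul_eq_mul,
    smul_eq_mul, ← Set.ncard_eq_toFinset_card I hI, ← Set.ncard_eq_toFinset_card X hX] at key
  exact key

variable {G Ω : Type*} [Group G] [Finite G] [MulAction G Ω] [Finite Ω]

/-- Conjugation transports the elements of an invariant set with a prescribed image of a point. -/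
theorem ncard_maps_eq {I : Set G} {m : G} (hI : ∀ t, t ∈ I ↔ m * t * m⁻¹ ∈ I) (c d : Ω) :
    {t ∈ I | t • c = d}.ncard = {t ∈ I | t • (m • c) = m • d}.ncard := by
  refine Set.ncard_congr (fun t _ => m * t * m⁻¹) (fun t ht => ⟨(hI t).1 ht.1, ?_⟩)
    (fun t t' _ _ e => by simpa using e) (fun t ht => ⟨m⁻¹ * t * m, ⟨?_, ?_⟩, by group⟩)
  · rw [mul_smul, mul_smul, inv_smul_smul, ht.2]
  · rw [hI]
    simpa [mul_assoc] using ht.1
  · rw [mul_smul, mul_smul, ht.2, inv_smul_smul]

/-- One fixed point each: then as many elements of `I` fix a given point as realise a given pair. -/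
theorem ncard_fix_eq_of_one {I : Set G} {M : Subgroup G} {X : Set Ω}
    (hM : ∀ m ∈ M, ∀ t ∈ I, m * t * m⁻¹ ∈ I) (htr : ∀ c ∈ X, ∀ d ∈ X, ∃ m ∈ M, m • c = d) {s : ℕ}
    (hpres : ∀ t ∈ I, ∀ c ∈ X, t • c ∈ X)
    (hs : ∀ c ∈ X, ∀ d ∈ X, c ≠ d → {t ∈ I | t • c = d}.ncard = s)
    (hφ : ∀ t ∈ I, {c ∈ X | t • c = c}.ncard = 1) {a : Ω} (ha : a ∈ X) (h2 : 2 ≤ X.ncard) :
    {t ∈ I | t • a = a}.ncard = s ∧ I.ncard = X.ncard * s := by
  have hr : ∀ c ∈ X, {t ∈ I | t • c = c}.ncard = {t ∈ I | t • a = a}.ncard := by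
    intro c hc
    obtain ⟨m, hm, rfl⟩ := htr a ha c hc
    refine (ncard_maps_eq (fun t => ⟨hM m hm t, fun h => ?_⟩) a a).symm
    have h' := hM m⁻¹ (inv_mem hm) _ h
    simpa [mul_assoc] using h'
  have h1 := card_mul_fixed I X hr hφ
  have h3 := card_mul_moved I X hpres hs hφ
  rw [mul_one] at h1
  have h4 : I.ncard = X.ncard * s := Nat.eq_of_mul_eq_mul_right (m := X.ncard - 1) (by omega)
    (by rw [h3]; ring)
  refine ⟨?_, h4⟩
  rw [h4] at h1
  exact (Nat.eq_of_mul_eq_mul_left (by omega) h1).symm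

end Cfsg.Agent.TwoTransA4
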