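import Cfsg.Agent.Lib.TwoTransA4.Swap
import Cfsg.Agent.Lib.EightSeven.Involution
import Cfsg.Agent.Lib.PCore.Constrained

/-!
# Even degree: the possible parameters

The point stabiliser has four-group Sylow 2-subgroups; Gorenstein-Walter and the Brauer-Wielandt formula leave
the degrees 6, 16 and 28.
-/

set_option autoImplicit false
set_option maxHeartbeats 800000
set_option linter.style.haveILetI false
set_option linter.unusedSectionVars false

namespace Cfsg.Agent.TwoTransA4

open Subgroup MulAction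

variable {G : Type*} [Group G] {Ω : Type*} [MulAction G Ω] [Finite G] [Finite Ω] [FaithfulSMul G Ω]

/-- The image of a subgroup and its intersection with the kernel. -/
theorem card_map_mul_inf_ker {H K : Type*} [Group H] [Group K] [Finite H] (φ : H →* K) (L : Subgroup H) :
    Nat.card (L.map φ) * Nat.card ↥(φ.ker ⊓ L) = Nat.card L := by
  have h1 := Subgroup.relIndex_mul_relIndex ⊥ (φ.ker ⊓ L) L bot_le inf_le_right
  rw [Subgroup.inf_relIndex_right, Subgroup.relIndex_ker, Subgroup.relIndex_bot_left,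
    Subgroup.relIndex_bot_left] at h1
  rw [← h1, mul_comm]

theorem six_not_primePow : ¬ IsPrimePow 6 := by
  intro h
  obtain ⟨p, j, hp, -, hpj⟩ := h
  have hp' := Nat.prime_iff.2 hp
  have h2 := (Nat.prime_dvd_prime_iff_eq Nat.prime_two hp').1
    (Nat.prime_two.dvd_of_dvd_pow (hpj.symm ▸ (by norm_num : 2 ∣ 6) : 2 ∣ p ^ j))
  have h3 := (Nat.prime_dvd_prime_iff_eq Nat.prime_three hp').1
    (Nat.prime_three.dvd_of_dvd_pow (hpj.symm ▸ (by norm_num : 3 ∣ 6) : 3 ∣ p ^ j))
  omega

theorem twelve_not_primePow : ¬ IsPrimePow 12 := by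
  intro h
  obtain ⟨p, j, hp, -, hpj⟩ := h
  have hp' := Nat.prime_iff.2 hp
  have h2 := (Nat.prime_dvd_prime_iff_eq Nat.prime_two hp').1
    (Nat.prime_two.dvd_of_dvd_pow (hpj.symm ▸ (by norm_num : 2 ∣ 12) : 2 ∣ p ^ j))
  have h3 := (Nat.prime_dvd_prime_iff_eq Nat.prime_three hp').1
    (Nat.prime_three.dvd_of_dvd_pow (hpj.symm ▸ (by norm_num : 3 ∣ 12) : 3 ∣ p ^ j))
  omega

/-- Four-group Brauer-Wielandt: with equal centraliser orders. -/
theorem brauer_wielandt {H : Type*} [Group H] [Finite H] (O : Subgroup H) [O.Normal] (hO : Odd (Nat.card O))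
    {u v : H} (hu : u * u = 1) (hv : v * v = 1) (huv : Commute u v) {o0 o1 : ℕ}
    (h0 : Nat.card ↥(O ⊓ centralizer ({u} : Set H) ⊓ centralizer ({v} : Set H)) = o0)
    (h1 : Nat.card ↥(O ⊓ centralizer ({u} : Set H)) = o1)
    (h2 : Nat.card ↥(O ⊓ centralizer ({v} : Set H)) = o1)
    (h3 : Nat.card ↥(O ⊓ centralizer ({u * v} : Set H)) = o1) :
    Nat.card O * (o0 * o0) = o1 * (o1 * o1) := by
  have hN : ∀ x : H, x ∈ normalizer (O : Set H) := fun x => by rw [normalizer_eq_top]; exact mem_top x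
  have hNc : ∀ {x y : H}, Commute x y → x ∈ normalizer ((O ⊓ centralizer ({y} : Set H) : Subgroup H) : Set H) := by
    intro x y hxy
    have key : ∀ {x : H}, Commute x y → ∀ z ∈ O ⊓ centralizer ({y} : Set H),
        x * z * x⁻¹ ∈ O ⊓ centralizer ({y} : Set H) := fun hxy z hz =>
      ⟨Subgroup.Normal.conj_mem inferInstance z hz.1 _, mem_centralizer_singleton_iff.2
        ((hxy.mul_left (mem_centralizer_singleton_iff.1 hz.2 : Commute z y)).mul_left hxy.inv_left).eq⟩
    refine mem_normalizer_iff.2 fun z => ⟨key hxy z, fun h => ?_⟩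
    have := key hxy.inv_left _ h
    simpa [mul_assoc] using this
  have hsub : ∀ y, Odd (Nat.card ↥(O ⊓ centralizer ({y} : Set H))) := fun y =>
    Odd.of_dvd_nat hO (Subgroup.card_dvd_of_le inf_le_left)
  have e1 := EightSeven.card_fix_mul_card_invSet hO hu (hN u)
  rw [h1, EightSeven.card_invSet_eq hO hv huv.eq (hN v)] at e1
  have e2 := EightSeven.card_fix_mul_card_invSet (hsub v) hu (hNc huv)
  have e3 := EightSeven.card_fix_mul_card_invSet (hsub (u * v)) hu (hNc ((Commute.refl u).mul_right huv))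
  rw [h2, inf_right_comm, h0] at e2
  rw [h3, show O ⊓ centralizer ({u * v} : Set H) ⊓ centralizer ({u} : Set H) =
    O ⊓ centralizer ({u} : Set H) ⊓ centralizer ({v} : Set H) from ?_, h0] at e3
  · rw [e1]
    nth_rw 3 [e2]
    nth_rw 3 [e3]
    ring
  ext z
  simp only [Subgroup.mem_inf, mem_centralizer_singleton_iff]
  constructor
  · rintro ⟨⟨hz, h12⟩, hzu⟩
    refine ⟨⟨hz, hzu⟩, ?_⟩
    have := (show Commute z u from hzu).mul_right (show Commute z (u * v) from h12)
    rw [← mul_assoc, hu, one_mul] at this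
    exact this.eq
  · rintro ⟨⟨hz, hzu⟩, hzv⟩
    exact ⟨⟨hz, ((show Commute z u from hzu).mul_right (show Commute z v from hzv)).eq⟩, hzu⟩

namespace Setup

variable (hS : Setup G Ω)
include hS

theorem lam_values {a b : Ω} (hab : a ≠ b) :
    {t : G | InU Ω t ∧ t • a = b}.ncard = 1 ∨ {t : G | InU Ω t ∧ t • a = b}.ncard = 3 ∨
    {t : G | InU Ω t ∧ t • a = b}.ncard = 4 ∨ {t : G | InU Ω t ∧ t • a = b}.ncard = 6 := by
  by_cases h : SCase G Ω
  · exact Or.inr (Or.inr (Or.inr (hS.case_S h hab).1))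
  · rcases hS.lam_cases h hab with h' | h' | h' <;> simp [h']

theorem normalizer_four_inf {a b : Ω} (hab : a ≠ b) {h : G} :
    h ∈ normalizer (four G a b : Set G) ↔ ∀ x ∈ four G a b, h * x * h⁻¹ ∈ four G a b :=
  ⟨fun hh x hx => (mem_normalizer_iff.1 hh x).1 hx, fun hh =>
    PGroup.mem_normalizer_of_map_conj_eq (Subgroup.eq_of_le_of_card_ge
      (by rintro _ ⟨x, hx, rfl⟩; exact hh x hx)
      (Subgroup.card_map_of_injective (MulAut.conj h).injective).ge)⟩

/-- The parameters in even degree. -/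
theorem even_cases (hn : Nat.card Ω % 2 = 0) {u : G} {a b : Ω} (hu1 : u ≠ 1) (hab : a ≠ b)
    (hu : u ∈ four G a b) :
    (Nat.card Ω = 6 ∧ (fixE Ω u).ncard = 2) ∨
    (Nat.card Ω = 16 ∧ (fixE Ω u).ncard = 4 ∧ (fixS Ω (four G a b)).ncard = 4 ∧
      {t : G | InU Ω t ∧ t • a = b}.ncard = 3) ∨
    (Nat.card Ω = 28 ∧ (fixE Ω u).ncard = 4 ∧ {t : G | InU Ω t ∧ t • a = b}.ncard = 6) := by
  classical
  haveI := Fact.mk Nat.prime_two
  set H := stabilizer G a with hH
  set V := four G a b with hV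
  have hVH : V ≤ H := fun x hx => (hS.four_le hab hx).1
  obtain ⟨v, hv, hv1, hvu⟩ := hS.exists_mem_four hab u
  set f := (fixE Ω u).ncard with hf
  set g := (fixS Ω V).ncard with hg
  set n := Nat.card Ω with hndef
  set lam := {t : G | InU Ω t ∧ t • a = b}.ncard with hlam
  have hf2 : 2 ≤ f := hS.two_le_fix (hS.four_inU hab hu hu1)
  have hg2 : 2 ≤ g := hS.two_le_fixS hab
  have hn2 : 2 ≤ n := hS.two_le_card hab
  have hfe : f % 2 = 0 := (hS.parity hu1 hab hu).1.trans hn
  have hge : g % 2 = 0 := (hS.parity hu1 hab hu).2.trans hn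
  -- the Sylow 2-subgroups of `H`
  set V' := V.subgroupOf H with hV'
  have hV4 : Nat.card V' = 4 := by
    rw [hV', Nat.card_congr (Subgroup.subgroupOfEquivOfLe hVH).toEquiv]; exact hS.card_four hab
  have hVsq : ∀ x ∈ V', x * x = 1 := fun x hx => Subtype.ext (hS.four_sq hab hx)
  obtain ⟨S₀, hS₀⟩ := (IsPGroup.of_card (p := 2) (n := 2) (by rw [hV4]; norm_num) : IsPGroup 2 V').exists_le_sylow
  have hcardH : Nat.card H = (n - 1) * 12 := hS.card_stabilizer hab
  have hS4 : (S₀ : Subgroup H) = V' := by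
    refine (Subgroup.eq_of_le_of_card_ge hS₀ ?_).symm
    rw [hV4, S₀.card_eq_multiplicity, hcardH]
    rw [show (n - 1) * 12 = ((n - 1) * 3) * 2 ^ 2 by ring, Nat.factorization_mul (by omega) (by norm_num),
      Finsupp.add_apply, Nat.factorization_eq_zero_of_not_dvd (show ¬ 2 ∣ (n - 1) * 3 by omega),
      zero_add, Nat.Prime.factorization_pow Nat.prime_two, Finsupp.single_eq_same]
    norm_num
  -- `O(H)` and the quotient
  set O := Cfsg.oddCore H with hO
  have hOodd : Odd (Nat.card O) := PCore.odd_card_oddCore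
  set π := QuotientGroup.mk' O with hπ
  have hπker : π.ker = O := QuotientGroup.ker_mk' O
  have hinj : ∀ {x : H}, x * x = 1 → π x = 1 → x = 1 := by
    intro x hx hx1
    have hxO : x ∈ O := (QuotientGroup.eq_one_iff x).1 hx1
    by_contra hne
    have h2 := Subgroup.orderOf_dvd_natCard O hxO
    rw [orderOf_two hx hne] at h2
    exact (Nat.not_even_iff_odd.2 hOodd) (even_iff_two_dvd.2 h2)
  have hSylX : ∀ T : Sylow 2 (H ⧸ O), IsKleinFour (T : Subgroup (H ⧸ O)) := by
    intro T
    obtain ⟨T₁, rfl⟩ := Sylow.mapSurjective_surjective (QuotientGroup.mk'_surjective O) 2 T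
    have hsq : ∀ x ∈ (T₁ : Subgroup H), x * x = 1 := by
      intro x hx
      have e := ((T₁.equiv S₀) ⟨x, hx⟩).2
      have h2 := hVsq _ (hS4.le e)
      have h3 : T₁.equiv S₀ (⟨x, hx⟩ * ⟨x, hx⟩) = 1 := by rw [map_mul]; exact Subtype.ext h2
      rw [MulEquiv.map_eq_one_iff] at h3
      exact congrArg Subtype.val h3
    have hc : Nat.card ((T₁.mapSurjective (QuotientGroup.mk'_surjective O) : Sylow 2 (H ⧸ O)) :
        Subgroup (H ⧸ O)) = 4 := by
      rw [Sylow.coe_mapSurjective]
      have h := card_map_mul_inf_ker π (T₁ : Subgroup H)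
      rw [show π.ker ⊓ (T₁ : Subgroup H) = ⊥ from (Subgroup.eq_bot_iff_forall _).2 fun x hx =>
        hinj (hsq x hx.2) hx.1, Subgroup.card_bot, mul_one] at h
      rw [h, Nat.card_congr (T₁.equiv S₀).toEquiv, hS4, hV4]
    refine ⟨hc, ?_⟩
    have hdvd : Monoid.exponent ↥((T₁.mapSurjective (QuotientGroup.mk'_surjective O) : Sylow 2 (H ⧸ O)) :
        Subgroup (H ⧸ O)) ∣ 2 := by
      refine Monoid.exponent_dvd_of_forall_pow_eq_one fun ⟨x, hx⟩ => ?_
      rw [Sylow.coe_mapSurjective] at hx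
      obtain ⟨y, hy, rfl⟩ := hx
      rw [pow_two]
      refine Subtype.ext ?_
      show π y * π y = 1
      rw [← map_mul, hsq y hy, map_one]
    rcases (Nat.dvd_prime Nat.prime_two).1 hdvd with h | h
    · haveI := Monoid.exp_eq_one_iff.1 h
      rw [Nat.card_of_subsingleton (1 : ↥((T₁.mapSurjective (QuotientGroup.mk'_surjective O) :
        Sylow 2 (H ⧸ O)) : Subgroup (H ⧸ O)))] at hc
      omega
    · exact h
  set u' : H := ⟨u, hVH hu⟩ with hu'
  set v' : H := ⟨v, hVH hv⟩ with hv'
  have hconjH : ∀ y ∈ V', y ≠ 1 → IsConj u' y := by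
    intro y hy hy1
    obtain ⟨z, hz, hzy⟩ := hS.four_conj hab hu hu1 hy fun e => hy1 (Subtype.ext e)
    exact isConj_iff.2 ⟨⟨z, (mem_pair.1 hz).1⟩, Subtype.ext hzy⟩
  have hπu : orderOf (π u') = 2 := orderOf_two (by rw [← map_mul, hVsq u' hu, map_one])
    fun e => hu1 (congrArg Subtype.val (hinj (hVsq u' hu) e))
  have hone : ∀ x y : H ⧸ O, orderOf x = 2 → orderOf y = 2 → IsConj x y := by
    suffices key : ∀ x : H ⧸ O, orderOf x = 2 → IsConj (π u') x from
      fun x y hx hy => (key x hx).symm.trans (key y hy)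
    intro x hx
    obtain ⟨T, hT⟩ := (IsPGroup.of_card (p := 2) (n := 1)
      (by rw [Nat.card_zpowers, hx, pow_one]) : IsPGroup 2 (zpowers x)).exists_le_sylow
    obtain ⟨T₁, rfl⟩ := Sylow.mapSurjective_surjective (QuotientGroup.mk'_surjective O) 2 T
    have hx' := hT (mem_zpowers x)
    rw [Sylow.coe_mapSurjective] at hx'
    obtain ⟨y, hy, rfl⟩ := hx'
    obtain ⟨c, hc⟩ := MulAction.exists_smul_eq H T₁ S₀
    have hy1 : c * y * c⁻¹ ∈ V' := by
      rw [← hS4, ← hc]
      exact ⟨y, hy, rfl⟩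
    have hne : c * y * c⁻¹ ≠ 1 := fun e => by
      rw [conj_eq_one_iff] at e
      rw [e, map_one, orderOf_one] at hx
      omega
    exact π.map_isConj ((hconjH _ hy1 hne).trans (isConj_iff.2 ⟨c⁻¹, by group⟩))
  obtain ⟨α, m, hαodd, hm, hcnt, hNC, -⟩ :=
    exists_fourData hSylX (PCore.pPrimeCore_quotient_self_eq_bot (p := 2)) hone
  -- the orders of centralisers
  set o1 := Nat.card ↥(O ⊓ centralizer ({u'} : Set H)) with ho1
  set o0 := Nat.card ↥(O ⊓ centralizer (V' : Set H)) with ho0
  have hp2 : (Nat.card O).Coprime 2 := Nat.coprime_two_right.2 hOodd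
  have hC : Nat.card (centralizer ({u'} : Set H)) = (f - 1) * 4 := by
    rw [← hS.card_centralizer_stabilizer hu1 hab hu, ← Subgroup.card_map_of_injective H.subtype_injective]
    refine Nat.card_congr (Equiv.setCongr (congrArg SetLike.coe (?_ : _ = _)))
    ext x
    simp only [Subgroup.mem_map, Subgroup.mem_inf, mem_centralizer_singleton_iff]
    exact ⟨fun ⟨y, hy, e⟩ => e ▸ ⟨congrArg Subtype.val hy, y.2⟩,
      fun hx => ⟨⟨x, hx.2⟩, Subtype.ext hx.1, rfl⟩⟩
  have hCX : Nat.card (centralizer ({π u'} : Set (H ⧸ O))) * o1 = (f - 1) * 4 := by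
    have hmap : (centralizer ({u'} : Set H)).map π = centralizer ({π u'} : Set (H ⧸ O)) := by
      have h := PCore.map_centralizer_mk' (p := 2) O hp2 (P := zpowers u')
        (IsPGroup.of_card (n := 1) (by
          rw [Nat.card_zpowers, orderOf_two (hVsq u' hu) fun e => hu1 (congrArg Subtype.val e), pow_one]))
      rw [MonoidHom.map_zpowers, zpowers_eq_closure, zpowers_eq_closure, centralizer_closure,
        centralizer_closure] at h
      exact h
    have h := card_map_mul_inf_ker π (centralizer ({u'} : Set H))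
    rw [hπker, hmap, hC] at h
    exact h
  have hNH : Nat.card (normalizer (V' : Set H)) = (g - 1) * 12 := by
    rw [← hS.card_normalizer_stabilizer hab, ← Subgroup.card_map_of_injective H.subtype_injective]
    refine Nat.card_congr (Equiv.setCongr (congrArg SetLike.coe (?_ : _ = _)))
    ext x
    simp only [Subgroup.mem_map, Subgroup.mem_inf]
    constructor
    · rintro ⟨y, hy, rfl⟩
      exact ⟨(hS.normalizer_four_inf hab).2 fun z hz => (mem_normalizer_iff.1 hy ⟨z, hVH hz⟩).1 hz, y.2⟩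
    · intro hx
      exact ⟨⟨x, hx.2⟩, mem_normalizer_iff.2 fun z => mem_normalizer_iff.1 hx.1 z, rfl⟩
  have hNX : Nat.card (normalizer ((V'.map π : Subgroup (H ⧸ O)) : Set (H ⧸ O))) * o0 = (g - 1) * 12 := by
    have hV2 : IsPGroup 2 V' := IsPGroup.of_card (n := 2) (by rw [hV4]; norm_num)
    rw [← hNH, ← PCore.map_normalizer_mk' O hp2 hV2, ho0]
    rw [show O ⊓ centralizer (V' : Set H) = π.ker ⊓ normalizer (V' : Set H) from ?_]
    · exact card_map_mul_inf_ker π _
    rw [hπker]
    refine le_antisymm (inf_le_inf_left O fun c hc => mem_normalizer_iff.2 fun z => ⟨fun hz => by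
      rw [show c * z * c⁻¹ = z by rw [← mem_centralizer_iff.1 hc z hz, mul_inv_cancel_right]]; exact hz,
      fun hz => ?_⟩) fun c hc => ⟨hc.1, mem_centralizer_iff.2 fun z hz => ?_⟩
    · have : z = c⁻¹ * (c * z * c⁻¹) * c := by group
      rw [this, mul_assoc, mem_centralizer_iff.1 hc _ hz, inv_mul_cancel_left]
      exact hz
    · have h1 : z⁻¹ * (c * z * c⁻¹) ∈ V' := mul_mem (inv_mem hz) ((mem_normalizer_iff.1 hc.2 z).1 hz)
      have h2 : z⁻¹ * (c * z * c⁻¹) ∈ O := by
        rw [show z⁻¹ * (c * z * c⁻¹) = (z⁻¹ * c * z) * c⁻¹ by group]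
        exact mul_mem (Subgroup.Normal.conj_mem' inferInstance c hc.1 z) (inv_mem hc.1)
      have h3 := hinj (hVsq _ h1) ((QuotientGroup.eq_one_iff _).2 h2)
      rw [inv_mul_eq_one] at h3
      exact mul_inv_eq_iff_eq_mul.1 h3.symm |>.symm
  have hVX : IsKleinFour (V'.map π : Subgroup (H ⧸ O)) := by
    have h := hSylX (S₀.mapSurjective (QuotientGroup.mk'_surjective O))
    rw [Sylow.coe_mapSurjective] at h
    rwa [hS4] at h
  have h0 : Nat.card ↥(O ⊓ centralizer ({u'} : Set H) ⊓ centralizer ({v'} : Set H)) = o0 := by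
    rw [ho0, inf_assoc]
    congr 3
    ext z
    simp only [Subgroup.mem_inf, mem_centralizer_singleton_iff]
    rw [mem_centralizer_iff]
    refine ⟨fun ⟨hzO, hzu, hzv⟩ => ⟨hzO, fun x hx => ?_⟩,
      fun h => ⟨h.1, (h.2 u' hu).symm, (h.2 v' hv).symm⟩⟩
    rcases hS.four_cases hab hu hu1 hv hv1 hvu hx with e | e | e | e
    · rw [show x = 1 from Subtype.ext e, one_mul, mul_one]
    · rw [show x = u' from Subtype.ext e]; exact hzu.symm
    · rw [show x = v' from Subtype.ext e]; exact hzv.symm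
    · rw [show x = u' * v' from Subtype.ext e]
      exact ((show Commute z u' from hzu).mul_right (show Commute z v' from hzv)).eq.symm
  have hconjcard : ∀ y ∈ V', y ≠ 1 → Nat.card ↥(O ⊓ centralizer ({y} : Set H)) = o1 := by
    intro y hy hy1
    obtain ⟨c, rfl⟩ := isConj_iff.1 (hconjH y hy hy1)
    rw [ho1, ← Subgroup.card_map_of_injective (K := O ⊓ centralizer ({u'} : Set H))
      (f := (MulAut.conj c).toMonoidHom) (MulAut.conj c).injective]
    congr 3
    ext z
    simp only [Subgroup.mem_map, Subgroup.mem_inf, mem_centralizer_singleton_iff, MulEquiv.coe_toMonoidHom,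
      MulAut.conj_apply]
    constructor
    · intro hz
      refine ⟨c⁻¹ * z * c, ⟨Subgroup.Normal.conj_mem' inferInstance z hz.1 c, ?_⟩, by group⟩
      calc c⁻¹ * z * c * u' = c⁻¹ * (z * (c * u' * c⁻¹)) * c := by group
        _ = c⁻¹ * ((c * u' * c⁻¹) * z) * c := by rw [hz.2]
        _ = u' * (c⁻¹ * z * c) := by group
    · rintro ⟨y, ⟨hy, hyu⟩, rfl⟩
      refine ⟨Subgroup.Normal.conj_mem inferInstance y hy c, ?_⟩
      calc c * y * c⁻¹ * (c * u' * c⁻¹) = c * (y * u') * c⁻¹ := by group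
        _ = c * (u' * y) * c⁻¹ := by rw [hyu]
        _ = c * u' * c⁻¹ * (c * y * c⁻¹) := by group
  have hB := brauer_wielandt O hOodd (u := u') (v := v') (hVsq u' hu) (hVsq v' hv)
    (Subtype.ext (hS.four_comm hab hu hv).eq) h0 rfl
    (hconjcard v' hv fun e => hv1 (congrArg Subtype.val e))
    (hconjcard (u' * v') (mul_mem hu hv) fun e => hvu (by
      have e' : u * v = 1 := congrArg Subtype.val e
      rw [eq_inv_of_mul_eq_one_right e', inv_eq_of_mul_eq_one_right (hS.four_sq hab hu)]))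
  -- the equations
  have hXO := card_map_mul_inf_ker π ⊤
  rw [inf_top_eq, hπker, Subgroup.map_top_of_surjective π (QuotientGroup.mk'_surjective O), Subgroup.card_top,
    Subgroup.card_top, hcardH, ← hcnt (π u') hπu] at hXO
  have hNC' := hNC (π u') _ hπu hVX
  set C1 := Nat.card (centralizer ({π u'} : Set (H ⧸ O)))
  set N := Nat.card (normalizer ((V'.map π : Subgroup (H ⧸ O)) : Set (H ⧸ O)))
  have ho0pos : 0 < o0 := Nat.card_pos
  have ho1pos : 0 < o1 := Nat.card_pos
  have hlin : (g - 1) * (α * o1) = (f - 1) * o0 := by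
    refine Nat.eq_of_mul_eq_mul_left (show 0 < 12 by norm_num) ?_
    calc 12 * ((g - 1) * (α * o1)) = (N * o0) * (α * o1) := by rw [hNX]; ring
      _ = (α * N) * (o0 * o1) := by ring
      _ = (3 * C1) * (o0 * o1) := by rw [hNC']
      _ = 3 * o0 * (C1 * o1) := by ring
      _ = _ := by rw [hCX]; ring
  have hlameq := hS.lam_eq (hS.four_inU hab hu hu1) hab
  rw [← hf, ← hlam, ← hndef] at hlameq
  have hfn : f < n := hS.fix_lt (hS.four_inU hab hu hu1)
  have hn1 : 3 * (n - 1) = (f - 1) * (3 + lam * f) := by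
    obtain ⟨r, hr⟩ : ∃ r, n = r + f := ⟨n - f, by omega⟩
    obtain ⟨k, hk⟩ : ∃ k, f = k + 1 := ⟨f - 1, by omega⟩
    rw [hr, hk, Nat.add_sub_cancel, show k + 1 - 1 = k by omega] at hlameq
    rw [hr, hk, show r + (k + 1) - 1 = r + k by omega, show k + 1 - 1 = k by omega]
    linarith
  have hquad : (3 + lam * f) * (o0 * o0) = m * (o1 * o1) := by
    refine Nat.eq_of_mul_eq_mul_left (show 0 < 4 * (f - 1) by omega) ?_
    calc 4 * (f - 1) * ((3 + lam * f) * (o0 * o0)) = 4 * ((f - 1) * (3 + lam * f)) * (o0 * o0) := by ring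
      _ = (n - 1) * 12 * (o0 * o0) := by rw [← hn1]; ring
      _ = m * C1 * (Nat.card O * (o0 * o0)) := by rw [← hXO]; ring
      _ = m * (C1 * o1) * (o1 * o1) := by rw [hB]; ring
      _ = _ := by rw [hCX]; ring
  have hpp : IsPrimePow g := hS.isPrimePow_fixS hu1 hab hu
  have hlamv := hS.lam_values hab
  rw [← hlam] at hlamv
  have hcent_le : O ⊓ centralizer (V' : Set H) ≤ O ⊓ centralizer ({u'} : Set H) :=
    inf_le_inf_left O fun z hz => mem_centralizer_singleton_iff.2 (mem_centralizer_iff.1 hz u' hu).symm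
  have hdvd : o0 ∣ o1 := Subgroup.card_dvd_of_le hcent_le
  clear hB hXO hNX hCX hNC' hn2
  clear_value f g lam n o0 o1
  rcases eq_or_lt_of_le (hS.fixS_le_fix hu) with hfg | hfg
  · -- all involutions of the four-group have the same fixed points
    rw [← hf, ← hg] at hfg
    obtain ⟨r, hr⟩ := hdvd
    rw [hfg] at hlin
    have h1 : α * o1 = o0 := Nat.eq_of_mul_eq_mul_left (by omega) hlin
    have h2 : α * r = 1 := Nat.eq_of_mul_eq_mul_left ho0pos (by
      rw [hr] at h1; rw [mul_one]; nth_rw 2 [← h1]; ring)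
    obtain ⟨rfl, rfl⟩ := mul_eq_one.1 h2
    rw [mul_one] at hr
    rw [hr] at hquad
    have h3 : 3 + lam * f = m := Nat.eq_of_mul_eq_mul_right (Nat.mul_pos ho0pos ho0pos) hquad
    rw [hfg] at hpp
    rcases hm with ⟨-, rfl⟩ | ⟨h, -⟩ | hm
    · exfalso
      have : 0 < lam * f := Nat.mul_pos (by omega) (by omega)
      omega
    · omega
    · rcases hlamv with e | e | e | e <;> rw [e] at h3 hn1
      · exact absurd (show f = 12 by omega) fun e' => twelve_not_primePow (e' ▸ hpp)
      · refine Or.inr (Or.inl ⟨?_, by omega, by omega, e⟩)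
        obtain rfl : f = 4 := by omega
        omega
      · omega
      · refine Or.inl ⟨?_, by omega⟩
        obtain h2f : f = 2 := by omega
        rw [h2f] at hn1
        omega
  · obtain ⟨μ, hμ, -, hrel⟩ := hS.fix_relation hu1 hab hu hfg
    rw [← hf, ← hg] at hrel hfg
    obtain ⟨l, hl, hfl⟩ : ∃ l, (l = 1 ∨ l = 2) ∧ f = g + l * (g * (g - 1)) := by
      rcases hμ with rfl | rfl
      · exact ⟨1, Or.inl rfl, by omega⟩
      · exact ⟨2, Or.inr rfl, by omega⟩
    set T := l * g + 1 with hT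
    obtain ⟨k, hk⟩ : ∃ k, g = k + 1 := ⟨g - 1, by omega⟩
    have hf1 : f - 1 = (g - 1) * T := by
      have : f = (g - 1) * T + 1 := by rw [hfl, hT, hk, show k + 1 - 1 = k by omega]; ring
      omega
    have hTo : α * o1 = T * o0 := by
      refine Nat.eq_of_mul_eq_mul_left (show 0 < g - 1 by omega) ?_
      rw [hlin, hf1]; ring
    have hmain : (3 + lam * f) * (α * α) = T * T * m := by
      refine Nat.eq_of_mul_eq_mul_right (Nat.mul_pos ho0pos ho0pos) ?_
      calc (3 + lam * f) * (α * α) * (o0 * o0) = (3 + lam * f) * (o0 * o0) * (α * α) := by ring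
        _ = m * ((α * o1) * (α * o1)) := by rw [hquad]; ring
        _ = _ := by rw [hTo]; ring
    have hfle : f ≤ l * g * (l * g) := by
      rw [hfl, hk, show k + 1 - 1 = k by omega]
      rcases hl with rfl | rfl <;> nlinarith
    have hlam6 : lam ≤ 6 := by omega
    rcases hm with ⟨rfl, rfl⟩ | hm
    · -- `A₄`
      simp only [mul_one] at hmain
      have hmain' : 3 + lam * f = 3 * (T * T) := by linarith
      rcases hl with rfl | rfl
      · rw [hfl, hT, hk, show k + 1 - 1 = k by omega] at hmain'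
        have h5 : lam * (k + 1) = 3 * (k + 3) := by
          refine Nat.eq_of_mul_eq_mul_left (show 0 < k + 1 by omega) ?_
          linarith
        rcases hlamv with e | e | e | e <;> rw [e] at h5 hn1
        · omega
        · omega
        · exact absurd (show g = 6 by omega) fun e' => six_not_primePow (e' ▸ hpp)
        · obtain rfl : k = 1 := by omega
          refine Or.inr (Or.inr ⟨?_, ?_, e⟩)
          · have hf4 : f = 4 := by rw [hfl, hk]
            rw [hf4] at hn1
            omega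
          · rw [hfl, hk]
      · exfalso
        rw [hfl, hT, hk, show k + 1 - 1 = k by omega] at hmain'
        have h5 : lam * (2 * k + 1) = 12 * (k + 2) := by
          refine Nat.eq_of_mul_eq_mul_left (show 0 < k + 1 by omega) ?_
          linarith
        have h6 : lam * (2 * k + 1) ≤ 6 * (2 * k + 1) := Nat.mul_le_mul_right _ hlam6
        omega
    · exfalso
      have hα : 0 < α := Nat.pos_of_ne_zero fun e => by
        rw [e, zero_mul] at hTo
        have : 0 < T * o0 := Nat.mul_pos (by omega) ho0pos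
        omega
      have hm6 : 6 * (α * α) ≤ m := by
        rcases hm with ⟨h2α, hm⟩ | hm
        · rcases Nat.lt_or_ge α 3 with h3 | h3
          · obtain rfl : α = 2 := by omega
            exact absurd hαodd (by decide)
          · have h9 : 3 * α ≤ α * α := Nat.mul_le_mul_right α h3
            linarith
        · linarith [Nat.zero_le (α * α)]
      have h7 : 6 * (T * T) ≤ 3 + lam * f := by
        refine Nat.le_of_mul_le_mul_right ?_ (Nat.mul_pos hα hα)
        rw [hmain]
        calc 6 * (T * T) * (α * α) = T * T * (6 * (α * α)) := by ring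
          _ ≤ T * T * m := Nat.mul_le_mul_left _ hm6
      have h8 : lam * f ≤ 6 * (l * g * (l * g)) := Nat.mul_le_mul hlam6 hfle
      rw [hT] at h7
      have h9 : 1 ≤ l * g := Nat.mul_pos (by omega) (by omega)
      generalize l * g = L at *
      have h10 : (L + 1) * (L + 1) = L * L + 2 * L + 1 := by ring
      omega

end Setup

end Cfsg.Agent.TwoTransA4
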