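import Cfsg.Agent.Lib.TwoTransA4.OddFour

/-!
# The last case with all involutions centralising four-groups, via Gorenstein-Walter

Here `C(u)` modulo `⟨u⟩` has four-group Sylow 2-subgroups and one class of involutions.
-/

set_option autoImplicit false
set_option maxHeartbeats 800000
set_option linter.style.haveILetI false
set_option linter.unusedSectionVars false

namespace Cfsg.Agent.TwoTransA4

open Subgroup MulAction

variable {G : Type*} [Group G] {Ω : Type*} [MulAction G Ω] [Finite G] [Finite Ω] [FaithfulSMul G Ω]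

/-- The order of a subgroup from its image. -/
theorem card_eq_card_map_mul {H K : Type*} [Group H] [Group K] [Finite H] (φ : H →* K) (L : Subgroup H) :
    Nat.card L = Nat.card (L.map φ) * Nat.card ↥(φ.ker ⊓ L) := by
  have h1 := Subgroup.relIndex_mul_relIndex ⊥ (φ.ker ⊓ L) L bot_le inf_le_right
  rw [Subgroup.inf_relIndex_right, Subgroup.relIndex_ker, Subgroup.relIndex_bot_left,
    Subgroup.relIndex_bot_left] at h1
  rw [← h1, mul_comm]

theorem sq_of_two_pow {H : Type*} [Group H] (h4 : ∀ q : H, q * q * (q * q) = 1 → q * q = 1) :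
    ∀ (k : ℕ) (q : H), q ^ 2 ^ k = 1 → q * q = 1
  | 0, q, h => by rw [pow_zero, pow_one] at h; rw [h, one_mul]
  | k + 1, q, h => by
      refine h4 q (sq_of_two_pow h4 k (q * q) ?_)
      rw [← pow_two, ← pow_mul, ← pow_succ', h]

namespace Setup

variable (hS : Setup G Ω)
include hS

/-- No involution with two fixed points is a square. -/
theorem no_sqrt (hC : ¬ SCase G Ω) {u : G} {a b : Ω} (hu1 : u ≠ 1) (hab : a ≠ b) (hu : u ∈ four G a b)
    {q : G} (hq : q * q = u) : False := by
  have hqu : Commute q u := hq ▸ (Commute.refl q).mul_right (Commute.refl q)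
  by_cases hfix : q • a = a ∧ q • b = b
  · have := hS.four_sq hab (hS.mem_four_of_commute hab hu hu1 (mem_pair.2 hfix) hqu)
    exact hu1 (hq ▸ this)
  obtain ⟨c, hc, hne⟩ : ∃ c ∈ fixE Ω u, q • c ≠ c := by
    by_contra h
    push Not at h
    exact hfix ⟨h a (hS.four_le hab hu).1, h b (hS.four_le hab hu).2⟩
  set d := q • c with hd
  have hdF : d ∈ fixE Ω u := smul_mem_fixE hqu hc
  have hqd : q • d = c := by rw [hd, ← mul_smul, hq]; exact hc
  have huc : u ∈ four G c d := hS.mem_four_of_fix (hS.four_sq hab hu) hne.symm hc hdF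
  obtain ⟨t, -, ht⟩ := hS.exists_inU_Sw hne.symm
  have htq : t * q ∈ pair G c d :=
    mem_pair.2 ⟨by rw [mul_smul, ← hd, smul_of_mem ht], by rw [mul_smul, hqd, ht.2]⟩
  have hx := hS.mem_four_of_commute hne.symm huc hu1 htq ((hS.central hC hne.symm ht huc).mul_left hqu)
  refine hu1 (hq ▸ ?_)
  have hq' : q = t * (t * q) := by rw [← mul_assoc, ht.1, one_mul]
  rw [hq', (hS.central hC hne.symm ht hx).symm.mul_mul_mul_comm, ht.1, hS.four_sq hne.symm hx, one_mul]

theorem false_mu_four (hC : ¬ SCase G Ω) (hn : Nat.card Ω % 2 = 1) {u : G} {a b : Ω} (hu1 : u ≠ 1)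
    (hab : a ≠ b) (hu : u ∈ four G a b) (hl : {t : G | InU Ω t ∧ t • a = b}.ncard = 4)
    (hone : OneF Ω u = ∅)
    (hf : (fixE Ω u).ncard =
      (fixS Ω (four G a b)).ncard + 2 * ((fixS Ω (four G a b)).ncard * ((fixS Ω (four G a b)).ncard - 1))) :
    False := by
  classical
  haveI := Fact.mk Nat.prime_two
  set V := four G a b with hV
  set g := (fixS Ω V).ncard with hg
  set f := (fixE Ω u).ncard with hfdef
  have hg2 : 2 ≤ g := hS.two_le_fixS hab
  have hgodd : g % 2 = 1 := (hS.parity hu1 hab hu).2.trans hn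
  obtain ⟨k, hk⟩ : ∃ k, g = k + 3 := ⟨g - 3, by omega⟩
  have hgf : g < f := by
    rw [hf]
    have : 0 < g * (g - 1) := Nat.mul_pos (by omega) (by omega)
    omega
  obtain ⟨v, hv, hv1, hvu⟩ := hS.exists_mem_four hab u
  have hu2 : u * u = 1 := hS.four_sq hab hu
  -- elements of order four do not exist
  have h4 : ∀ q : G, q * q * (q * q) = 1 → q * q = 1 := fun q hq => by
    by_contra h
    obtain ⟨c, d, hcd, hx⟩ := hS.inU_mem_four (hS.all_inU hC hab hl hq h)
    exact hS.no_sqrt hC h hcd hx rfl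
  -- the action on `Fix(u)`
  set M := centralizer ({u} : Set G) with hM
  have hMu : ∀ {h : G}, h ∈ M → Commute h u := fun hh => mem_centralizer_singleton_iff.1 hh
  set F := fixE Ω u with hF
  letI : MulAction M F :=
    { smul := fun h c => ⟨(h : G) • (c : Ω), smul_mem_fixE (hMu h.2) c.2⟩
      one_smul := fun c => Subtype.ext (one_smul G (c : Ω))
      mul_smul := fun h h' c => Subtype.ext (mul_smul (h : G) (h' : G) (c : Ω)) }
  set φ := MulAction.toPermHom M F with hφ
  set B := φ.range with hB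
  set π := φ.rangeRestrict with hπ
  have hπs : Function.Surjective π := φ.rangeRestrict_surjective
  have hπval : ∀ (h : M) (c : F), ((π h • c : F) : Ω) = (h : G) • (c : Ω) := fun _ _ => rfl
  have hker : ∀ h : M, π h = 1 ↔ (h : G) = 1 ∨ (h : G) = u := by
    intro h
    constructor
    · intro e
      have hfx : ∀ c ∈ F, (h : G) • c = c := fun c hc => by rw [← hπval h ⟨c, hc⟩, e, one_smul]
      have hhV : (h : G) ∈ V := hS.mem_four_of_commute hab hu hu1
        (mem_pair.2 ⟨hfx a (hS.four_le hab hu).1, hfx b (hS.four_le hab hu).2⟩) (hMu h.2)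
      by_contra hne
      rw [not_or] at hne
      have := hS.fix_inter hab hu hu1 hhV hne.1 hne.2
      rw [show {e ∈ F | (h : G) • e = e} = F from Set.ext fun e => ⟨fun h' => h'.1, fun h' => ⟨h', hfx e h'⟩⟩]
        at this
      rw [hfdef, hg, ← this] at hgf
      omega
    · intro e
      refine Subtype.ext (Equiv.ext fun c => Subtype.ext ?_)
      rcases e with e | e
      · show (h : G) • (c : Ω) = c; rw [e, one_smul]
      · show (h : G) • (c : Ω) = c; rw [e]; exact c.2
  have hkercard : Nat.card π.ker = 2 := by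
    rw [← Set.ncard_pair (show (1 : M) ≠ ⟨u, mem_centralizer_singleton_iff.2 rfl⟩ from
      fun e => hu1 (congrArg Subtype.val e).symm), ← Nat.card_coe_set_eq]
    refine Nat.card_congr (Equiv.setCongr (Set.ext fun h => ?_))
    simp only [SetLike.mem_coe, MonoidHom.mem_ker, hker, Set.mem_insert_iff, Set.mem_singleton_iff,
      Subtype.ext_iff, Subgroup.coe_one]
  have heq : ∀ h h' : M, π h = π h' → (h' : G) = h ∨ (h' : G) = h * u := by
    intro h h' e
    rcases (hker (h⁻¹ * h')).1 (by rw [map_mul, map_inv, e, inv_mul_cancel]) with e' | e'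
    · exact Or.inl (inv_mul_eq_one.1 e').symm
    · exact Or.inr (inv_mul_eq_iff_eq_mul.1 e')
  have hπmul : ∀ (h h' : M), (h' : G) = h * u → π h' = π h := fun h h' e => by
    have : π (h⁻¹ * h') = 1 := (hker _).2 (Or.inr (by push_cast; rw [e, inv_mul_cancel_left]))
    rw [map_mul, map_inv, inv_mul_eq_one] at this
    exact this.symm
  have hsq : ∀ (h : M) (j : ℕ), π h ^ 2 ^ j = 1 → (h : G) * h = 1 := by
    intro h j e
    refine sq_of_two_pow h4 (j + 1) (h : G) ?_
    have e1 := (hker (h ^ 2 ^ j)).1 (by rw [map_pow, e])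
    rw [SubmonoidClass.coe_pow] at e1
    rw [pow_succ, pow_mul]
    rcases e1 with e1 | e1 <;> rw [e1, pow_two]
    · rw [one_mul]
    · exact hu2
  -- involutions of the image
  have hinv : ∀ h : M, orderOf (π h) = 2 → (h : G) ∈ Y Ω u := by
    intro h hh
    have h2 : (h : G) * h = 1 := hsq h 1 (by rw [pow_one, ← hh, pow_orderOf_eq_one])
    have hne : π h ≠ 1 := fun e => by rw [e, orderOf_one] at hh; omega
    rw [Ne, hker, not_or] at hne
    have hodd := ncard_fix_mod_two (t := (h : G)) (X := F) (fun c hc => smul_mem_fixE (hMu h.2) hc)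
      (fun c _ => by rw [← mul_smul, h2, one_smul])
    rw [hF, (hS.parity hu1 hab hu).1, hn] at hodd
    have hnot : ¬ {c ∈ F | (h : G) • c = c}.ncard = 1 := fun e => by
      have : (h : G) ∈ OneF Ω u := ⟨h2, hMu h.2, e⟩
      rw [hone] at this
      exact this
    obtain ⟨c, hc, d, hd, hcd⟩ := (Set.one_lt_ncard (Set.toFinite _)).1
      (show 1 < {c ∈ F | (h : G) • c = c}.ncard by rw [hF] at hnot ⊢; omega)
    exact ⟨h2, hne.1, hne.2, hMu h.2, c, d, hcd, hc.1, hd.1, hc.2, hd.2⟩
  set vM : M := ⟨v, mem_centralizer_singleton_iff.2 (hS.four_comm hab hv hu).eq⟩ with hvM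
  have hvo : orderOf (π vM) = 2 :=
    orderOf_two (by rw [← map_mul, ← map_one π]; exact congrArg π (Subtype.ext (hS.four_sq hab hv)))
      (by rw [Ne, hker, not_or]; exact ⟨hv1, hvu⟩)
  have hconj : ∀ x : B, orderOf x = 2 → IsConj (π vM) x := by
    intro x hx
    obtain ⟨y, rfl⟩ := hπs x
    obtain ⟨hy2, hy1, hyu, -, c, d, hcd, hc, hd, hyc, hyd⟩ := hinv y hx
    obtain ⟨h, hh, hha, hhb⟩ := hS.exists_centralizer_map hu1 hab hu hcd hc hd
    have hv' : h * v * h⁻¹ ∈ four G c d := hha ▸ hhb ▸ hS.conj_mem_four hab h hv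
    have hhu : h * u * h⁻¹ = u := by rw [(hMu hh).eq, mul_inv_cancel_right]
    refine isConj_iff.2 ⟨π ⟨h, hh⟩, ?_⟩
    rw [← map_inv, ← map_mul, ← map_mul]
    rcases hS.four_cases hcd (hS.mem_four_of_fix hu2 hcd hc hd) hu1 hv'
      (fun e => hv1 (conj_eq_one_iff.1 e)) (fun e => hvu (mul_left_cancel (mul_right_cancel (e.trans hhu.symm))))
      (hS.mem_four_of_fix hy2 hcd hyc hyd) with e | e | e | e
    · exact absurd e hy1
    · exact absurd e hyu
    · exact congrArg π (Subtype.ext e.symm)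
    · refine (hπmul _ _ ?_).symm
      show (y : G) = h * v * h⁻¹ * u
      rw [e, (hS.four_comm hcd (hS.mem_four_of_fix hu2 hcd hc hd) hv').eq]
  -- a one-point involution centralising `V`
  set A := {t | t ∈ OneV Ω V ∧ t • a = a} with hA
  have hA4 : A.ncard = 4 := hS.ncard_OneV hC hn hab
  obtain ⟨w, ⟨hw2, hwV, hwone⟩, hwa⟩ := Set.nonempty_of_ncard_ne_zero (by omega : A.ncard ≠ 0)
  have hAset : A = (fun y => w * y) '' (V : Set G) := by
    refine (Set.eq_of_subset_of_ncard_le ?_ ?_).symm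
    · rintro _ ⟨y, hy, rfl⟩
      refine ⟨⟨?_, fun z hz => (hwV z hz).mul_left (hS.four_comm hab hy hz), ?_⟩, ?_⟩
      · rw [(hwV y hy).symm.mul_mul_mul_comm, hw2, hS.four_sq hab hy, one_mul]
      · rw [← hwone]; congr 1; ext e
        exact ⟨fun he => ⟨he.1, by have := he.2; rwa [mul_smul, he.1 y hy] at this⟩,
          fun he => ⟨he.1, by rw [mul_smul, he.1 y hy, he.2]⟩⟩
      · simp only; rw [mul_smul, (hS.four_le hab hy).1, hwa]
    · rw [hA4, Set.ncard_image_of_injective _ (mul_right_injective w), ← Nat.card_coe_set_eq]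
      exact (hS.card_four hab).ge
  have hwnV : w ∉ V := fun h => hab (eq_of_ncard_one hwone ⟨(hS.mem_fixS_self hab).1, hwa⟩
    ⟨(hS.mem_fixS_self hab).2, (hS.four_le hab h).2⟩)
  set wM : M := ⟨w, mem_centralizer_singleton_iff.2 (hwV u hu).eq⟩ with hwM
  have hvw : Commute (π vM) (π wM) := by
    show π vM * π wM = π wM * π vM
    rw [← map_mul, ← map_mul]
    exact congrArg π (Subtype.ext (hwV v hv).eq.symm)
  have hwo : orderOf (π wM) = 2 :=
    orderOf_two (by rw [← map_mul, ← map_one π]; exact congrArg π (Subtype.ext hw2))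
      (by rw [Ne, hker]; exact fun h => hwnV (h.elim (fun e => (show w = 1 from e) ▸ one_mem V)
        (fun e => (show w = u from e) ▸ hu)))
  have hpair : PSL2.IsInvPair (π vM) (π wM) :=
    ⟨hvo, hwo, hvw, fun e => hwnV ((heq _ _ e).elim (fun e' => (show w = v from e') ▸ hv)
      (fun e' => (show w = v * u from e') ▸ mul_mem hv hu))⟩
  -- elements commuting with `v̄` and `w̄`
  have hpres : ∀ h : M, Commute (π h) (π vM) → ∀ q ∈ V, (h : G) * q * (h : G)⁻¹ ∈ V := by
    intro h hc q hq
    have h1 : (h : G) * v * (h : G)⁻¹ ∈ V := by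
      rcases heq vM (h * vM * h⁻¹) (by rw [map_mul, map_mul, map_inv, hc.eq, mul_inv_cancel_right]) with e | e
      · rw [show (h : G) * v * (h : G)⁻¹ = v from e]; exact hv
      · rw [show (h : G) * v * (h : G)⁻¹ = v * u from e]; exact mul_mem hv hu
    have h2 : (h : G) * u * (h : G)⁻¹ = u := by rw [(hMu h.2).eq, mul_inv_cancel_right]
    rcases hS.four_cases hab hu hu1 hv hv1 hvu hq with rfl | rfl | rfl | rfl
    · simp
    · rw [h2]; exact hu
    · exact h1
    · rw [show (h : G) * (u * v) * (h : G)⁻¹ = ((h : G) * u * (h : G)⁻¹) * ((h : G) * v * (h : G)⁻¹) by group, h2]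
      exact mul_mem hu h1
  have hpresX : ∀ h : M, Commute (π h) (π vM) → ∀ c ∈ fixS Ω V, (h : G) • c ∈ fixS Ω V := by
    intro h hc c hcX q hq
    have h1 := hpres h⁻¹ (by rw [map_inv]; exact hc.inv_left) q hq
    have h2 := hcX _ h1
    rw [InvMemClass.coe_inv, inv_inv, mul_smul, mul_smul, inv_smul_eq_iff] at h2
    exact h2
  have hsmall : ∀ h : M, (h : G) * h = 1 → Commute (π h) (π vM) → (h : G) • a = a →
      π h ∈ ({1, π vM, π wM, π wM * π vM} : Set B) := by
    intro h h2 hc ha
    simp only [Set.mem_insert_iff, Set.mem_singleton_iff]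
    have hVcase : (h : G) ∈ V → π h = 1 ∨ π h = π vM := fun hh => by
      rcases hS.four_cases hab hu hu1 hv hv1 hvu hh with e | e | e | e
      · exact Or.inl ((hker h).2 (Or.inl e))
      · exact Or.inl ((hker h).2 (Or.inr e))
      · exact Or.inr (congrArg π (Subtype.ext e))
      · exact Or.inr (hπmul _ _ (by rw [e]; exact (hS.four_comm hab hu hv).eq))
    set X := fixS Ω V
    have hbX : (h : G) • b ∈ X := hpresX h hc b (hS.mem_fixS_self hab).2
    rcases eq_or_ne ((h : G) • b) b with hb | hb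
    · rcases hVcase (hS.mem_four_of_fix h2 hab ha hb) with e | e <;> simp [e]
    have heq' := hS.four_eq_of_fix hab hb.symm (hS.mem_fixS_self hab).2 hbX
    have hcV : ∀ q ∈ V, Commute (h : G) q := fun q hq =>
      hS.central hC hb.symm ⟨h2, rfl⟩ (heq'.symm.le hq)
    by_cases hone' : (h : G) ∈ A
    · rw [hAset] at hone'
      obtain ⟨y, hy, hyh⟩ := hone'
      simp only at hyh
      have hyM : y ∈ M := mem_centralizer_singleton_iff.2 (hS.four_comm hab hy hu).eq
      have e1 : π h = π wM * π ⟨y, hyM⟩ := by rw [← map_mul]; exact congrArg π (Subtype.ext hyh.symm)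
      rcases hS.four_cases hab hu hu1 hv hv1 hvu hy with e | e | e | e
      · right; right; left; rw [e1, (hker ⟨y, hyM⟩).2 (Or.inl e), mul_one]
      · right; right; left; rw [e1, (hker ⟨y, hyM⟩).2 (Or.inr e), mul_one]
      · right; right; right; rw [e1]; exact congrArg (π wM * π ·) (Subtype.ext e)
      · right; right; right
        rw [e1, hπmul vM ⟨y, hyM⟩ (by show y = v * u; rw [e]; exact (hS.four_comm hab hu hv).eq)]
    · exfalso
      refine hone' ⟨⟨h2, hcV, le_antisymm ?_ ((Set.ncard_pos (Set.toFinite _)).2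
        ⟨a, (hS.mem_fixS_self hab).1, ha⟩)⟩, ha⟩
      by_contra hlt
      obtain ⟨c, hc', d, hd', hcd⟩ := (Set.one_lt_ncard (Set.toFinite _)).1 (not_le.1 hlt)
      have h5 := hS.mem_four_of_fix h2 hcd hc'.2 hd'.2
      rw [hS.four_eq_of_fix hab hcd hc'.1 hd'.1] at h5
      exact hb (hS.four_le hab h5).2
  -- Sylow 2-subgroups
  have hSyl : ∀ T : Sylow 2 B, IsKleinFour (T : Subgroup B) := by
    have hexp : ∀ (T : Sylow 2 B) (x : B), x ∈ (T : Subgroup B) → x * x = 1 := by
      intro T x hx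
      obtain ⟨h, rfl⟩ := hπs x
      obtain ⟨j, hj⟩ := T.2 ⟨π h, hx⟩
      rw [← map_mul, ← map_one π]
      exact congrArg π (Subtype.ext (hsq h j (congrArg Subtype.val hj)))
    obtain ⟨T, hT⟩ := ((IsPGroup.of_card (p := 2) (n := 2)
      (by rw [PSL2.card_klein hpair]; norm_num) : IsPGroup 2 (PSL2.klein _ _ hpair))).exists_le_sylow
    have hT4 : Nat.card (T : Subgroup B) = 4 := by
      refine le_antisymm ?_ (PSL2.card_klein hpair ▸ Nat.le_of_dvd Nat.card_pos (Subgroup.card_dvd_of_le hT))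
      have hsub : ((T : Subgroup B) : Set B) ⊆ {1, π vM, π wM, π wM * π vM} := by
        intro x hx
        obtain ⟨h, rfl⟩ := hπs x
        have hcomm : ∀ y ∈ (T : Subgroup B), Commute (π h) y := fun y hy => by
          have e := hexp T _ (mul_mem hx hy)
          show π h * y = y * π h
          calc π h * y = (π h * y)⁻¹ := (inv_eq_of_mul_eq_one_right e).symm
            _ = y * π h := by rw [mul_inv_rev, inv_eq_of_mul_eq_one_right (hexp T _ hx),
                inv_eq_of_mul_eq_one_right (hexp T _ hy)]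
        have hv' := hcomm _ (hT (PSL2.mem_klein.2 (Or.inr (Or.inl rfl))))
        have hw' := hcomm _ (hT (PSL2.mem_klein.2 (Or.inr (Or.inr (Or.inl rfl)))))
        obtain ⟨j, hj⟩ := T.2 ⟨π h, hx⟩
        refine hsmall h (hsq h j (congrArg Subtype.val hj)) hv' ?_
        have hfix : w • ((h : G) • a) = (h : G) • a := by
          rcases heq wM (h⁻¹ * wM * h) (by
            rw [map_mul, map_mul, map_inv, mul_assoc, ← hw'.eq, inv_mul_cancel_left]) with e | e
          · have e' : (h : G)⁻¹ * w * h = w := e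
            have := congrArg (fun z => (h : G) • z • a) e'
            simp only [hwa, mul_smul, smul_inv_smul] at this
            exact this
          · have e' : (h : G)⁻¹ * w * h = w * u := e
            have := congrArg (fun z => (h : G) • z • a) e'
            simp only [mul_smul, (hS.four_le hab hu).1, hwa, smul_inv_smul] at this
            exact this
        exact (eq_of_ncard_one hwone ⟨(hS.mem_fixS_self hab).1, hwa⟩
          ⟨hpresX h hv' a (hS.mem_fixS_self hab).1, hfix⟩).symm
      rw [← SetLike.coe_sort_coe, Nat.card_coe_set_eq]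
      refine (Set.ncard_le_ncard hsub).trans ?_
      refine (Set.ncard_insert_le _ _).trans (Nat.succ_le_succ ?_)
      refine (Set.ncard_insert_le _ _).trans (Nat.succ_le_succ ?_)
      exact (Set.ncard_insert_le _ _).trans (by rw [Set.ncard_singleton])
    intro T'
    have hc : Nat.card (T' : Subgroup B) = 4 := by
      rw [← hT4]; exact Nat.card_congr (T'.equiv T).toEquiv
    refine ⟨hc, ?_⟩
    have hdvd : Monoid.exponent (T' : Subgroup B) ∣ 2 :=
      Monoid.exponent_dvd_of_forall_pow_eq_one fun x => by rw [pow_two]; exact Subtype.ext (hexp T' _ x.2)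
    rcases (Nat.dvd_prime Nat.prime_two).1 hdvd with h | h
    · haveI := Monoid.exp_eq_one_iff.1 h
      rw [Nat.card_of_subsingleton (1 : (T' : Subgroup B))] at hc
      omega
    · exact h
  -- the odd core
  have hFcard : Nat.card F = f := Nat.card_coe_set_eq F
  haveI : Nontrivial F := Finite.one_lt_card_iff_nontrivial.1 (by rw [hFcard]; omega)
  have h2B : IsMultiplyPretransitive B F 2 := by
    rw [is_two_pretransitive_iff]
    intro c d c' d' hcd hcd'
    obtain ⟨h, hh, hc, hd⟩ := hS.exists_centralizer_map hu1 hab hu (fun e => hcd (Subtype.ext e)) c.2 d.2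
    obtain ⟨h', hh', hc', hd'⟩ := hS.exists_centralizer_map hu1 hab hu (fun e => hcd' (Subtype.ext e)) c'.2 d'.2
    refine ⟨π ⟨h' * h⁻¹, mul_mem hh' (inv_mem hh)⟩, Subtype.ext ?_, Subtype.ext ?_⟩
    · rw [hπval, ← hc, mul_smul, inv_smul_smul, hc']
    · rw [hπval, ← hd, mul_smul, inv_smul_smul, hd']
  have hfprod : f = g * (2 * k + 5) := by
    rw [hf, hk, show k + 3 - 1 = k + 2 by omega]; ring
  have hO : Cfsg.oddCore B = ⊥ := by
    refine oddCore_eq_bot_of_degree h2B fun hpp => ?_
    rw [hFcard, hfprod] at hpp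
    obtain ⟨p, j, hp, -, hpj⟩ := hpp
    have hp' : p.Prime := Nat.prime_iff.2 hp
    obtain ⟨i, -, hi⟩ := (Nat.dvd_prime_pow hp').1 (hpj.symm ▸ dvd_mul_right g (2 * k + 5))
    obtain ⟨i', -, hi'⟩ := (Nat.dvd_prime_pow hp').1 (hpj.symm ▸ dvd_mul_left (2 * k + 5) g)
    have hi0 : i ≠ 0 := fun e => by rw [e, pow_zero] at hi; omega
    have hi'0 : i' ≠ 0 := fun e => by rw [e, pow_zero] at hi'; omega
    have h1 : p ∣ 2 * g := Dvd.dvd.mul_left (hi ▸ dvd_pow_self p hi0) 2
    have h2 : p ∣ 2 * k + 5 := hi' ▸ dvd_pow_self p hi'0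
    have h3 : p ∣ 1 := by
      have := Nat.dvd_sub h1 h2
      rwa [show 2 * g - (2 * k + 5) = 1 by omega] at this
    exact hp'.not_dvd_one h3
  obtain ⟨α, m, hαodd, hm, hcount, -, hshape⟩ :=
    exists_fourData hSyl hO fun x y hx hy => (hconj x hx).symm.trans (hconj y hy)
  -- the orders
  have hcardM : Nat.card M = f * ((f - 1) * 4) := hS.card_centralizer (hS.four_inU hab hu hu1)
  have hcardB : Nat.card M = Nat.card B * 2 := by
    have h := card_eq_card_map_mul π ⊤
    rwa [inf_top_eq, hkercard, Subgroup.map_top_of_surjective π hπs, Subgroup.card_top, Subgroup.card_top] at h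
  set N := (M ⊓ normalizer (V : Set G)).subgroupOf M with hNdef
  have hN : N.map π = centralizer ({π vM} : Set B) := by
    ext x
    obtain ⟨h, rfl⟩ := hπs x
    rw [mem_centralizer_singleton_iff]
    constructor
    · rintro ⟨h', hh', e⟩
      rw [← e]
      have hN' : (h' : G) * v * (h' : G)⁻¹ ∈ V := (mem_normalizer_iff.1 hh'.2 v).1 hv
      have hu' : (h' : G) * u * (h' : G)⁻¹ = u := by rw [(hMu h'.2).eq, mul_inv_cancel_right]
      rw [← mul_inv_eq_iff_eq_mul, ← map_inv, ← map_mul, ← map_mul]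
      rcases hS.four_cases hab hu hu1 hv hv1 hvu hN' with e' | e' | e' | e'
      · exact absurd (conj_eq_one_iff.1 e') hv1
      · exact absurd (mul_left_cancel (mul_right_cancel (e'.trans hu'.symm))) hvu
      · exact congrArg π (Subtype.ext e')
      · refine hπmul _ _ ?_
        show (h' : G) * v * (h' : G)⁻¹ = v * u
        rw [e', (hS.four_comm hab hu hv).eq]
    · intro hc
      refine ⟨h, ⟨h.2, mem_normalizer_iff.2 fun q => ⟨hpres h hc q, fun hq => ?_⟩⟩, rfl⟩
      have := hpres h⁻¹ (by rw [map_inv]; exact Commute.inv_left hc) _ hq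
      simpa [mul_assoc] using this
  have hNker : π.ker ⊓ N = π.ker := inf_eq_left.2 fun h hh => by
    refine ⟨h.2, ?_⟩
    have hhV : (h : G) ∈ V :=
      ((hker h).1 hh).elim (fun e => by rw [e]; exact one_mem V) (fun e => by rw [e]; exact hu)
    exact Subgroup.le_normalizer hhV
  have hcardN : Nat.card N = g * ((g - 1) * 4) := by
    rw [Nat.card_congr (Subgroup.subgroupOfEquivOfLe inf_le_left).toEquiv]
    have hmap : ∀ {c : Ω}, c ∈ fixS Ω V → ∀ {d : Ω}, d ∈ fixS Ω V → c ≠ d →
        ∃ h ∈ M ⊓ normalizer (V : Set G), h • a = c ∧ h • b = d := by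
      intro c hc d hd hcd
      obtain ⟨h, hh, hhV, hha, hhb⟩ := hS.exists_normalizing_map hu1 hab hu hc hd hcd
      exact ⟨h, ⟨hh, PGroup.mem_normalizer_of_map_conj_eq (Subgroup.eq_of_le_of_card_ge
        (by rintro _ ⟨x, hx, rfl⟩; exact hhV x hx)
        (Subgroup.card_map_of_injective (MulAut.conj h).injective).ge)⟩, hha, hhb⟩
    have hpresN : ∀ m ∈ M ⊓ normalizer (V : Set G), ∀ c ∈ fixS Ω V, m • c ∈ fixS Ω V := fun m hm c hc x hx => by
      have h2 := hc _ ((mem_normalizer_iff''.1 hm.2 x).1 hx)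
      rwa [mul_smul, mul_smul, inv_smul_eq_iff] at h2
    rw [card_eq_ncard_mul _ a (fixS Ω V) (fun m hm => hpresN m hm a (hS.mem_fixS_self hab).1),
      card_eq_ncard_mul (M ⊓ normalizer (V : Set G) ⊓ stabilizer G a) b (fixS Ω V \ {a}) (fun m hm => ⟨hpresN m hm.1 b (hS.mem_fixS_self hab).2,
        fun e => hab.symm (smul_left_cancel m (e.trans (mem_stabilizer_iff.1 hm.2).symm))⟩),
      Set.ncard_sdiff_singleton_of_mem (hS.mem_fixS_self hab).1]
    · congr 2
      rw [show (M ⊓ normalizer (V : Set G)) ⊓ stabilizer G a ⊓ stabilizer G b = V from ?_]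
      · exact hS.card_four hab
      ext x
      constructor
      · rintro ⟨⟨⟨h1, -⟩, h3⟩, h4⟩
        exact hS.mem_four_of_commute hab hu hu1 ⟨h3, h4⟩ (hMu h1)
      · intro hx
        exact ⟨⟨⟨mem_centralizer_singleton_iff.2 (hS.four_comm hab hx hu).eq, Subgroup.le_normalizer hx⟩,
          (hS.four_le hab hx).1⟩, (hS.four_le hab hx).2⟩
    · intro d hd
      obtain ⟨h, hh, ha', hb'⟩ := hmap (hS.mem_fixS_self hab).1 hd.1 (Ne.symm hd.2)
      exact ⟨h, ⟨hh, ha'⟩, hb'⟩
    · intro c hc
      rcases eq_or_ne c a with rfl | hca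
      · exact ⟨1, one_mem _, one_smul G _⟩
      · obtain ⟨h, hh, ha', -⟩ := hmap hc (hS.mem_fixS_self hab).1 hca
        exact ⟨h, hh, ha'⟩
  have hcardC := card_eq_card_map_mul π N
  rw [hN, hNker, hkercard, hcardN] at hcardC
  have hcnt := hcount (π vM) hvo
  -- an inverted element acting freely on `Fix(V)`
  obtain ⟨x, hx, hxv, hxw⟩ := (hshape (π vM) hvo).2 (π wM) hpair
  set X' : Set F := {c : F | (c : Ω) ∈ fixS Ω V}
  have hX' : X'.ncard = g := by
    rw [hg, ← Set.ncard_image_of_injective X' Subtype.val_injective]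
    congr 1
    ext c
    exact ⟨fun ⟨d, hd, e⟩ => e ▸ hd, fun hc => ⟨⟨c, hS.fixS_subset hu hc⟩, hc, rfl⟩⟩
  have hdvd : α ∣ g := by
    rw [← hx, ← hX']
    refine orderOf_dvd_ncard ⟨⟨a, (hS.four_le hab hu).1⟩, (hS.mem_fixS_self hab).1⟩ (fun c hc => ?_)
      fun i c hc hfix => ?_
    · obtain ⟨h, rfl⟩ := hπs x
      show ((π h • c : F) : Ω) ∈ fixS Ω V
      rw [hπval]
      exact hpresX h hxv c hc
    set z := x ^ i with hz
    have hzv : Commute z (π vM) := hxv.pow_left i
    have hzw : π wM * z * (π wM)⁻¹ = z⁻¹ := by rw [hz, ← conj_pow, hxw, inv_pow]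
    have hodd1 : z ^ α = 1 := by rw [hz, ← pow_mul, mul_comm, pow_mul, ← hx, pow_orderOf_eq_one, one_pow]
    obtain ⟨h, hh⟩ := hπs z
    suffices hz4 : z ^ 4 = 1 by
      have hd := Nat.dvd_gcd (orderOf_dvd_of_pow_eq_one hodd1) (orderOf_dvd_of_pow_eq_one hz4)
      rw [show Nat.gcd α 4 = 1 from Nat.Coprime.pow_right 2 (Nat.coprime_two_right.2 hαodd)] at hd
      exact orderOf_eq_one_iff.1 (Nat.dvd_one.1 hd)
    have hv4 : π vM * π vM = 1 := mul_self_of_orderOf hvo
    have hhc : (h : G) • (c : Ω) = c := by rw [← hπval, hh, hfix]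
    have hfix2 : z • π wM • c = π wM • c := by
      have e : z⁻¹ • π wM • c = π wM • c := by
        rw [← hzw, mul_smul, mul_smul, inv_smul_smul, hfix]
      conv_lhs => rw [← e, smul_inv_smul]
    have hhwc : (h : G) • w • (c : Ω) = w • (c : Ω) := by
      have := congrArg Subtype.val hfix2
      rwa [← hh, hπval, hπval] at this
    rcases eq_or_ne (w • (c : Ω)) c with hwc | hwc
    · have hca : (c : Ω) = a := eq_of_ncard_one hwone ⟨hc, hwc⟩ ⟨(hS.mem_fixS_self hab).1, hwa⟩
      set h' : M := h * wM * h⁻¹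
      have h1 : (h' : G) * h' = 1 := by
        show (h : G) * w * (h : G)⁻¹ * ((h : G) * w * (h : G)⁻¹) = 1
        rw [show (h : G) * w * (h : G)⁻¹ * ((h : G) * w * (h : G)⁻¹) = (h : G) * (w * w) * (h : G)⁻¹ by group, hw2]
        group
      have h2 : Commute (π h') (π vM) := by
        rw [map_mul, map_mul, map_inv, hh]
        exact (hzv.mul_left hvw.symm).mul_left hzv.inv_left
      have hha : (h : G)⁻¹ • a = a := inv_smul_eq_iff.2 (hca ▸ hhc).symm
      have h3 : (h' : G) • a = a := by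
        show ((h : G) * w * (h : G)⁻¹) • a = a
        rw [mul_smul, mul_smul, hha, hwa]
        exact hca ▸ hhc
      have h4' := hsmall h' h1 h2 h3
      have e1 : π h' = z * z * π wM := by
        have : π wM * z⁻¹ = z * π wM := by
          calc π wM * z⁻¹ = (π wM * z * (π wM)⁻¹)⁻¹ * π wM := by group
            _ = z * π wM := by rw [hzw, inv_inv]
        rw [map_mul, map_mul, map_inv, hh, mul_assoc z z, mul_assoc z, this]
      simp only [Set.mem_insert_iff, Set.mem_singleton_iff, e1] at h4'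
      have hz2 : z ^ 4 = (z * z) * (z * z) := by rw [show 4 = 2 + 2 from rfl, pow_add, pow_two]
      rw [hz2]
      have hw4 : π wM * π wM = 1 := mul_self_of_orderOf hwo
      rcases h4' with e | e | e | e
      · rw [eq_inv_of_mul_eq_one_left e, inv_eq_of_mul_eq_one_right hw4, hw4]
      · rw [show z * z = π vM * π wM by rw [← e, mul_assoc, hw4, mul_one], hvw.symm.mul_mul_mul_comm,
          hv4, hw4, one_mul]
      · rw [show z * z = 1 from mul_eq_right.1 e, one_mul]
      · rw [show z * z = π vM from mul_right_cancel (e.trans hvw.eq.symm), hv4]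
    · have hcX : w • (c : Ω) ∈ fixS Ω V := fun q hq => by
        rw [← mul_smul, ← (hwV q hq).eq, mul_smul, hc q hq]
      have heq' := hS.four_eq_of_fix hab hwc.symm hc hcX
      have hhV := hS.mem_four_of_commute hwc.symm (heq'.symm.le hu) hu1
        (mem_pair.2 ⟨hhc, hhwc⟩) (hMu h.2)
      rw [heq'] at hhV
      have h2 : (h : G) * h = 1 := hS.four_sq hab hhV
      have hz2 : z * z = 1 := by
        rw [← hh, ← map_mul, show h * h = 1 from Subtype.ext h2, map_one]
      rw [show 4 = 2 + 2 from rfl, pow_add, pow_two, hz2, one_mul]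
  -- arithmetic
  obtain ⟨j, hj⟩ := hdvd
  have hf1 : f - 1 = (k + 2) * (2 * k + 7) := by
    have : f = (k + 2) * (2 * k + 7) + 1 := by rw [hfprod, hk]; ring
    omega
  rw [hcardM, hf1, hfprod, hk] at hcardB
  rw [hk, show k + 3 - 1 = k + 2 by omega] at hcardC
  have hm2 : m = (2 * k + 5) * (2 * k + 7) := by
    refine Nat.eq_of_mul_eq_mul_right (show 0 < (k + 3) * ((k + 2) * 4) by positivity) ?_
    rw [show (2 * k + 5) * (2 * k + 7) * ((k + 3) * ((k + 2) * 4)) = Nat.card B * 2 by rw [← hcardB]; ring,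
      hcardC, ← hcnt, mul_assoc]
  have hm3 : m + 1 = 4 * (g * g) := by rw [hm2, hk]; ring
  have hj0 : 0 < j := Nat.pos_of_ne_zero fun e => by rw [e, mul_zero] at hj; omega
  rcases hm with ⟨rfl, rfl⟩ | ⟨hα2, hm⟩ | hm
  · nlinarith
  · -- `α ∣ 2`
    have h2 : α * (4 * (α * (j * j))) + 6 * α = α * (8 * α) + 2 := by rw [hj] at hm3; linear_combination hm - hm3
    have : α ∣ 2 := by
      have h3 : α ∣ α * (4 * (α * (j * j))) + 6 * α := dvd_add (dvd_mul_right _ _) (dvd_mul_left _ _)
      rw [h2] at h3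
      exact (Nat.dvd_add_right (dvd_mul_right _ _)).1 h3
    have := Nat.le_of_dvd two_pos this
    obtain rfl : α = 2 := by omega
    exact absurd hαodd (by decide)
  · have h2 : α * (4 * (α * (j * j))) = α * (8 * α + 6) + 2 := by rw [hj] at hm3; linear_combination hm - hm3
    have : α ∣ 2 := by
      have h3 : α ∣ α * (4 * (α * (j * j))) := dvd_mul_right _ _
      rw [h2] at h3
      exact (Nat.dvd_add_right (dvd_mul_right _ _)).1 h3
    rcases (Nat.dvd_prime Nat.prime_two).1 this with rfl | rfl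
    · have : g * g = 4 := by rw [hm] at hm3; omega
      nlinarith
    · exact absurd hαodd (by decide)

end Setup

end Cfsg.Agent.TwoTransA4
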