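import Cfsg.Agent.Lib.Perm.RegularNormal
import Cfsg.Agent.Lib.PCore.Basic
import Cfsg.Agent.Lib.Solvable.Basic
import Cfsg.Agent.S0205

/-!
# The odd core of a doubly transitive group
-/

set_option autoImplicit false
set_option linter.style.haveILetI false

namespace Cfsg.Agent.TwoTransA4

open Subgroup MulAction
open scoped commutatorElement

/-- A doubly transitive group whose degree is not a prime power has trivial odd core. -/
theorem oddCore_eq_bot_of_degree {H α : Type*} [Group H] [Finite H] [MulAction H α] [FaithfulSMul H α]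
    [Finite α] [Nontrivial α] (h2 : IsMultiplyPretransitive H α 2) (hn : ¬ IsPrimePow (Nat.card α)) :
    Cfsg.oddCore H = ⊥ := by
  by_contra hne
  haveI : IsPreprimitive H α := isPreprimitive_of_is_two_pretransitive h2
  obtain ⟨N, hN, hNO, hNb, hmin⟩ := Solvable.exists_minimal_normal hne
  haveI := hN
  have hodd : Odd (Nat.card N) := Odd.of_dvd_nat PCore.odd_card_oddCore (Subgroup.card_dvd_of_le hNO)
  haveI : Group.IsSolvable N := Cfsg.Agent.S0205.result hodd
  haveI : Nontrivial N := (Subgroup.nontrivial_iff_ne_bot N).2 hNb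
  have hder : (commutator N).map N.subtype = ⊥ := by
    rcases hmin ((commutator N).map N.subtype) inferInstance (map_subtype_le _) with h | h
    · exact h
    · exfalso
      refine (Group.IsSolvable.commutator_lt_top_of_nontrivial N).ne ?_
      refine Subgroup.map_injective N.subtype_injective ?_
      rw [h, ← MonoidHom.range_eq_map, Subgroup.range_subtype]
  haveI : IsMulCommutative N := ⟨⟨fun x y => by
    have hxy : ⁅x, y⁆ ∈ (commutator N) := Subgroup.commutator_mem_commutator (mem_top x) (mem_top y)
    have : ((⁅x, y⁆ : N) : H) = 1 := by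
      have h := Subgroup.mem_map_of_mem N.subtype hxy
      rw [hder] at h
      exact h
    exact commutatorElement_eq_one_iff_mul_comm.1 (Subtype.ext this)⟩⟩
  haveI : IsPretransitive N α := Perm.isPretransitive_of_normal hNb
  obtain ⟨p, m, hp, hm, hcard, -⟩ :=
    Perm.regular_normal_elementary_abelian h2 (Perm.semiregular_of_abelian (N := N) inferInstance)
  exact hn (hcard ▸ hp.isPrimePow.pow (by omega))

/-- An element with free powers on an invariant set has order dividing its size. -/
theorem orderOf_dvd_ncard {H Ω : Type*} [Group H] [MulAction H Ω] [Finite Ω] {x : H} {X : Set Ω}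
    (hne : X.Nonempty) (hX : ∀ c ∈ X, x • c ∈ X)
    (hfree : ∀ i : ℕ, ∀ c ∈ X, x ^ i • c = c → x ^ i = 1) :
    orderOf x ∣ X.ncard := by
  haveI : Finite X := X.toFinite
  let f : X → X := fun c => ⟨x • c.1, hX c c.2⟩
  have hf : Function.Bijective f := Finite.injective_iff_bijective.1 fun c d e =>
    Subtype.ext (smul_left_cancel x (congrArg Subtype.val e))
  let σ : Equiv.Perm X := Equiv.ofBijective f hf
  have hpow : ∀ (i : ℕ) (c : X), ((σ ^ i) c : Ω) = x ^ i • c.1 := by
    intro i
    induction i with
    | zero => intro c; simp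
    | succ i ih =>
      intro c
      rw [pow_succ', pow_succ', Equiv.Perm.mul_apply, mul_smul, ← ih]
      rfl
  have hσ : orderOf σ = orderOf x := by
    refine Nat.dvd_antisymm (orderOf_dvd_of_pow_eq_one (Equiv.ext fun c => Subtype.ext ?_))
      (orderOf_dvd_of_pow_eq_one ?_)
    · rw [hpow, pow_orderOf_eq_one, one_smul]; rfl
    · obtain ⟨c, hc⟩ := hne
      refine hfree _ c hc ?_
      have := hpow (orderOf σ) ⟨c, hc⟩
      rw [pow_orderOf_eq_one] at this
      exact this.symm
  rw [← hσ, ← Nat.card_zpowers, ← Nat.card_coe_set_eq]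
  refine Perm.card_dvd_of_semiregular fun c => Perm.stabilizer_subgroup_eq_bot_iff.2 fun τ hτ hc => ?_
  obtain ⟨i, rfl⟩ := Submonoid.mem_powers_iff _ _ |>.1 (mem_powers_iff_mem_zpowers.2 hτ)
  have h1 : x ^ i • c.1 = c.1 := by rw [← hpow]; exact congrArg Subtype.val hc
  exact orderOf_dvd_iff_pow_eq_one.1 (hσ ▸ orderOf_dvd_iff_pow_eq_one.2 (hfree i c c.2 h1))

end Cfsg.Agent.TwoTransA4
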