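import Cfsg.Agent.Lib.TwoTransA4.Swap
import Cfsg.Agent.Lib.DihedralCent.Klein

/-!
# Odd degree, swappers centralising the four-group, one or three involutions without two fixed points
-/

set_option autoImplicit false
set_option maxHeartbeats 400000
set_option linter.style.haveILetI false
set_option linter.unusedSectionVars false

namespace Cfsg.Agent.TwoTransA4

open Subgroup MulAction

variable {G : Type*} [Group G] {Ω : Type*} [MulAction G Ω] [Finite G] [Finite Ω] [FaithfulSMul G Ω]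

set_option maxRecDepth 20000 in
/-- A commutator of permutations of three points squaring to one is trivial. -/
theorem perm_three_commutator : ∀ p q : Equiv.Perm (Fin 3),
    p * q * p⁻¹ * q⁻¹ * (p * q * p⁻¹ * q⁻¹) = 1 → p * q * p⁻¹ * q⁻¹ = 1 := by
  decide

set_option maxRecDepth 20000 in
set_option synthInstance.maxHeartbeats 200000 in
theorem alt_commutator : ∀ v : alternatingGroup (Fin 4), v * v = 1 →
    ∃ x y : alternatingGroup (Fin 4), x * y * x⁻¹ * y⁻¹ = v := by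
  decide

namespace Setup

variable (hS : Setup G Ω)
include hS

/-- The involutions with one fixed point fix each point equally often. -/
theorem ncard_nonU_fix (hC : ¬ SCase G Ω) (hn : Nat.card Ω % 2 = 1) {a b : Ω} (hab : a ≠ b) (c : Ω) :
    {t : G | t * t = 1 ∧ t ≠ 1 ∧ ¬ InU Ω t ∧ t • c = c}.ncard =
      4 - {t : G | InU Ω t ∧ t • a = b}.ncard := by
  haveI := hS.pretransitive
  set I := {t : G | t * t = 1 ∧ t ≠ 1 ∧ ¬ InU Ω t}
  have hconj : ∀ g : G, ∀ t ∈ I, g * t * g⁻¹ ∈ I := by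
    rintro g t ⟨h2, h1, hU⟩
    refine ⟨?_, fun e => h1 (conj_eq_one_iff.1 e), fun h => hU ((inU_conj_iff g).2 h)⟩
    rw [show g * t * g⁻¹ * (g * t * g⁻¹) = g * (t * t) * g⁻¹ by group, h2]; group
  have h := (ncard_fix_eq_of_one (I := I) (M := ⊤) (X := (Set.univ : Set Ω))
    (s := 4 - {t : G | InU Ω t ∧ t • a = b}.ncard) (fun g _ => hconj g)
    (fun x _ y _ => (exists_smul_eq G x y).imp fun g hg => ⟨mem_top g, hg⟩)
    (fun _ _ _ _ => Set.mem_univ _) (fun x _ y _ hxy => ?_) (fun t ht => ?_) (a := c) (Set.mem_univ c)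
    (by rw [Set.ncard_univ]; exact hS.two_le_card hab)).1
  · rw [← h]; congr 1; ext t; simp only [I, Set.mem_ofPred]; tauto
  · rw [hS.ncard_uSw_eq hab hxy, ← hS.ncard_nonU hC hxy]
    congr 1; ext t; simp only [I, Set.mem_ofPred]; tauto
  · have := ncard_fix_of_not_inU (Ω := Ω) ht.1 ht.2.1 ht.2.2
    rw [hn] at this
    simpa [fixE] using this

/-- `λ = 3`: an involution with one fixed point is isolated. -/
theorem exists_J (hC : ¬ SCase G Ω) (hn : Nat.card Ω % 2 = 1) {a b : Ω} (hab : a ≠ b)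
    (hl : {t : G | InU Ω t ∧ t • a = b}.ncard = 3) :
    ∃ J : G, orderOf J = 2 ∧ Subgroup.centralizer ({J} : Set G) ⊔ Cfsg.oddCore G = ⊤ := by
  have key : ∀ c : Ω, {t : G | t * t = 1 ∧ t ≠ 1 ∧ ¬ InU Ω t ∧ t • c = c}.ncard = 1 := fun c => by
    rw [hS.ncard_nonU_fix hC hn hab c, hl]
  obtain ⟨J, hJ2, hJ1, hJU, hJa⟩ := Set.nonempty_of_ncard_ne_zero (by rw [key a]; omega :
    {t : G | t * t = 1 ∧ t ≠ 1 ∧ ¬ InU Ω t ∧ t • a = a}.ncard ≠ 0)
  refine ⟨J, orderOf_two hJ2 hJ1, DihedralCentTools.sup_oddCore_of_isolated ⟨orderOf_two hJ2 hJ1,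
    fun g hg => ?_⟩⟩
  set K := g * J * g⁻¹ with hK
  have hK2 : K * K = 1 := by rw [hK, show g * J * g⁻¹ * (g * J * g⁻¹) = g * (J * J) * g⁻¹ by group, hJ2]; group
  have hK1 : K ≠ 1 := fun e => hJ1 (conj_eq_one_iff.1 e)
  have hKU : ¬ InU Ω K := fun h => hJU ((inU_conj_iff g).2 h)
  have hKa : K • a = a := by
    by_contra hne
    refine hJU ⟨hJ1, hJ2, K • a, a, hne, ?_, hJa⟩
    rw [← mul_smul, hg.eq, mul_smul, hJa]
  obtain ⟨J', hJ'⟩ := Set.ncard_eq_one.1 (key a)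
  rw [Set.eq_singleton_iff_unique_mem] at hJ'
  rw [hJ'.2 J ⟨hJ2, hJ1, hJU, hJa⟩, hJ'.2 K ⟨hK2, hK1, hKU, hKa⟩]

/-- `λ = 1` is impossible in odd degree. -/
theorem false_lam_one (hC : ¬ SCase G Ω) (hn : Nat.card Ω % 2 = 1) {a b : Ω} (hab : a ≠ b)
    (hl : {t : G | InU Ω t ∧ t • a = b}.ncard = 1) : False := by
  set T := {t : G | t * t = 1 ∧ t ≠ 1 ∧ ¬ InU Ω t ∧ t • a = a} with hT
  have hT3 : T.ncard = 3 := by rw [hT, hS.ncard_nonU_fix hC hn hab a, hl]
  obtain ⟨J, hJ⟩ := Set.nonempty_of_ncard_ne_zero (by omega : T.ncard ≠ 0)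
  obtain ⟨hJ2, hJ1, hJU, hJa⟩ := hJ
  -- the four-groups at `a` centralise the three involutions
  have hcent : ∀ c, a ≠ c → ∀ v ∈ four G a c, Commute J v := by
    intro c hac v hv
    have hTconj : ∀ z ∈ pair G a c, ∀ t ∈ T, z * t * z⁻¹ ∈ T := by
      rintro z hz t ⟨h2, h1, hU, hta⟩
      refine ⟨?_, fun e => h1 (conj_eq_one_iff.1 e), fun h => hU ((inU_conj_iff z).2 h), ?_⟩
      · rw [show z * t * z⁻¹ * (z * t * z⁻¹) = z * (t * t) * z⁻¹ by group, h2]; group
      · rw [mul_smul, mul_smul, show z⁻¹ • a = a from (mem_pair.1 (inv_mem hz)).1, hta, (mem_pair.1 hz).1]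
    letI : MulAction (pair G a c) T :=
      { smul := fun z t => ⟨(z : G) * t * (z : G)⁻¹, hTconj z z.2 t t.2⟩
        one_smul := fun t => Subtype.ext (by show (1 : G) * t * (1 : G)⁻¹ = t; group)
        mul_smul := fun z z' t => Subtype.ext (by
          show ((z : G) * z') * t * ((z : G) * z')⁻¹ = (z : G) * ((z' : G) * t * (z' : G)⁻¹) * (z : G)⁻¹
          group) }
    obtain ⟨e⟩ : Nonempty (T ≃ Fin 3) :=
      ⟨Finite.equivFinOfCardEq (by rw [Nat.card_coe_set_eq, hT3])⟩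
    set ρ : pair G a c →* Equiv.Perm (Fin 3) :=
      e.permCongrHom.toMonoidHom.comp (MulAction.toPermHom _ T)
    obtain ⟨ψ⟩ := hS.alt a c hac
    obtain ⟨hvP, hv2⟩ := (hS.four_eq hac).1 hv
    obtain ⟨x, y, hxy⟩ := alt_commutator (ψ ⟨v, hvP⟩)
      (by rw [← map_mul, ← map_one ψ]; exact congrArg ψ (Subtype.ext hv2))
    have hvc : ψ.symm x * ψ.symm y * (ψ.symm x)⁻¹ * (ψ.symm y)⁻¹ = ⟨v, hvP⟩ := by
      rw [← map_inv, ← map_inv, ← map_mul, ← map_mul, ← map_mul, hxy, MulEquiv.symm_apply_apply]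
    have hρ : ρ ⟨v, hvP⟩ = 1 := by
      have e1 : ρ ⟨v, hvP⟩ =
          ρ (ψ.symm x) * ρ (ψ.symm y) * (ρ (ψ.symm x))⁻¹ * (ρ (ψ.symm y))⁻¹ := by
        rw [← hvc]; simp only [map_mul, map_inv]
      have e2 : ρ ⟨v, hvP⟩ * ρ ⟨v, hvP⟩ = 1 := by
        rw [← map_mul, show (⟨v, hvP⟩ : pair G a c) * ⟨v, hvP⟩ = 1 from Subtype.ext hv2, map_one]
      rw [e1] at e2 ⊢
      exact perm_three_commutator _ _ e2
    have h1 : MulAction.toPermHom (pair G a c) T ⟨v, hvP⟩ = 1 :=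
      e.permCongrHom.injective (by rw [map_one]; exact hρ)
    have h2 : v * J * v⁻¹ = J :=
      congrArg Subtype.val (Equiv.ext_iff.1 h1 ⟨J, hJ2, hJ1, hJU, hJa⟩)
    exact (mul_inv_eq_iff_eq_mul.1 h2).symm
  -- all these four-groups are equal
  have key : ∀ c, a ≠ c → four G a c = Subgroup.closure ((fun t => J * t) '' T) := by
    intro c hac
    set d := J • c with hd
    have hdc : c ≠ d := fun e => hJU ⟨hJ1, hJ2, c, a, hac.symm, e.symm, hJa⟩
    have hJd : J ∈ Sw G c d := ⟨hJ2, rfl⟩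
    have hdfix : d ∈ fixS Ω (four G a c) := fun x hx => by
      rw [hd, ← mul_smul, ← (hcent c hac x hx).eq, mul_smul, (hS.four_le hac hx).2]
    have heq : four G c d = four G a c := hS.four_eq_of_fix hac hdc (hS.mem_fixS_self hac).2 hdfix
    have hJc : ∀ x ∈ four G c d, Commute J x := fun x hx => hS.central hC hdc hJd hx
    have hsw := hS.Sw_eq_image hdc hJd hJc
    have hnon : {t : G | t * t = 1 ∧ t ≠ 1 ∧ ¬ InU Ω t ∧ t • c = d} = T := by
      refine Set.eq_of_subset_of_ncard_le ?_ ?_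
      · rintro t ⟨h2, h1, hU, htc⟩
        obtain ⟨x, hx, rfl⟩ := hsw.subset ⟨h2, htc⟩
        refine ⟨h2, h1, hU, ?_⟩
        simp only
        rw [heq] at hx
        rw [mul_smul, (hS.four_le hac hx).1, hJa]
      · rw [hS.ncard_nonU hC hdc, hS.ncard_uSw_eq hdc hab, hl, hT3]
    set W := Subgroup.closure ((fun t => J * t) '' T)
    have hle : W ≤ four G a c := by
      rw [Subgroup.closure_le]
      rintro _ ⟨t, ht, rfl⟩
      rw [← hnon] at ht
      obtain ⟨x, hx, rfl⟩ := hsw.subset ⟨ht.1, ht.2.2.2⟩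
      rw [← heq]
      simp only [SetLike.mem_coe]
      rwa [← mul_assoc, hJ2, one_mul]
    refine (Subgroup.eq_of_le_of_card_ge hle ?_).symm
    rw [hS.card_four hac]
    have h3 : 3 ≤ Nat.card W := by
      rw [← hT3, ← Set.ncard_image_of_injective T (mul_right_injective J), ← SetLike.coe_sort_coe,
        Nat.card_coe_set_eq]
      exact Set.ncard_le_ncard Subgroup.subset_closure
    have h4 : Nat.card W ∣ 4 := hS.card_four hac ▸ Subgroup.card_dvd_of_le hle
    have h5 := Nat.le_of_dvd (by norm_num) h4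
    obtain ⟨k, hk⟩ := h4
    show 4 ≤ Nat.card W
    rcases k with _ | _ | k
    · omega
    · omega
    · nlinarith
  obtain ⟨v, hv, hv1, -⟩ := hS.exists_mem_four hab 1
  refine hv1 (Perm.eq_one_of_forall_smul_eq (α := Ω) fun c => ?_)
  rcases eq_or_ne a c with rfl | hac
  · exact (hS.four_le hab hv).1
  · rw [key b hab, ← key c hac] at hv
    exact (hS.four_le hac hv).2

end Setup

end Cfsg.Agent.TwoTransA4
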