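import Cfsg.Agent.Lib.TwoTransA4.Swap
import Cfsg.Agent.Lib.TwoTransA4.Normal

/-!
# Odd degree, all involutions conjugate and centralising four-groups: impossible
-/

set_option autoImplicit false
set_option maxHeartbeats 400000
set_option linter.style.haveILetI false
set_option linter.unusedSectionVars false

namespace Cfsg.Agent.TwoTransA4

open Subgroup MulAction

variable {G : Type*} [Group G] {Ω : Type*} [MulAction G Ω] [Finite G] [Finite Ω] [FaithfulSMul G Ω]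

/-- Involutions of `C(u)` fixing one point of `Fix(u)`. -/
def OneF (Ω : Type*) [MulAction G Ω] (u : G) : Set G :=
  {x | x * x = 1 ∧ Commute x u ∧ {c ∈ fixE Ω u | x • c = c}.ncard = 1}

/-- Involutions centralising `V` and fixing one point of `Fix(V)`. -/
def OneV (Ω : Type*) [MulAction G Ω] (V : Subgroup G) : Set G :=
  {x | x * x = 1 ∧ (∀ y ∈ V, Commute x y) ∧ {c ∈ fixS Ω V | x • c = c}.ncard = 1}

theorem eq_of_ncard_one {X : Set Ω} (h : X.ncard = 1) {c d : Ω} (hc : c ∈ X) (hd : d ∈ X) : c = d := by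
  obtain ⟨e, rfl⟩ := Set.ncard_eq_one.1 h
  rw [Set.mem_singleton_iff.1 hc, Set.mem_singleton_iff.1 hd]

theorem OneF_conj {u h x : G} (hh : h ∈ centralizer ({u} : Set G)) (hx : x ∈ OneF Ω u) :
    h * x * h⁻¹ ∈ OneF Ω u := by
  obtain ⟨h2, hc, hone⟩ := hx
  have hhu : Commute h u := mem_centralizer_singleton_iff.1 hh
  refine ⟨?_, (hhu.mul_left hc).mul_left hhu.inv_left, ?_⟩
  · rw [show h * x * h⁻¹ * (h * x * h⁻¹) = h * (x * x) * h⁻¹ by group, h2]; group
  · rw [← hone, ← Set.ncard_image_of_injective {c ∈ fixE Ω u | x • c = c} (MulAction.injective h)]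
    congr 1
    ext c
    constructor
    · rintro ⟨hc, hxc⟩
      refine ⟨h⁻¹ • c, ⟨smul_mem_fixE hhu.inv_left hc, ?_⟩, smul_inv_smul h c⟩
      rw [mul_smul, mul_smul] at hxc
      exact eq_inv_smul_iff.2 hxc
    · rintro ⟨d, ⟨hd, hxd⟩, rfl⟩
      exact ⟨smul_mem_fixE hhu hd, by rw [mul_smul, mul_smul, inv_smul_smul, hxd]⟩

namespace Setup

variable (hS : Setup G Ω)
include hS

/-- With `λ = 4` every involution has two fixed points. -/
theorem all_inU (hC : ¬ SCase G Ω) {a b : Ω} (hab : a ≠ b)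
    (hl : {t : G | InU Ω t ∧ t • a = b}.ncard = 4) {x : G} (hx : x * x = 1) (hx1 : x ≠ 1) : InU Ω x := by
  obtain ⟨c, hc⟩ : ∃ c : Ω, x • c ≠ c := by
    by_contra h
    push Not at h
    exact hx1 (Perm.eq_one_of_forall_smul_eq h)
  have h := Set.eq_of_subset_of_ncard_le (uSw_subset (G := G) (c := c) (d := x • c))
    (by rw [hS.card_Sw hC hc.symm, hS.ncard_uSw_eq hc.symm hab, hl])
  exact (h.symm.subset ⟨hx, rfl⟩).1

theorem sw_oneF (hC : ¬ SCase G Ω) (hn : Nat.card Ω % 2 = 1) {u : G} {a b : Ω} (hu1 : u ≠ 1)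
    (hab : a ≠ b) (hu : u ∈ four G a b) {t : G} :
    t ∈ OneF Ω u ∧ t • a = b ↔ t ∈ Sw G a b ∧ t ∉ Y Ω u := by
  constructor
  · rintro ⟨⟨h2, hc, hone⟩, htab⟩
    exact ⟨⟨h2, htab⟩, fun ⟨_, _, _, _, c, d, hcd, hcu, hdu, hcy, hdy⟩ =>
      hcd (eq_of_ncard_one hone ⟨hcu, hcy⟩ ⟨hdu, hdy⟩)⟩
  · rintro ⟨ht, htY⟩
    have hc : Commute t u := hS.central hC hab ht hu
    refine ⟨⟨ht.1, hc, ?_⟩, ht.2⟩
    have hodd := ncard_fix_mod_two (t := t) (X := fixE Ω u) (fun c h => smul_mem_fixE hc h)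
      (fun c _ => by rw [← mul_smul, ht.1, one_smul])
    rw [(hS.parity hu1 hab hu).1, hn] at hodd
    by_contra hne
    obtain ⟨c, hc', d, hd', hcd⟩ := (Set.one_lt_ncard (Set.toFinite _)).1
      (show 1 < {c ∈ fixE Ω u | t • c = c}.ncard by omega)
    refine htY ⟨ht.1, ne_one_of_Sw hab ht, fun e => hab ?_, hc, c, d, hcd, hc'.1, hd'.1, hc'.2, hd'.2⟩
    have := ht.2
    rwa [e, (hS.four_le hab hu).1] at this

theorem ncard_P {u : G} {a b : Ω} (hu1 : u ≠ 1) (hab : a ≠ b) (hu : u ∈ four G a b) :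
    {t | t ∈ OneF Ω u ∧ t • a = a}.ncard = {t | t ∈ OneF Ω u ∧ t • a = b}.ncard ∧
      (OneF Ω u).ncard = (fixE Ω u).ncard * {t | t ∈ OneF Ω u ∧ t • a = b}.ncard := by
  refine ncard_fix_eq_of_one (M := centralizer ({u} : Set G)) (fun h hh t ht => OneF_conj hh ht)
    (fun c hc d hd => ?_) (fun t ht c hc => smul_mem_fixE ht.2.1 hc) (fun c hc d hd hcd => ?_)
    (fun t ht => ht.2.2) (hS.four_le hab hu).1 (hS.two_le_fix (hS.four_inU hab hu hu1))
  · rcases eq_or_ne c d with rfl | hcd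
    · exact ⟨1, one_mem _, one_smul G c⟩
    · obtain ⟨k, hk, hk1, -⟩ := hS.exists_centralizer_map hu1 hab hu hcd hc hd
      obtain ⟨m, hm, hm1, -⟩ := hS.exists_centralizer_map hu1 hab hu hcd.symm hd hc
      exact ⟨m * k⁻¹, mul_mem hm (inv_mem hk), by rw [← hk1, mul_smul, inv_smul_smul, hm1]⟩
  · obtain ⟨h, hh, rfl, rfl⟩ := hS.exists_centralizer_map hu1 hab hu hcd hc hd
    exact (ncard_maps_eq (fun t => ⟨fun ht => OneF_conj hh ht, fun ht => by
      have := OneF_conj (inv_mem hh) ht; simpa [mul_assoc] using this⟩) a b).symm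

/-- Four commuting involutions fix a given point of `Fix(V)`. -/
theorem ncard_OneV (hC : ¬ SCase G Ω) (hn : Nat.card Ω % 2 = 1) {a b : Ω} (hab : a ≠ b) :
    {t | t ∈ OneV Ω (four G a b) ∧ t • a = a}.ncard = 4 := by
  set V := four G a b with hV
  obtain ⟨v, hv, hv1, -⟩ := hS.exists_mem_four hab 1
  have hpres : ∀ t : G, (∀ y ∈ V, Commute t y) → ∀ c ∈ fixS Ω V, t • c ∈ fixS Ω V := fun t ht c hc y hy => by
    rw [← mul_smul, ← (ht y hy).eq, mul_smul, hc y hy]
  refine (ncard_fix_eq_of_one (M := centralizer (V : Set G)) (fun h hh t ht => ?_) (fun c hc d hd => ?_)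
    (fun t ht => hpres t ht.2.1) (fun c hc d hd hcd => ?_) (fun t ht => ht.2.2)
    (hS.mem_fixS_self hab).1 (hS.two_le_fixS hab)).1
  · obtain ⟨h2, hc, hone⟩ := ht
    have hhy : ∀ y ∈ V, Commute h y := fun y hy => (mem_centralizer_iff.1 hh y hy).symm
    refine ⟨?_, fun y hy => ((hhy y hy).mul_left (hc y hy)).mul_left (hhy y hy).inv_left, ?_⟩
    · rw [show h * t * h⁻¹ * (h * t * h⁻¹) = h * (t * t) * h⁻¹ by group, h2]; group
    · rw [← hone, ← Set.ncard_image_of_injective {c ∈ fixS Ω V | t • c = c} (MulAction.injective h)]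
      congr 1
      ext c
      constructor
      · rintro ⟨hc', hxc⟩
        refine ⟨h⁻¹ • c, ⟨hpres _ (fun y hy => (hhy y hy).inv_left) c hc', ?_⟩, smul_inv_smul h c⟩
        rw [mul_smul, mul_smul] at hxc
        exact eq_inv_smul_iff.2 hxc
      · rintro ⟨d, ⟨hd, hxd⟩, rfl⟩
        exact ⟨hpres h hhy d hd, by rw [mul_smul, mul_smul, inv_smul_smul, hxd]⟩
  · rcases eq_or_ne c d with rfl | hcd
    · exact ⟨1, one_mem _, one_smul G c⟩
    · obtain ⟨t, -, ht⟩ := hS.exists_inU_Sw hcd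
      refine ⟨t, mem_centralizer_iff.2 fun y hy => ?_, ht.2⟩
      have heq := hS.four_eq_of_fix hab hcd hc hd
      exact ((hS.central hC hcd ht (heq.symm.le hy)).eq).symm
  · have heq := hS.four_eq_of_fix hab hcd hc hd
    rw [← hS.card_Sw hC hcd]
    congr 1
    ext t
    refine ⟨fun ⟨ht, h⟩ => ⟨ht.1, h⟩, fun ht => ?_⟩
    have hc' : ∀ y ∈ V, Commute t y := fun y hy => hS.central hC hcd ht (heq ▸ hy)
    refine ⟨⟨ht.1, hc', ?_⟩, ht.2⟩
    have hodd := ncard_fix_mod_two (t := t) (X := fixS Ω V) (fun e he => hpres t hc' e he)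
      (fun e _ => by rw [← mul_smul, ht.1, one_smul])
    rw [(hS.parity hv1 hab hv).2, hn] at hodd
    by_contra hne
    obtain ⟨e, he, e', he', hee⟩ := (Set.one_lt_ncard (Set.toFinite _)).1
      (show 1 < {e ∈ fixS Ω V | t • e = e}.ncard by omega)
    have := hS.mem_four_of_fix ht.1 hee he.2 he'.2
    rw [hS.four_eq_of_fix hab hee he.1 he'.1] at this
    exact hcd (((hc t this).symm.trans ht.2))

/-- `λ = 4` in odd degree leaves only the case where `C(u)` has no involution with a single fixed point in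
`Fix(u)`. -/
theorem reduce_lam_four (hC : ¬ SCase G Ω) (hn : Nat.card Ω % 2 = 1) {u : G} {a b : Ω} (hu1 : u ≠ 1)
    (hab : a ≠ b) (hu : u ∈ four G a b) (hl : {t : G | InU Ω t ∧ t • a = b}.ncard = 4) :
    OneF Ω u = ∅ ∧ (fixE Ω u).ncard =
      (fixS Ω (four G a b)).ncard + 2 * ((fixS Ω (four G a b)).ncard * ((fixS Ω (four G a b)).ncard - 1)) := by
  classical
  set g := (fixS Ω (four G a b)).ncard with hg
  set f := (fixE Ω u).ncard with hf
  have hg2 : 2 ≤ g := hS.two_le_fixS hab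
  set μ := {t : G | t ∈ Y Ω u ∧ t • a = b}.ncard with hμ
  -- the number of one-point involutions at a point, for every involution
  have hP : ∀ {x : G} {c d : Ω}, x ≠ 1 → c ≠ d → x ∈ four G c d →
      {t | t ∈ OneF Ω x ∧ t • c = d}.ncard + μ = 4 := by
    intro x c d hx1 hcd hx
    have hsplit : {t | t ∈ OneF Ω x ∧ t • c = d}.ncard + {t : G | t ∈ Y Ω x ∧ t • c = d}.ncard = 4 := by
      rw [← hS.card_Sw hC hcd, show {t | t ∈ OneF Ω x ∧ t • c = d} =
        Sw G c d \ {t : G | t ∈ Y Ω x ∧ t • c = d} from Set.ext fun t => by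
          rw [Set.mem_ofPred, hS.sw_oneF hC hn hx1 hcd hx, Set.mem_sdiff, Set.mem_ofPred]
          exact ⟨fun h => ⟨h.1, fun h' => h.2 h'.1⟩, fun h => ⟨h.1, fun h' => h.2 ⟨h', h.1.2⟩⟩⟩]
      exact Set.ncard_sdiff_add_ncard_of_subset fun t ht => ⟨ht.1.1, ht.2⟩
    suffices h : {t : G | t ∈ Y Ω x ∧ t • c = d}.ncard = μ by rw [← h]; exact hsplit
    have hfx : (fixE Ω x).ncard = f := hS.ncard_fixE_eq (hS.four_inU hcd hx hx1) (hS.four_inU hab hu hu1)
    have hgx : (fixS Ω (four G c d)).ncard = g := hS.ncard_fixS_eq hcd hab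
    rcases eq_or_lt_of_le (hS.fixS_le_fix hu) with e | e
    · have hz : ∀ {y : G} {c' d' : Ω}, y ≠ 1 → c' ≠ d' → y ∈ four G c' d' → (fixE Ω y).ncard = f →
          {t : G | t ∈ Y Ω y ∧ t • c' = d'}.ncard = 0 := by
        intro y c' d' hy1 hcd' hy hfy
        rw [Set.ncard_eq_zero]
        ext t
        simp only [Set.mem_ofPred, Set.mem_empty_iff_false, iff_false, not_and]
        rintro ⟨h2, -, -, -, p, q, hpq, hp, hq, htp, htq⟩ htc
        have hset : fixS Ω (four G c' d') = fixE Ω y := Set.eq_of_subset_of_ncard_le (hS.fixS_subset hy)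
          (by rw [hfy, hS.ncard_fixS_eq hcd' hab]; omega)
        have := hS.mem_four_of_fix h2 hpq htp htq
        rw [hS.four_eq_of_fix hcd' hpq (hset ▸ hp) (hset ▸ hq)] at this
        exact hcd' ((hS.four_le hcd' this).1.symm.trans htc)
      rw [hz hx1 hcd hx hfx, hμ, hz hu1 hab hu rfl]
    · obtain ⟨m, -, hm, heq⟩ := hS.fix_relation hu1 hab hu e
      obtain ⟨m', -, hm', heq'⟩ := hS.fix_relation hx1 hcd hx (by rw [hfx, hgx]; exact e)
      rw [hgx, hfx, ← heq] at heq'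
      rw [hm', hμ, hm]
      exact Nat.eq_of_mul_eq_mul_right (by
        have : 0 < g - 1 := by omega
        positivity) heq'
  have hPa : ∀ {x : G} {c d : Ω}, x ≠ 1 → c ≠ d → x ∈ four G c d →
      {t | t ∈ OneF Ω x ∧ t • c = c}.ncard + μ = 4 := fun hx1 hcd hx => by
    rw [(hS.ncard_P hx1 hcd hx).1]; exact hP hx1 hcd hx
  set V := four G a b with hV
  set A := {t | t ∈ OneV Ω V ∧ t • a = a} with hA
  have hA4 : A.ncard = 4 := hS.ncard_OneV hC hn hab
  -- symmetry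
  have hsym : ∀ {x : G}, x ∈ OneF Ω u → x • a = a → x ≠ 1 ∧ InU Ω x := by
    intro x hx hxa
    have hx1 : x ≠ 1 := fun e => hab (eq_of_ncard_one hx.2.2 ⟨(hS.four_le hab hu).1, hxa⟩
      ⟨(hS.four_le hab hu).2, by rw [e, one_smul]⟩)
    exact ⟨hx1, hS.all_inU hC hab hl hx.1 hx1⟩
  have hpairx : ∀ {x : G}, InU Ω x → x • a = a → ∃ c, a ≠ c ∧ x ∈ four G a c := by
    intro x ⟨_, h2, p, q, hpq, hp, hq⟩ hxa
    rcases eq_or_ne a p with rfl | hap
    · exact ⟨q, hpq, hS.mem_four_of_fix h2 hpq hp hq⟩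
    · exact ⟨p, hap, hS.mem_four_of_fix h2 hap hxa hp⟩
  have hsymm : ∀ {y x : G}, y * y = 1 → x ∈ OneF Ω y → y • a = a → x • a = a → y ∈ OneF Ω x := by
    intro y x hy hx hya hxa
    refine ⟨hy, hx.2.1.symm, ?_⟩
    rw [← hx.2.2]
    congr 1
    ext c
    exact ⟨fun h => ⟨h.2, h.1⟩, fun h => ⟨h.2, h.1⟩⟩
  by_cases hfg : g = f
  · exfalso
    have hset : fixS Ω V = fixE Ω u := Set.eq_of_subset_of_ncard_le (hS.fixS_subset hu) hfg.ge
    have hμ0 : μ = 0 := by
      rw [hμ, Set.ncard_eq_zero]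
      ext t
      simp only [Set.mem_ofPred, Set.mem_empty_iff_false, iff_false, not_and]
      rintro ⟨h2, -, -, -, p, q, hpq, hp, hq, htp, htq⟩ htc
      have := hS.mem_four_of_fix h2 hpq htp htq
      rw [hS.four_eq_of_fix hab hpq (hset ▸ hp) (hset ▸ hq)] at this
      exact hab ((hS.four_le hab this).1.symm.trans htc)
    obtain ⟨x, hxF, hxa⟩ := Set.nonempty_of_ncard_ne_zero
      (show {t | t ∈ OneF Ω u ∧ t • a = a}.ncard ≠ 0 by have := hPa hu1 hab hu; omega)
    obtain ⟨hx1, hxU⟩ := hsym hxF hxa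
    obtain ⟨c, hac, hxc⟩ := hpairx hxU hxa
    -- every one-point involution of `x` at `a` centralises the four-group of `x`
    have hsetx : fixS Ω (four G a c) = fixE Ω x := Set.eq_of_subset_of_ncard_le (hS.fixS_subset hxc)
      (by rw [hS.ncard_fixE_eq hxU (hS.four_inU hab hu hu1), hS.ncard_fixS_eq hac hab]; exact hfg.ge)
    obtain ⟨v, hv, hv1, hvu⟩ := hS.exists_mem_four hab u
    have hvx : v ∈ OneF Ω x ∧ v • a = a := by
      refine ⟨hsymm (hS.four_sq hab hv) ?_ (hS.four_le hab hv).1 hxa, (hS.four_le hab hv).1⟩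
      have hFv : fixE Ω v = fixE Ω u := by
        rw [← hset]
        exact (Set.eq_of_subset_of_ncard_le (hS.fixS_subset hv) (by
          rw [hS.ncard_fixE_eq (hS.four_inU hab hv hv1) (hS.four_inU hab hu hu1)]; exact hfg.ge)).symm
      refine ⟨hxF.1, ?_, by rw [hFv]; exact hxF.2.2⟩
      have hxb : b ≠ x • b := fun e => hab (eq_of_ncard_one hxF.2.2 ⟨(hS.four_le hab hu).1, hxa⟩
        ⟨(hS.four_le hab hu).2, e.symm⟩)
      have hmem : x • b ∈ fixS Ω V := by rw [hset]; exact smul_mem_fixE hxF.2.1 (hS.four_le hab hu).2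
      have heq := hS.four_eq_of_fix hab hxb (hS.mem_fixS_self hab).2 hmem
      exact hS.central hC hxb ⟨hxF.1, rfl⟩ (heq ▸ hv)
    have hux : u ∈ OneF Ω x ∧ u • a = a :=
      ⟨hsymm (hS.four_sq hab hu) hxF (hS.four_le hab hu).1 hxa, (hS.four_le hab hu).1⟩
    -- both lie in one coset of the four-group of `x`
    have hB : ∀ t, t ∈ OneF Ω x → t • a = a → t ∈ OneV Ω (four G a c) := by
      intro t ht hta
      have htc : c ≠ t • c := fun e => hac (eq_of_ncard_one ht.2.2 ⟨(hS.four_le hac hxc).1, hta⟩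
        ⟨(hS.four_le hac hxc).2, e.symm⟩)
      have hmem : t • c ∈ fixS Ω (four G a c) := by rw [hsetx]; exact smul_mem_fixE ht.2.1 (hS.four_le hac hxc).2
      have heq := hS.four_eq_of_fix hac htc (hS.mem_fixS_self hac).2 hmem
      exact ⟨ht.1, fun y hy => hS.central hC htc ⟨ht.1, rfl⟩ (heq ▸ hy), by rw [hsetx]; exact ht.2.2⟩
    have h4 : {t | t ∈ OneV Ω (four G a c) ∧ t • a = a}.ncard = 4 := hS.ncard_OneV hC hn hac
    obtain ⟨hu', hua⟩ : u ∈ OneV Ω (four G a c) ∧ u • a = a := ⟨hB u hux.1 hux.2, hux.2⟩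
    have hcoset : {t | t ∈ OneV Ω (four G a c) ∧ t • a = a} = (fun y => u * y) '' (four G a c : Set G) := by
      refine (Set.eq_of_subset_of_ncard_le ?_ ?_).symm
      · rintro _ ⟨y, hy, rfl⟩
        obtain ⟨h2, hcy, hone⟩ := hu'
        refine ⟨⟨?_, fun z hz => (hcy z hz).mul_left (hS.four_comm hac hy hz), ?_⟩, ?_⟩
        · rw [(hcy y hy).symm.mul_mul_mul_comm, h2, hS.four_sq hac hy, one_mul]
        · rw [← hone]
          congr 1
          ext e
          refine ⟨fun he => ⟨he.1, ?_⟩, fun he => ⟨he.1, ?_⟩⟩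
          · have := he.2; rwa [mul_smul, he.1 y hy] at this
          · rw [mul_smul, he.1 y hy, he.2]
        · simp only; rw [mul_smul, (hS.four_le hac hy).1, hua]
      · rw [h4, Set.ncard_image_of_injective _ (mul_right_injective u), ← Nat.card_coe_set_eq]
        exact (hS.card_four hac).ge
    obtain ⟨y, hy, hyv⟩ := hcoset.subset ⟨hB v hvx.1 hvx.2, hvx.2⟩
    have hy1 : y ≠ 1 := fun e => hvu (by rw [← hyv]; simp [e])
    -- `y = u v` fixes both fixed-point sets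
    have hyV : y ∈ four G a b := by
      rw [show y = u * v by rw [← hyv]; simp only; rw [← mul_assoc, hS.four_sq hab hu, one_mul]]
      exact mul_mem hu hv
    have hFy : fixS Ω V = fixE Ω y := Set.eq_of_subset_of_ncard_le (hS.fixS_subset hyV) (by
      rw [hS.ncard_fixE_eq (hS.four_inU hab hyV hy1) (hS.four_inU hab hu hu1)]; exact hfg.ge)
    have hc : c ∈ fixE Ω u := by rw [← hset, hFy]; exact (hS.four_le hac hy).2
    exact hac (eq_of_ncard_one hxF.2.2 ⟨(hS.four_le hab hu).1, hxa⟩ ⟨hc, (hS.four_le hac hxc).2⟩)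
  have hlt : g < f := lt_of_le_of_ne (hS.fixS_le_fix hu) hfg
  obtain ⟨m, hm, hm', heq⟩ := hS.fix_relation hu1 hab hu hlt
  rcases hm with rfl | rfl
  swap
  · constructor
    · have h1 := (hS.ncard_P hu1 hab hu).2
      have h2 := hP hu1 hab hu
      rw [hμ, hm'] at h2
      rw [show {t | t ∈ OneF Ω u ∧ t • a = b}.ncard = 0 by omega, mul_zero] at h1
      exact (Set.ncard_eq_zero).1 h1
    · rw [← hg, ← hf] at heq
      omega
  exfalso
  rw [← hμ] at hm'
  -- three pairs of involutions in a set of four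
  have hT : ∀ p ∈ V, p ≠ 1 → {t | t ∈ OneF Ω p ∧ t • a = a}.ncard = 2 ∧
      {t | t ∈ OneF Ω p ∧ t • a = a} ⊆ A := by
    intro p hp hp1
    have h2 : {t | t ∈ OneF Ω p ∧ t • a = a}.ncard = 2 := by have := hPa hp1 hab hp; omega
    refine ⟨h2, fun x ⟨hx, hxa⟩ => ⟨?_, hxa⟩⟩
    have hx1 : x ≠ 1 := fun e => hab (eq_of_ncard_one hx.2.2 ⟨(hS.four_le hab hp).1, hxa⟩
      ⟨(hS.four_le hab hp).2, by rw [e, one_smul]⟩)
    have hxp : x * p ∈ OneF Ω p := by
      refine ⟨?_, hx.2.1.mul_left (Commute.refl p), ?_⟩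
      · rw [hx.2.1.symm.mul_mul_mul_comm, hx.1, hS.four_sq hab hp, one_mul]
      · rw [← hx.2.2]; congr 1; ext e
        exact ⟨fun he => ⟨he.1, by have := he.2; rwa [mul_smul, he.1] at this⟩,
          fun he => ⟨he.1, by rw [mul_smul, he.1, he.2]⟩⟩
    have hxpa : (x * p) • a = a := by rw [mul_smul, (hS.four_le hab hp).1, hxa]
    have hne : x ≠ x * p := fun e => hp1 (mul_eq_left.1 e.symm)
    have hpair : {t | t ∈ OneF Ω p ∧ t • a = a} = {x, x * p} :=
      (Set.eq_of_subset_of_ncard_le (by rintro _ (rfl | rfl); exacts [⟨hx, hxa⟩, ⟨hxp, hxpa⟩])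
        (by rw [h2, Set.ncard_pair hne])).symm
    -- `x` normalises `V`
    have hnorm : ∀ q ∈ V, x * q * x⁻¹ ∈ V := by
      intro q hq
      have hqmem : q * x * q⁻¹ ∈ ({x, x * p} : Set G) := hpair.subset
        ⟨OneF_conj (mem_centralizer_singleton_iff.2 (hS.four_comm hab hq hp).eq) hx, by
          rw [mul_smul, mul_smul, show q⁻¹ • a = a from (hS.four_le hab (inv_mem hq)).1, hxa,
            (hS.four_le hab hq).1]⟩
      rcases hqmem with e | e
      · rwa [mul_inv_eq_iff_eq_mul.1 e |>.symm, mul_inv_cancel_right]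
      · rw [show x * q * x⁻¹ = (q * x * q⁻¹ * x⁻¹)⁻¹ * q by group, e]
        exact mul_mem (inv_mem (by rw [hx.2.1.eq, mul_inv_cancel_right]; exact hp)) hq
    have hmem : x • b ∈ fixS Ω V := fun q hq => by
      have := (hS.four_le hab (hnorm q hq)).2
      have h3 := hnorm _ hq
      calc q • x • b = x • (x⁻¹ * q * x) • b := by simp [mul_smul]
        _ = x • b := by
          rw [show (x⁻¹ * q * x) • b = b from (hS.four_le hab (show x⁻¹ * q * x ∈ V by
            rw [inv_eq_of_mul_eq_one_right hx.1]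
            have := hnorm q hq
            rwa [inv_eq_of_mul_eq_one_right hx.1] at this)).2]
    have hxb : b ≠ x • b := fun e => hab (eq_of_ncard_one hx.2.2 ⟨(hS.four_le hab hp).1, hxa⟩
      ⟨(hS.four_le hab hp).2, e.symm⟩)
    have heq := hS.four_eq_of_fix hab hxb (hS.mem_fixS_self hab).2 hmem
    refine ⟨hx.1, fun q hq => hS.central hC hxb ⟨hx.1, rfl⟩ (heq ▸ hq), ?_⟩
    refine le_antisymm ?_ (Set.ncard_pos (Set.toFinite _) |>.2 ⟨a, (hS.mem_fixS_self hab).1, hxa⟩)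
    rw [← hx.2.2]
    exact Set.ncard_le_ncard fun e he => ⟨he.1 p hp, he.2⟩
  -- no involution is shared
  have hdis : ∀ p ∈ V, ∀ q ∈ V, p ≠ 1 → q ≠ 1 → p ≠ q →
      Disjoint {t | t ∈ OneF Ω p ∧ t • a = a} {t | t ∈ OneF Ω q ∧ t • a = a} := by
    intro p hp q hq hp1 hq1 hpq
    rw [Set.disjoint_left]
    rintro z ⟨hzp, hza⟩ ⟨hzq, -⟩
    have hz1 : z ≠ 1 := fun e => hab (eq_of_ncard_one hzp.2.2 ⟨(hS.four_le hab hp).1, hza⟩
      ⟨(hS.four_le hab hp).2, by rw [e, one_smul]⟩)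
    obtain ⟨c, hac, hzc⟩ := hpairx (hS.all_inU hC hab hl hzp.1 hz1) hza
    have h2 : {t | t ∈ OneF Ω z ∧ t • a = a}.ncard = 2 := by have := hPa hz1 hac hzc; omega
    have hp' : p ∈ OneF Ω z := hsymm (hS.four_sq hab hp) hzp (hS.four_le hab hp).1 hza
    have hq' : q ∈ OneF Ω z := hsymm (hS.four_sq hab hq) hzq (hS.four_le hab hq).1 hza
    have hpz : p * z ∈ OneF Ω z := by
      refine ⟨?_, hp'.2.1.mul_left (Commute.refl z), ?_⟩
      · rw [hp'.2.1.symm.mul_mul_mul_comm, hp'.1, hzp.1, one_mul]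
      · rw [← hp'.2.2]; congr 1; ext e
        exact ⟨fun he => ⟨he.1, by have := he.2; rwa [mul_smul, he.1] at this⟩,
          fun he => ⟨he.1, by rw [mul_smul, he.1, he.2]⟩⟩
    have hpza : (p * z) • a = a := by rw [mul_smul, hza, (hS.four_le hab hp).1]
    have hsub : ({p, p * z} : Set G) ⊆ {t | t ∈ OneF Ω z ∧ t • a = a} := by
      rintro _ (rfl | rfl)
      exacts [⟨hp', (hS.four_le hab hp).1⟩, ⟨hpz, hpza⟩]
    have heq := Set.eq_of_subset_of_ncard_le hsub
      (by rw [h2, Set.ncard_pair fun e => hz1 (mul_eq_left.1 e.symm)])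
    rcases heq.symm.subset ⟨hq', (hS.four_le hab hq).1⟩ with e | e
    · exact hpq e.symm
    · rw [Set.mem_singleton_iff] at e
      refine hab (eq_of_ncard_one hzp.2.2 ⟨(hS.four_le hab hp).1, hza⟩ ⟨(hS.four_le hab hp).2, ?_⟩)
      rw [show z = p * q by rw [e, ← mul_assoc, hS.four_sq hab hp, one_mul], mul_smul, (hS.four_le hab hq).2,
        (hS.four_le hab hp).2]
  obtain ⟨v, hv, hv1, hvu⟩ := hS.exists_mem_four hab u
  have huv : u * v ∈ V := mul_mem hu hv
  have huv1 : u * v ≠ 1 := fun e => hvu (by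
    rw [eq_inv_of_mul_eq_one_right e, inv_eq_of_mul_eq_one_right (hS.four_sq hab hu)])
  obtain ⟨hu2, hus⟩ := hT u hu hu1
  obtain ⟨hv2, hvs⟩ := hT v hv hv1
  obtain ⟨hw2, hws⟩ := hT _ huv huv1
  have d1 := hdis u hu v hv hu1 hv1 hvu.symm
  have d2 := hdis u hu _ huv hu1 huv1 fun e => hv1 (mul_eq_left.1 e.symm)
  have d3 := hdis v hv _ huv hv1 huv1 fun e => hu1 (mul_eq_right.1 e.symm)
  have := Set.ncard_le_ncard (Set.union_subset (Set.union_subset hus hvs) hws)
  rw [Set.ncard_union_eq (Set.disjoint_union_left.2 ⟨d2, d3⟩), Set.ncard_union_eq d1, hu2, hv2, hw2, hA4] at this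
  omega

end Setup

end Cfsg.Agent.TwoTransA4
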