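import Cfsg.Agent.Lib.TwoTransA4.Local
import Cfsg.Agent.Lib.PGroup.UniqueOrderP
import Cfsg.Agent.S0206

/-!
# Square roots of involutions

* `sq_bound`: square roots of an involution in a core-free group with dihedral Sylow 2-subgroups.
* `dihedral_of_square`: a criterion for a 2-group to be dihedral.
-/

set_option autoImplicit false
set_option maxHeartbeats 400000
set_option linter.style.haveILetI false

namespace Cfsg.Agent.TwoTransA4

open Subgroup Cfsg.Agent.PSL2
open scoped MatrixGroups

theorem ncard_alt_seven : {x : alternatingGroup (Fin 7) | orderOf x = 2}.ncard = 105 := by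
  classical
  have key : ({g | g.cycleType = {2, 2}} : Finset (Equiv.Perm (Fin 7))).card = 105 := by
    rw [Equiv.Perm.card_of_cycleType, if_pos (by simp)]
    simp [Nat.factorial, Multiset.insert_eq_cons]
  rw [← key, ← Set.ncard_image_of_injective _ Subtype.val_injective, ← Set.ncard_coe_finset]
  refine congrArg Set.ncard (Set.ext fun g => ?_)
  simp only [Set.mem_image, Set.mem_ofPred, Finset.coe_filter, Finset.mem_univ, true_and]
  constructor
  · rintro ⟨x, hx, rfl⟩
    have hx' : orderOf (x : Equiv.Perm (Fin 7)) = 2 := by rwa [Subgroup.orderOf_coe]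
    obtain ⟨n, hn⟩ := Equiv.Perm.cycleType_prime_order (σ := (x : Equiv.Perm (Fin 7))) (hx' ▸ Nat.prime_two)
    rw [hx'] at hn
    have hsum := Equiv.Perm.sum_cycleType_le (x : Equiv.Perm (Fin 7))
    have hsign := Equiv.Perm.sign_of_cycleType (x : Equiv.Perm (Fin 7))
    rw [Equiv.Perm.mem_alternatingGroup.1 x.2, hn] at hsign
    rw [hn] at hsum ⊢
    simp only [Multiset.sum_replicate, Fintype.card_fin, smul_eq_mul] at hsum
    have hn2 : n ≤ 2 := by omega
    interval_cases n
    · simp at hsign; exact absurd hsign (by decide)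
    · rfl
    · simp at hsign; exact absurd hsign (by decide)
  · intro hg
    have hmem : g ∈ alternatingGroup (Fin 7) := by
      rw [Equiv.Perm.mem_alternatingGroup, Equiv.Perm.sign_of_cycleType, hg]; decide
    refine ⟨⟨g, hmem⟩, ?_, rfl⟩
    rw [← Subgroup.orderOf_coe, ← Equiv.Perm.lcm_cycleType]
    show g.cycleType.lcm = 2
    rw [hg]
    decide

/-- Core-free, dihedral Sylow 2-subgroups of order at least 8, one class of involutions: an involution has
few square roots, or the group is `A₇` up to an odd index. -/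
theorem sq_bound {X : Type*} [Group X] [Finite X] (hS : GW.DihedralTwo X) (h8 : 8 ∣ Nat.card X)
    (hO : Cfsg.oddCore X = ⊥) (hone : ∀ x y : X, orderOf x = 2 → orderOf y = 2 → IsConj x y) :
    ∃ E : Subgroup X, (∀ i : X, orderOf i = 2 → ∀ q, q * q = i → ∀ S : Sylow 2 X, q ∈ (S : Subgroup X) →
        q ∈ E) ∧
      ((∀ i : X, orderOf i = 2 → {q | q ∈ E ∧ q * q = i}.ncard ≤ 2) ∨
        (Nonempty (E ≃* alternatingGroup (Fin 7)) ∧ {x : X | orderOf x = 2}.ncard = 105)) := by
  haveI := Fact.mk Nat.prime_two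
  obtain ⟨S₀⟩ : Nonempty (Sylow 2 X) := inferInstance
  have hd : GW.SubDihedral X := fun S => Or.inr (hS S)
  have hgen : ∀ (S : Sylow 2 X) (N : Subgroup X), (∀ x, orderOf x = 2 → x ∈ N) → (S : Subgroup X) ≤ N := by
    intro S N hN q hq
    obtain ⟨n, hn, ⟨e⟩⟩ := hS S
    haveI : NeZero n := ⟨by omega⟩
    have hsr : ∀ i : ZMod n, ((e.symm (.sr i) : (S : Subgroup X)) : X) ∈ N := fun i =>
      hN _ (by rw [Subgroup.orderOf_coe, MulEquiv.orderOf_eq, DihedralGroup.orderOf_sr])
    rw [show q = ((e.symm (e ⟨q, hq⟩) : (S : Subgroup X)) : X) by simp]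
    rcases e ⟨q, hq⟩ with i | i
    · rw [show (DihedralGroup.r i : DihedralGroup n) = .sr 0 * .sr i by simp, map_mul]
      exact mul_mem (hsr 0) (hsr i)
    · exact hsr i
  rcases GW.structure_of_oddCore_eq_bot hd (GW.knownSections GW.partTwo) hO with
    hp | ⟨⟨e⟩⟩ | ⟨⟨e⟩⟩ | ⟨E, hEn, -, hEk, -⟩
  · exfalso
    have htop : (S₀ : Subgroup X) = ⊤ := (S₀.3 (hp.to_subgroup ⊤) le_top).symm
    haveI : Nontrivial X := by
      rw [← Finite.one_lt_card_iff_nontrivial]
      exact lt_of_lt_of_le (by norm_num) (Nat.le_of_dvd Nat.card_pos h8)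
    haveI := hp.center_nontrivial
    obtain ⟨⟨z, hz⟩, hzo⟩ := exists_prime_orderOf_dvd_card' (G := center X) 2 (by
      obtain ⟨k, hk⟩ := (hp.to_subgroup (center X)).exists_card_eq
      rcases k with _ | k
      · exact absurd hk (Finite.one_lt_card).ne'
      · exact ⟨2 ^ k, by rw [hk, pow_succ']⟩)
    rw [← Subgroup.orderOf_coe] at hzo
    obtain ⟨n, hn, ⟨e⟩⟩ := hS S₀
    haveI : NeZero n := ⟨by omega⟩
    have hall : ∀ x : X, orderOf x = 2 → x = z := fun x hx => by
      obtain ⟨c, rfl⟩ := isConj_iff.1 (hone z x hzo hx)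
      rw [Subgroup.mem_center_iff.1 hz c, mul_inv_cancel_right]
    have e0 : ∀ i : ZMod n, ((e.symm (.sr i) : (S₀ : Subgroup X)) : X) = z := fun i =>
      hall _ (by rw [Subgroup.orderOf_coe, MulEquiv.orderOf_eq, DihedralGroup.orderOf_sr])
    have h01 := e.symm.injective (Subtype.ext ((e0 0).trans (e0 1).symm))
    rw [DihedralGroup.sr.injEq] at h01
    have : Nat.card (ZMod n) = 1 := by
      haveI : Subsingleton (ZMod n) := subsingleton_iff_zero_eq_one.1 h01
      exact Nat.card_of_subsingleton (0 : ZMod n)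
    rw [Nat.card_zmod] at this
    omega
  · exfalso
    rw [Nat.card_congr e.toEquiv, nat_card_alternatingGroup, Nat.card_fin] at h8
    revert h8; decide
  · exfalso
    obtain ⟨c, hc⟩ := isConj_iff.1 (hone (e.symm (Equiv.swap 0 1)) (e.symm (Equiv.swap 0 1 * Equiv.swap 2 3))
      (by rw [MulEquiv.orderOf_eq]; exact orderOf_two (by decide) (by decide))
      (by rw [MulEquiv.orderOf_eq]; exact orderOf_two (by decide) (by decide)))
    have := congrArg (fun x => Equiv.Perm.sign (e x)) hc
    simp only [map_mul, map_inv, MulEquiv.apply_symm_apply, mul_inv_cancel_comm] at this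
    simp at this
  · obtain ⟨j, hj⟩ := exists_prime_orderOf_dvd_card' (G := E) 2 hEk.even_card
    have hr : ∀ x : X, orderOf x = 2 → x ∈ E := fun x hx => by
      obtain ⟨c, rfl⟩ := isConj_iff.1 (hone j x (by rwa [Subgroup.orderOf_coe]) hx)
      exact hEn.conj_mem _ j.2 c
    refine ⟨E, fun i _ q _ S hq => hgen S E hr hq, ?_⟩
    rcases hEk with ⟨F, iF, iF', hodd, -, ⟨ψ⟩⟩ | hA
    · refine Or.inl fun i hi => ?_
      have h2 := odd_card_iff.1 hodd
      set i' := ψ ⟨i, hr i hi⟩ with hi'
      have hio : orderOf i' = 2 := by rw [hi', MulEquiv.orderOf_eq, Subgroup.orderOf_mk, hi]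
      obtain ⟨n, hn, ⟨φ⟩⟩ := dihedral_centralizer_involution h2 hio
      have hn0 : n ≠ 0 := by
        obtain ⟨k, hk⟩ := hodd
        have := Fintype.one_lt_card (α := F)
        omega
      haveI : NeZero n := ⟨hn0⟩
      set C := centralizer ({i'} : Set PSL(2, F))
      have hi'C : i' ∈ C := mem_centralizer_singleton_iff.2 rfl
      let f : DihedralGroup n →* X :=
        E.subtype.comp (ψ.symm.toMonoidHom.comp (C.subtype.comp φ.symm.toMonoidHom))
      have hf : Function.Injective f := E.subtype_injective.comp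
        (ψ.symm.injective.comp (C.subtype_injective.comp φ.symm.injective))
      have hfi : f (φ ⟨i', hi'C⟩) = i := by simp [f, hi']
      set z := φ ⟨i', hi'C⟩
      have hsub : {q | q ∈ E ∧ q * q = i} ⊆ f '' {d | d * d = z} := by
        rintro q ⟨hqE, hqq⟩
        have hqC : ψ ⟨q, hqE⟩ ∈ C := mem_centralizer_singleton_iff.2 (by
          rw [hi', ← map_mul, ← map_mul]
          congr 1
          ext
          show q * i = i * q
          rw [← hqq, mul_assoc])
        refine ⟨φ ⟨ψ ⟨q, hqE⟩, hqC⟩, hf ?_, by simp [f]⟩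
        rw [map_mul, hfi]
        simpa [f] using hqq
      refine le_trans (Set.ncard_le_ncard hsub) (le_trans (Set.ncard_image_le) ?_)
      have hz1 : z ≠ 1 := fun e => by
        have := hfi; rw [e, map_one] at this
        rw [← this, orderOf_one] at hi; omega
      rcases Set.eq_empty_or_nonempty {d : DihedralGroup n | d * d = z} with h | ⟨d₀, hd₀⟩
      · rw [h, Set.ncard_empty]; omega
      obtain ⟨k₀, hk₀⟩ : ∃ k, d₀ = .r k := by
        rcases d₀ with k | k
        · exact ⟨k, rfl⟩
        · exact absurd (by rw [← hd₀, DihedralGroup.sr_mul_self]) hz1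
      subst hk₀
      refine le_trans (Set.ncard_le_ncard (t := {.r k₀, .r (k₀ + DihedralSylow.half n)}) ?_)
        (le_trans (Set.ncard_insert_le _ _) (by rw [Set.ncard_singleton]))
      intro d hd
      rcases d with k | k
      · have h3 : k + k = k₀ + k₀ := DihedralGroup.r.inj (hd.trans hd₀.symm)
        rcases DihedralSylow.eq_zero_or_half (a := k - k₀) (by linear_combination h3) with e | e
        · exact Or.inl (by rw [sub_eq_zero.1 e])
        · exact Or.inr (by rw [Set.mem_singleton_iff, ← e, add_sub_cancel])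
      · exact absurd (by rw [← hd, DihedralGroup.sr_mul_self]) hz1
    · obtain ⟨ψ⟩ := hA
      refine Or.inr ⟨⟨ψ⟩, ?_⟩
      rw [← ncard_alt_seven]
      refine Set.ncard_congr (fun x hx => ψ ⟨x, hr x hx⟩)
        (fun x hx => by show orderOf (ψ _) = 2; rw [MulEquiv.orderOf_eq, Subgroup.orderOf_mk]; exact hx)
        (fun x y hx hy e => congrArg Subtype.val (ψ.injective e))
        (fun y hy => ⟨ψ.symm y, ?_, by simp⟩)
      show orderOf ((ψ.symm y : E) : X) = 2
      rw [Subgroup.orderOf_coe, MulEquiv.orderOf_eq]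
      exact hy

/-- A 2-group with a central involution having exactly two square roots, inverted by an involution with
small centraliser, is dihedral. -/
theorem dihedral_of_square {S : Type*} [Group S] [Finite S] (hS : IsPGroup 2 S) {u v c : S}
    (hu : u * u = 1) (hu1 : u ≠ 1) (hv : v * v = 1) (hc : c * c = u) (hvc : v * c * v⁻¹ = c⁻¹)
    (hC : ∀ y, Commute y v → y = 1 ∨ y = u ∨ y = v ∨ y = u * v)
    (hsq : ∀ y, y * y = u → y = c ∨ y = c⁻¹) (hcent : ∀ y : S, Commute y u) :
    ∃ n, 2 ≤ n ∧ Nonempty (S ≃* DihedralGroup n) := by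
  haveI := Fact.mk Nat.prime_two
  have hvi : v⁻¹ = v := inv_eq_of_mul_eq_one_right hv
  set Q := centralizer ({c} : Set S) with hQ
  have hcQ : c ∈ Q := mem_centralizer_singleton_iff.2 rfl
  have hcc : c ≠ c⁻¹ := fun e => hu1 (by rw [← hc]; nth_rw 2 [e]; exact mul_inv_cancel c)
  have hvQ : v ∉ Q := fun h => hcc (by
    rw [← hvc, mem_centralizer_singleton_iff.1 h, mul_inv_cancel_right])
  have hidx : ∀ y : S, y ∉ Q → v * y ∈ Q := by
    intro y hy
    have h1 : (y * c * y⁻¹) * (y * c * y⁻¹) = u := by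
      rw [show y * c * y⁻¹ * (y * c * y⁻¹) = y * (c * c) * y⁻¹ by group, hc, (hcent y).eq,
        mul_inv_cancel_right]
    rw [mem_centralizer_singleton_iff, ← mul_inv_eq_iff_eq_mul]
    rcases hsq _ h1 with e | e
    · exact absurd (mem_centralizer_singleton_iff.2 (mul_inv_eq_iff_eq_mul.1 e)) hy
    · calc v * y * c * (v * y)⁻¹ = v * (y * c * y⁻¹) * v⁻¹ := by group
        _ = c := by rw [e, ← conj_inv, hvc, inv_inv]
  have huQ : u ∈ Q := hc ▸ mul_mem hcQ hcQ
  have huniq : ∀ z ∈ Q, z * z = 1 → z = 1 ∨ z = u := by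
    intro z hz hz2
    have hzc : z * c = c * z := mem_centralizer_singleton_iff.1 hz
    have h1 : (z * c) * (z * c) = u := by
      rw [mul_assoc, ← mul_assoc c, ← hzc, mul_assoc, ← mul_assoc, hz2, one_mul, hc]
    rcases hsq _ h1 with e | e
    · exact Or.inl (by simpa using e)
    · refine Or.inr ?_
      calc z = (z * c) * c⁻¹ := by group
        _ = c⁻¹ * c⁻¹ := by rw [e]
        _ = (c * c)⁻¹ := by group
        _ = u := by rw [hc, inv_eq_of_mul_eq_one_right hu]
  haveI hQc : IsCyclic Q := by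
    rcases PGroup.cyclic_or_quaternion_of_unique (p := 2) (hS.to_subgroup Q) (fun H K hH hK => by
      have key : ∀ H : Subgroup Q, Nat.card H = 2 → H = zpowers ⟨u, huQ⟩ := by
        intro H hH
        refine (Subgroup.eq_of_le_of_card_ge (zpowers_le.2 ?_) ?_).symm
        · obtain ⟨⟨x, hxH⟩, hx⟩ := exists_prime_orderOf_dvd_card' (G := H) 2 (by rw [hH])
          rw [Subgroup.orderOf_mk, ← Subgroup.orderOf_coe] at hx
          obtain ⟨h1, h2⟩ := orderOf_eq_two_iff'.1 hx
          have : x = ⟨u, huQ⟩ := Subtype.ext ((huniq _ x.2 h1).resolve_left h2)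
          exact this ▸ hxH
        · rw [hH, Nat.card_zpowers, Subgroup.orderOf_mk, orderOf_two hu hu1]
      rw [key H hH, key K hK]) with h | ⟨-, n, hn, -, ⟨e⟩⟩
    · exact h
    · exfalso
      haveI : NeZero (2 ^ n) := ⟨by positivity⟩
      have hcomm : ∀ d : QuaternionGroup (2 ^ n), e ⟨c, hcQ⟩ * d = d * e ⟨c, hcQ⟩ := fun d => by
        refine e.symm.injective ?_
        rw [map_mul, map_mul, MulEquiv.symm_apply_apply]
        exact Subtype.ext (mem_centralizer_singleton_iff.1 (e.symm d).2).symm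
      have h4 : (e ⟨c, hcQ⟩) * (e ⟨c, hcQ⟩) ≠ 1 := fun h => hu1 (by
        rw [← map_mul, MulEquiv.map_eq_one_iff] at h
        rw [← hc]; exact congrArg Subtype.val h)
      have h1n : 1 < 2 ^ n := Nat.one_lt_two_pow (by omega)
      revert hcomm h4
      rcases e ⟨c, hcQ⟩ with i | i
      · intro hcomm h4
        have := hcomm (.xa 0)
        simp only [QuaternionGroup.a_mul_xa, QuaternionGroup.xa_mul_a, QuaternionGroup.xa.injEq] at this
        apply h4
        rw [QuaternionGroup.a_mul_a, QuaternionGroup.one_def]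
        congr 1
        linear_combination -this
      · intro hcomm _
        have := hcomm (.a 1)
        simp only [QuaternionGroup.a_mul_xa, QuaternionGroup.xa_mul_a, QuaternionGroup.xa.injEq] at this
        have h2 : ((2 : ℕ) : ZMod (2 * 2 ^ n)) = 0 := by push_cast; linear_combination this
        rw [ZMod.natCast_eq_zero_iff] at h2
        exact absurd (Nat.le_of_dvd (by omega) h2) (by omega)
  have hinvol : ∀ y ∈ Q, (y * v) * (y * v) = 1 := by
    intro y hy
    have hvQv : v * y * v ∈ Q := by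
      rw [mem_centralizer_singleton_iff]
      have h2 : v * c = c⁻¹ * v := by rw [← hvc]; group
      have h1 : c * v = v * c⁻¹ := by
        calc c * v = c * (v * c) * c⁻¹ := by group
          _ = c * (c⁻¹ * v) * c⁻¹ := by rw [h2]
          _ = v * c⁻¹ := by group
      have h3 : y * c⁻¹ = c⁻¹ * y :=
        (Commute.inv_right (show Commute y c from mem_centralizer_singleton_iff.1 hy)).eq
      calc v * y * v * c = v * y * (v * c) := by group
        _ = v * (y * c⁻¹) * v := by rw [h2]; group
        _ = (v * c⁻¹) * y * v := by rw [h3]; group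
        _ = c * (v * y * v) := by rw [← h1]; group
    have hz : y * (v * y * v) ∈ Q := mul_mem hy hvQv
    have hzv : Commute (y * (v * y * v)) v := by
      have hcm : y * (v * y * v) = (v * y * v) * y :=
        congrArg Subtype.val ((IsCyclic.isMulCommutative (α := Q)).is_comm.comm ⟨y, hy⟩ ⟨_, hvQv⟩)
      calc y * (v * y * v) * v = y * v * y * (v * v) := by group
        _ = y * v * y := by rw [hv, mul_one]
        _ = (v * v) * y * v * y := by rw [hv, one_mul]
        _ = v * ((v * y * v) * y) := by group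
        _ = v * (y * (v * y * v)) := by rw [← hcm]
    rw [show y * v * (y * v) = y * (v * y * v) by group]
    rcases hC _ hzv with e | e | e | e
    · exact e
    · exfalso
      have h1 : (y * v) * (y * v) = u := by rw [show y * v * (y * v) = y * (v * y * v) by group, e]
      have : y * v ∈ Q := (hsq _ h1).elim (fun h => h ▸ hcQ) (fun h => h ▸ inv_mem hcQ)
      exact hvQ (by simpa using mul_mem (inv_mem hy) this)
    · exact absurd (e ▸ hz) hvQ
    · exfalso; rw [e] at hz; exact hvQ (by simpa using mul_mem (inv_mem huQ) hz)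
  obtain ⟨⟨y₀, hy₀⟩, hgen⟩ := IsCyclic.exists_generator (α := Q)
  have hv1 : v ≠ 1 := fun e => hvQ (e ▸ one_mem Q)
  have hyv1 : y₀ * v ≠ 1 := fun e => hvQ (by
    rw [show v = y₀⁻¹ by exact (eq_inv_of_mul_eq_one_right e)]; exact inv_mem hy₀)
  have hy1 : y₀ ≠ 1 := fun e => hu1 (by
    obtain ⟨k, hk⟩ := mem_zpowers_iff.1 (hgen ⟨u, huQ⟩)
    have := congrArg Subtype.val hk
    simp only [SubgroupClass.coe_zpow] at this
    rw [← this, e, one_zpow])
  obtain ⟨e⟩ := S0206.result v (y₀ * v) (orderOf_two hv hv1) (orderOf_two (hinvol _ hy₀) hyv1)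
    (fun e => hy1 (by simpa using e))
  have hvy : v * (y₀ * v) = y₀⁻¹ := by
    have := hinvol y₀ hy₀
    calc v * (y₀ * v) = y₀⁻¹ * (y₀ * v * (y₀ * v)) := by group
      _ = y₀⁻¹ := by rw [this, mul_one]
  have htop : Subgroup.closure ({v, y₀ * v} : Set S) = ⊤ := by
    refine eq_top_iff.2 fun y _ => ?_
    have hvm : v ∈ Subgroup.closure ({v, y₀ * v} : Set S) := subset_closure (Set.mem_insert _ _)
    have hym : y₀ ∈ Subgroup.closure ({v, y₀ * v} : Set S) := by
      have h1 : y₀ * v ∈ Subgroup.closure ({v, y₀ * v} : Set S) :=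
        subset_closure (Set.mem_insert_of_mem _ (Set.mem_singleton _))
      have := mul_mem h1 hvm
      rwa [mul_assoc, hv, mul_one] at this
    have hQm : ∀ z ∈ Q, z ∈ Subgroup.closure ({v, y₀ * v} : Set S) := fun z hz => by
      obtain ⟨k, hk⟩ := mem_zpowers_iff.1 (hgen ⟨z, hz⟩)
      rw [show z = y₀ ^ k from (congrArg Subtype.val hk).symm]
      exact zpow_mem hym k
    by_cases hy : y ∈ Q
    · exact hQm y hy
    · have h := mul_mem (inv_mem hvm) (hQm _ (hidx y hy))
      rwa [inv_mul_cancel_left] at h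
  refine ⟨_, ?_, ⟨(Subgroup.topEquiv.symm.trans (MulEquiv.subgroupCongr htop.symm)).trans e⟩⟩
  rw [hvy, orderOf_inv]
  refine Nat.two_le_iff _ |>.2 ⟨(orderOf_pos _).ne', fun h => hy1 (orderOf_eq_one_iff.1 h)⟩

end Cfsg.Agent.TwoTransA4
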