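import Cfsg.Agent.Lib.TwoTransA4.Swap
import Cfsg.Agent.Lib.TwoTransA4.Normal
import Cfsg.Agent.Lib.TwoTransA4.Square

/-!
# Odd degree, swappers not centralising four-groups: `A₇` on 15 points
-/

set_option autoImplicit false
set_option maxHeartbeats 800000
set_option linter.style.haveILetI false
set_option linter.unusedSectionVars false

namespace Cfsg.Agent.TwoTransA4

open Subgroup MulAction

variable {G : Type*} [Group G] {Ω : Type*} [MulAction G Ω] [Finite G] [Finite Ω] [FaithfulSMul G Ω]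

namespace Setup

variable (hS : Setup G Ω)
include hS

/-- An element exchanging `c` and `d` does not centralise their four-group. -/
theorem noncentral_elem (h : SCase G Ω) {c d : Ω} (hcd : c ≠ d) {g : G} (hgc : g • c = d) (hgd : g • d = c) :
    ∃ y ∈ four G c d, ¬ Commute g y := by
  by_contra hne
  push Not at hne
  obtain ⟨t, -, ht⟩ := hS.exists_inU_Sw hcd
  obtain ⟨y, hy, hty⟩ := hS.noncentral h hcd ht
  have hz : t * g ∈ pair G c d :=
    mem_pair.2 ⟨by rw [mul_smul, hgc, smul_of_mem ht], by rw [mul_smul, hgd, ht.2]⟩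
  set z := t * g with hzdef
  have hact : ∀ x ∈ four G c d, z * x * z⁻¹ = t * x * t⁻¹ := fun x hx => by
    calc z * x * z⁻¹ = t * (g * x * g⁻¹) * t⁻¹ := by rw [hzdef]; group
      _ = t * x * t⁻¹ := by rw [(hne x hx).eq, mul_inv_cancel_right]
  by_cases hzV : z ∈ four G c d
  · refine hty (mul_inv_eq_iff_eq_mul.1 ?_)
    rw [← hact y hy, (hS.four_comm hcd hzV hy).eq, mul_inv_cancel_right]
  · have hy1 : y ≠ 1 := fun e => hty (e ▸ Commute.one_right t)
    have h3 := hS.pair_cube hcd hz hzV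
    have h2 : z * (z * y * z⁻¹) * z⁻¹ = y := by
      rw [hact y hy, hact _ (hS.Sw_conj_four hcd ht hy), inv_eq_of_mul_eq_one_right ht.1]
      calc t * (t * y * t) * t = (t * t) * y * (t * t) := by group
        _ = y := by rw [ht.1, one_mul, mul_one]
    refine hzV (hS.mem_four_of_commute hcd hy hy1 hz ?_)
    show z * y = y * z
    calc z * y = z * (z * (z * y * z⁻¹) * z⁻¹) := by rw [h2]
      _ = (z * z * z) * y * (z * z * z)⁻¹ * z := by group
      _ = y * z := by rw [h3]; group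

/-- The degree. -/
theorem degree_eq_S (h : SCase G Ω) {u : G} {a b : Ω} (hu1 : u ≠ 1) (hab : a ≠ b) (hu : u ∈ four G a b) :
    Nat.card Ω = (fixE Ω u).ncard * (2 * (fixE Ω u).ncard - 1) := by
  have heq := hS.lam_eq (hS.four_inU hab hu hu1) hab
  rw [(hS.case_S h hab).1] at heq
  have hlt := hS.fix_lt (hS.four_inU hab hu hu1)
  have h2 := hS.two_le_fix (hS.four_inU hab hu hu1)
  set f := (fixE Ω u).ncard
  obtain ⟨k, hk⟩ : ∃ k, f = k + 1 := ⟨f - 1, by omega⟩
  rw [hk, show k + 1 - 1 = k by omega] at heq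
  rw [hk, show 2 * (k + 1) - 1 = 2 * k + 1 by omega]
  obtain ⟨r, hr⟩ : ∃ r, Nat.card Ω = r + (k + 1) := ⟨Nat.card Ω - (k + 1), by omega⟩
  rw [hr, Nat.add_sub_cancel] at heq
  rw [hr]
  have : r = 2 * ((k + 1) * k) := by linarith
  rw [this]; ring

/-- `SCase` in odd degree: degree 15 and `A₇`. -/
theorem odd_SCase (h : SCase G Ω) (hn : Nat.card Ω % 2 = 1) {u : G} {a b : Ω} (hu1 : u ≠ 1) (hab : a ≠ b)
    (hu : u ∈ four G a b) : Nat.card Ω = 15 ∧ Nonempty (G ≃* alternatingGroup (Fin 7)) := by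
  classical
  haveI := Fact.mk Nat.prime_two
  haveI := hS.pretransitive
  set V := four G a b with hV
  have hu2 : u * u = 1 := hS.four_sq hab hu
  have haF : a ∈ fixE Ω u := (hS.four_le hab hu).1
  have hbF : b ∈ fixE Ω u := (hS.four_le hab hu).2
  set f := (fixE Ω u).ncard with hfdef
  have hfodd : f % 2 = 1 := (hS.parity hu1 hab hu).1.trans hn
  have hf2 : 2 ≤ f := hS.two_le_fix (hS.four_inU hab hu hu1)
  have hdeg := hS.degree_eq_S h hu1 hab hu
  rw [← hfdef] at hdeg
  have hallU : ∀ x : G, x * x = 1 → x ≠ 1 → InU Ω x := fun x hx hx1 => by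
    obtain ⟨c, hc⟩ : ∃ c : Ω, x • c ≠ c := by
      by_contra hne
      push Not at hne
      exact hx1 (Perm.eq_one_of_forall_smul_eq hne)
    exact (hS.case_S h hc.symm).2 x ⟨hx, rfl⟩
  have hone : ∀ x y : G, orderOf x = 2 → orderOf y = 2 → IsConj x y := fun x y hx hy => by
    obtain ⟨hx2, hx1⟩ := orderOf_eq_two_iff'.1 hx
    obtain ⟨hy2, hy1⟩ := orderOf_eq_two_iff'.1 hy
    exact isConj_iff.2 (hS.exists_conj_inU (hallU x hx2 hx1) (hallU y hy2 hy1))
  -- a swapper commuting with `u`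
  obtain ⟨t, ht, htu⟩ : ∃ t ∈ Sw G a b, Commute t u := by
    obtain ⟨t, -, ht⟩ := hS.exists_inU_Sw hab
    obtain ⟨y, hy, hty⟩ := hS.noncentral h hab ht
    set y' := t * y * t⁻¹ with hy'
    have hy'V : y' ∈ V := hS.Sw_conj_four hab ht hy
    have hti : t⁻¹ = t := inv_eq_of_mul_eq_one_right ht.1
    have hne : y * y' ≠ 1 := fun e => hty (mul_inv_eq_iff_eq_mul.1 (by
      show y' = y
      rw [← inv_eq_of_mul_eq_one_right e, inv_eq_of_mul_eq_one_right (hS.four_sq hab hy)]))
    have hcomm : Commute t (y * y') := by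
      refine mul_inv_eq_iff_eq_mul.1 ?_
      calc t * (y * y') * t⁻¹ = (t * y * t⁻¹) * ((t * t) * y * (t⁻¹ * t⁻¹)) := by rw [hy']; group
        _ = y' * y := by rw [hy', ht.1, hti, ht.1, one_mul, mul_one]
        _ = y * y' := (hS.four_comm hab hy'V hy).eq
    obtain ⟨z, hz, hzu⟩ := hS.four_conj hab (mul_mem hy hy'V) hne hu hu1
    refine ⟨z * t * z⁻¹, ?_, hzu ▸ (Commute.conj_iff z).2 hcomm⟩
    have := conj_mem_Sw z ht
    rwa [(mem_pair.1 hz).1, (mem_pair.1 hz).2] at this
  obtain ⟨v, hv, hv1, hvu⟩ := hS.exists_mem_four hab u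
  have htv : ¬ Commute t v := fun hc => by
    obtain ⟨y, hy, hty⟩ := hS.noncentral h hab ht
    apply hty
    rcases hS.four_cases hab hu hu1 hv hv1 hvu hy with e | e | e | e <;> rw [e]
    exacts [Commute.one_right t, htu, hc, htu.mul_right hc]
  have hti : t⁻¹ = t := inv_eq_of_mul_eq_one_right ht.1
  have htvt : t * v * t⁻¹ = u * v := by
    rcases hS.four_cases hab hu hu1 hv hv1 hvu (hS.Sw_conj_four hab ht hv) with e | e | e | e
    · exact absurd (conj_eq_one_iff.1 e) hv1
    · exact absurd (mul_left_cancel (mul_right_cancel (e.trans (by rw [htu.eq, mul_inv_cancel_right] :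
        u = t * u * t⁻¹)))) hvu
    · exact absurd (mul_inv_eq_iff_eq_mul.1 e) htv
    · exact e
  -- the square roots of `u`
  set I : Set G := {q | q * q = u} with hI
  have hIu : ∀ q ∈ I, Commute q u := fun q hq => by
    rw [← (hq : q * q = u)]; exact (Commute.refl q).mul_right (Commute.refl q)
  have hIfix : ∀ q ∈ I, {c ∈ fixE Ω u | q • c = c}.ncard = 1 := by
    intro q hq
    have hodd := ncard_fix_mod_two (t := q) (X := fixE Ω u) (fun c hc => smul_mem_fixE (hIu q hq) hc)
      (fun c hc => by rw [← mul_smul, (hq : q * q = u)]; exact hc)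
    rw [← hfdef, hfodd] at hodd
    by_contra hne
    obtain ⟨c, hc, d, hd, hcd⟩ := (Set.one_lt_ncard (Set.toFinite _)).1
      (show 1 < {c ∈ fixE Ω u | q • c = c}.ncard by omega)
    have huc := hS.mem_four_of_fix hu2 hcd hc.1 hd.1
    exact hu1 ((hq : q * q = u) ▸ hS.four_sq hcd
      (hS.mem_four_of_commute hcd huc hu1 (mem_pair.2 ⟨hc.2, hd.2⟩) (hIu q hq)))
  have hIconj : ∀ g ∈ centralizer ({u} : Set G), ∀ q ∈ I, g * q * g⁻¹ ∈ I := fun g hg q hq => by
    show g * q * g⁻¹ * (g * q * g⁻¹) = u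
    rw [show g * q * g⁻¹ * (g * q * g⁻¹) = g * (q * q) * g⁻¹ by group, (hq : q * q = u),
      mem_centralizer_singleton_iff.1 hg, mul_inv_cancel_right]
  have hIab : {q ∈ I | q • a = b} = {t * v, t * (u * v)} := by
    have hq : ∀ x ∈ V, (t * x) * (t * x) = (t * x * t⁻¹) * x := fun x _ => by rw [hti]; group
    have hsq_v : (t * v) * (t * v) = u := by
      rw [hq v hv, htvt, mul_assoc, hS.four_sq hab hv, mul_one]
    ext q
    constructor
    · rintro ⟨hqI, hqa⟩
      have hqb : q • b = a := by rw [← hqa, ← mul_smul, (hqI : q * q = u)]; exact haF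
      have hx := hS.mem_four_of_commute hab hu hu1
        (mem_pair.2 ⟨by rw [mul_smul, hqa, smul_of_mem ht], by rw [mul_smul, hqb, ht.2]⟩ : t * q ∈ pair G a b)
        (htu.mul_left (hIu q hqI))
      have e : q = t * (t * q) := by rw [← mul_assoc, ht.1, one_mul]
      rcases hS.four_cases hab hu hu1 hv hv1 hvu hx with e' | e' | e' | e' <;> rw [e'] at e
      · exfalso; apply hu1
        rw [← (hqI : q * q = u), e, mul_one, ht.1]
      · exfalso; apply hu1
        rw [← (hqI : q * q = u), e, hq u hu, htu.eq, mul_inv_cancel_right, hu2]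
      · exact Or.inl e
      · exact Or.inr e
    · rintro (rfl | rfl)
      · exact ⟨hsq_v, by rw [mul_smul, (hS.four_le hab hv).1, ht.2]⟩
      · refine ⟨?_, by rw [mul_smul, (hS.four_le hab (mul_mem hu hv)).1, ht.2]⟩
        show t * (u * v) * (t * (u * v)) = u
        rw [hq _ (mul_mem hu hv),
          show t * (u * v) * t⁻¹ = (t * u * t⁻¹) * (t * v * t⁻¹) by group, htvt, htu.eq, mul_inv_cancel_right,
          ← mul_assoc u u v, hu2, one_mul, ← mul_assoc, (hS.four_comm hab hv hu).eq, mul_assoc,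
          hS.four_sq hab hv, mul_one]
  have htr : ∀ c ∈ fixE Ω u, ∀ d ∈ fixE Ω u, c ≠ d →
      ∃ g ∈ centralizer ({u} : Set G), g • a = c ∧ g • b = d := fun c hc d hd hcd =>
    hS.exists_centralizer_map hu1 hab hu hcd hc hd
  obtain ⟨hIa, hIcard⟩ := ncard_fix_eq_of_one (I := I) (M := centralizer ({u} : Set G)) (X := fixE Ω u)
    (s := 2) hIconj (fun c hc d hd => by
      rcases eq_or_ne c d with rfl | hcd
      · exact ⟨1, one_mem _, one_smul G c⟩
      · obtain ⟨k, hk, hk1, -⟩ := htr c hc d hd hcd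
        obtain ⟨m, hm, hm1, -⟩ := htr d hd c hc hcd.symm
        exact ⟨m * k⁻¹, mul_mem hm (inv_mem hk), by rw [← hk1, mul_smul, inv_smul_smul, hm1]⟩)
    (fun q hq c hc => smul_mem_fixE (hIu q hq) hc)
    (fun c hc d hd hcd => by
      obtain ⟨g, hg, rfl, rfl⟩ := htr c hc d hd hcd
      rw [← ncard_maps_eq (fun q => ⟨hIconj g hg q, fun hh => by
        have := hIconj g⁻¹ (inv_mem hg) _ hh; simpa [mul_assoc] using this⟩) a b, hIab, Set.ncard_pair]
      intro e
      exact hu1 (mul_eq_right.1 (mul_left_cancel e).symm))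
    hIfix haF hf2
  -- the pair of roots at `a`
  obtain ⟨c, hc, hca⟩ := Set.nonempty_of_ncard_ne_zero (by omega : {q ∈ I | q • a = a}.ncard ≠ 0)
  have hcc : c * c = u := hc
  have hcne : c ≠ c⁻¹ := fun e => hu1 (by rw [← hcc]; nth_rw 2 [e]; exact mul_inv_cancel c)
  have hciI : c⁻¹ ∈ I ∧ c⁻¹ • a = a :=
    ⟨by show c⁻¹ * c⁻¹ = u; rw [← mul_inv_rev, hcc, inv_eq_of_mul_eq_one_right hu2],
      inv_smul_eq_iff.2 hca.symm⟩
  have hroots : ∀ q, q * q = u → q • a = a → q = c ∨ q = c⁻¹ := fun q hq hqa =>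
    (Set.eq_of_subset_of_ncard_le (s := ({c, c⁻¹} : Set G)) (t := {q ∈ I | q • a = a})
      (by rintro _ (rfl | rfl); exacts [⟨hc, hca⟩, hciI])
      (by rw [hIa, Set.ncard_pair hcne])).symm.subset ⟨hq, hqa⟩
  have hvC : v ∈ centralizer ({u} : Set G) :=
    mem_centralizer_singleton_iff.2 (hS.four_comm hab hv hu).eq
  -- an element of `G_a` centralising `V` with square in `V` lies in `V`
  have hCV : ∀ y : G, y • a = a → (∀ x ∈ V, Commute y x) → y * y ∈ V → y ∈ V := by
    intro y hya hyc hy2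
    rcases eq_or_ne (y • b) b with hyb | hyb
    · exact hS.mem_four_of_commute hab hu hu1 (mem_pair.2 ⟨hya, hyb⟩) (hyc u hu)
    · exfalso
      set d := y • b
      have hdX : d ∈ fixS Ω V := fun x hx => by
        rw [← mul_smul, ← (hyc x hx).eq, mul_smul, (hS.four_le hab hx).2]
      have heq := hS.four_eq_of_fix hab hyb.symm (hS.mem_fixS_self hab).2 hdX
      obtain ⟨x, hx, hne⟩ := hS.noncentral_elem h hyb.symm (g := y) rfl
        (by rw [← mul_smul]; exact (hS.four_le hab hy2).2)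
      exact hne (hyc x (heq.le hx))
  have hvc : v * c * v⁻¹ = c⁻¹ := by
    refine (hroots _ (hIconj v hvC c hc) ?_).resolve_left fun e => ?_
    · rw [mul_smul, mul_smul, show v⁻¹ • a = a from (hS.four_le hab (inv_mem hv)).1, hca,
        (hS.four_le hab hv).1]
    have hcv : Commute c v := (mul_inv_eq_iff_eq_mul.1 e).symm
    have hcV : c ∈ V := hCV c hca (fun x hx => by
      rcases hS.four_cases hab hu hu1 hv hv1 hvu hx with e' | e' | e' | e' <;> rw [e']
      exacts [Commute.one_right c, hIu c hc, hcv, (hIu c hc).mul_right hcv]) (hcc ▸ hu)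
    exact hu1 (hcc ▸ hS.four_sq hab hcV)
  -- a Sylow 2-subgroup of `C(u) ∩ G_a` containing `c` and `v`
  set K := centralizer ({u} : Set G) ⊓ stabilizer G a with hK
  have hcK : c ∈ K := ⟨mem_centralizer_singleton_iff.2 (hIu c hc).eq, hca⟩
  have hvK : v ∈ K := ⟨hvC, (hS.four_le hab hv).1⟩
  have hpc : IsPGroup 2 (zpowers (⟨c, hcK⟩ : K)) := IsPGroup.of_card (n := 2) (by
    rw [Nat.card_zpowers, Subgroup.orderOf_mk]
    refine orderOf_eq_prime_pow (n := 1) ?_ ?_
    · rw [pow_one, pow_two, hcc]; exact hu1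
    · rw [show 2 ^ (1 + 1) = 2 + 2 by norm_num, pow_add, pow_two, hcc, hu2])
  have hpv : IsPGroup 2 (zpowers (⟨v, hvK⟩ : K)) := IsPGroup.of_card (n := 1) (by
    rw [Nat.card_zpowers, Subgroup.orderOf_mk, orderOf_two (hS.four_sq hab hv) hv1]; norm_num)
  have hnorm : zpowers (⟨v, hvK⟩ : K) ≤ normalizer (zpowers (⟨c, hcK⟩ : K) : Set K) := by
    rw [zpowers_le]
    refine PGroup.mem_normalizer_of_map_conj_eq ?_
    rw [MonoidHom.map_zpowers, show (MulAut.conj (⟨v, hvK⟩ : K)).toMonoidHom ⟨c, hcK⟩ = (⟨c, hcK⟩ : K)⁻¹ from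
      Subtype.ext hvc, zpowers_inv]
  obtain ⟨S, hle⟩ := (IsPGroup.to_sup_of_normal_right' hpv hpc hnorm).exists_le_sylow
  have hcS : (⟨c, hcK⟩ : K) ∈ (S : Subgroup K) := hle (mem_sup_right (mem_zpowers _))
  have hvS : (⟨v, hvK⟩ : K) ∈ (S : Subgroup K) := hle (mem_sup_left (mem_zpowers _))
  have huK : u ∈ K := ⟨mem_centralizer_singleton_iff.2 rfl, haF⟩
  have huS : (⟨u, huK⟩ : K) ∈ (S : Subgroup K) := by
    have := mul_mem hcS hcS
    rwa [show (⟨c, hcK⟩ : K) * ⟨c, hcK⟩ = ⟨u, huK⟩ from Subtype.ext hcc] at this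
  have hval : Function.Injective fun x : (S : Subgroup K) => ((x : K) : G) :=
    fun x y e => Subtype.ext (Subtype.ext e)
  have hdih : ∃ n, 2 ≤ n ∧ Nonempty ((S : Subgroup K) ≃* DihedralGroup n) := by
    refine dihedral_of_square S.2 (u := ⟨⟨u, huK⟩, huS⟩) (v := ⟨⟨v, hvK⟩, hvS⟩) (c := ⟨⟨c, hcK⟩, hcS⟩)
      (hval hu2) (fun e => hu1 (congrArg (fun x : (S : Subgroup K) => ((x : K) : G)) e))
      (hval (hS.four_sq hab hv)) (hval hcc) (hval hvc) (fun y hy => ?_) (fun y hy => ?_)
      (fun y => hval (mem_centralizer_singleton_iff.1 (y : K).2.1))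
    · set y' : G := ((y : K) : G)
      have hyu : Commute y' u := mem_centralizer_singleton_iff.1 (y : K).2.1
      have hyv : Commute y' v := congrArg (fun x : (S : Subgroup K) => ((x : K) : G)) hy.eq
      have hya : y' • a = a := (y : K).2.2
      have hcent : ∀ {z : G}, Commute z u → Commute z v → ∀ x ∈ V, Commute z x := fun h1 h2 x hx => by
        rcases hS.four_cases hab hu hu1 hv hv1 hvu hx with e' | e' | e' | e' <;> rw [e']
        exacts [Commute.one_right _, h1, h2, h1.mul_right h2]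
      have hmem : y' ∈ V := by
        obtain ⟨j, hj⟩ := S.2 y
        have key : ∀ (j : ℕ) (z : G), z • a = a → Commute z u → Commute z v → z ^ 2 ^ j = 1 → z ∈ V := by
          intro j
          induction j with
          | zero => intro z _ _ _ hz; rw [pow_zero, pow_one] at hz; rw [hz]; exact one_mem V
          | succ j ih =>
            intro z hza hzu hzv hz
            refine hCV z hza (hcent hzu hzv) (ih (z * z) ?_ (hzu.mul_left hzu) (hzv.mul_left hzv) ?_)
            · rw [mul_smul, hza, hza]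
            · rw [← pow_two, ← pow_mul, ← pow_succ', hz]
        exact key j y' hya hyu hyv (congrArg (fun x : (S : Subgroup K) => ((x : K) : G)) hj)
      rcases hS.four_cases hab hu hu1 hv hv1 hvu hmem with e | e | e | e
      · exact Or.inl (hval e)
      · exact Or.inr (Or.inl (hval e))
      · exact Or.inr (Or.inr (Or.inl (hval e)))
      · exact Or.inr (Or.inr (Or.inr (hval e)))
    · exact (hroots _ (congrArg (fun x : (S : Subgroup K) => ((x : K) : G)) hy) (y : K).2.2).imp
        (fun e => hval e) (fun e => hval e)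
  -- it is a Sylow subgroup of `G`
  have hcardK : Nat.card K = (f - 1) * 4 := hS.card_centralizer_stabilizer hu1 hab hu
  have hcardG := hS.card_group hab
  obtain ⟨k, hk⟩ : ∃ k, f = 2 * k + 1 := ⟨f / 2, by omega⟩
  have hn' : Nat.card Ω - 1 = 2 * k * (4 * k + 3) := by
    have e : Nat.card Ω = 2 * k * (4 * k + 3) + 1 := by
      rw [hdeg, hk, show 2 * (2 * k + 1) - 1 = 4 * k + 1 by omega]; ring
    omega
  rw [hn', hdeg, hk, show 2 * (2 * k + 1) - 1 = 4 * k + 1 by omega] at hcardG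
  rw [hk, show 2 * k + 1 - 1 = 2 * k by omega] at hcardK
  have h8 : 8 ∣ Nat.card G := ⟨(2 * k + 1) * (4 * k + 1) * k * (4 * k + 3) * 3, by rw [hcardG]; ring⟩
  obtain ⟨T, hT⟩ := (S.2.map K.subtype).exists_le_sylow
  have hTS : Nat.card (T : Subgroup G) = Nat.card (S : Subgroup K) := by
    rw [T.card_eq_multiplicity, S.card_eq_multiplicity]
    congr 1
    rw [hcardG, show (2 * k + 1) * (4 * k + 1) * (2 * k * (4 * k + 3) * 12) =
      ((2 * k + 1) * (4 * k + 1) * (4 * k + 3) * 3) * Nat.card K by rw [hcardK]; ring]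
    rw [Nat.factorization_mul (by positivity) Nat.card_pos.ne', Finsupp.add_apply,
      Nat.factorization_eq_zero_of_not_dvd fun h2 => ?_, zero_add]
    simp only [Nat.prime_two.dvd_mul] at h2
    omega
  have hTeq : ((S : Subgroup K).map K.subtype) = (T : Subgroup G) :=
    Subgroup.eq_of_le_of_card_ge hT (by rw [hTS, Subgroup.card_map_of_injective K.subtype_injective])
  have hD : GW.DihedralTwo G := fun T' => by
    obtain ⟨m, hm, ⟨e⟩⟩ := hdih
    exact ⟨m, hm, ⟨(T'.equiv T).trans ((MulEquiv.subgroupCongr hTeq.symm).trans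
      (((S : Subgroup K).equivMapOfInjective K.subtype K.subtype_injective).symm.trans e))⟩⟩
  -- the odd core
  haveI : Nontrivial Ω := ⟨a, b, hab⟩
  have hO : Cfsg.oddCore G = ⊥ := by
    refine oddCore_eq_bot_of_degree hS.h2 fun hpp => ?_
    rw [hdeg] at hpp
    obtain ⟨p, j, hp, -, hpj⟩ := hpp
    have hp' : p.Prime := Nat.prime_iff.2 hp
    obtain ⟨i, -, hi⟩ := (Nat.dvd_prime_pow hp').1 (hpj.symm ▸ dvd_mul_right f (2 * f - 1))
    obtain ⟨i', -, hi'⟩ := (Nat.dvd_prime_pow hp').1 (hpj.symm ▸ dvd_mul_left (2 * f - 1) f)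
    have hi0 : i ≠ 0 := fun e => by rw [e, pow_zero] at hi; omega
    have hi'0 : i' ≠ 0 := fun e => by rw [e, pow_zero] at hi'; omega
    have h1 : p ∣ 2 * f := Dvd.dvd.mul_left (hi ▸ dvd_pow_self p hi0) 2
    have h2 : p ∣ 2 * f - 1 := hi' ▸ dvd_pow_self p hi'0
    have h3 : p ∣ 1 := by
      have := Nat.dvd_sub h1 h2
      rwa [show 2 * f - (2 * f - 1) = 1 by omega] at this
    exact hp'.not_dvd_one h3
  obtain ⟨E, hE, hcase⟩ := sq_bound hD h8 hO hone
  have huo : orderOf u = 2 := orderOf_two hu2 hu1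
  rcases hcase with hb | ⟨⟨ψ⟩, hinv⟩
  · exfalso
    have hsub : I ⊆ {q | q ∈ E ∧ q * q = u} := fun q hq => by
      have hq' : IsPGroup 2 (zpowers q) := IsPGroup.of_card (n := 2) (by
        rw [Nat.card_zpowers]
        refine orderOf_eq_prime_pow (n := 1) ?_ ?_
        · rw [pow_one, pow_two, (hq : q * q = u)]; exact hu1
        · rw [show 2 ^ (1 + 1) = 2 + 2 by norm_num, pow_add, pow_two, (hq : q * q = u), hu2])
      obtain ⟨Tq, hTq⟩ := hq'.exists_le_sylow
      exact ⟨hE u huo q hq Tq (hTq (mem_zpowers q)), hq⟩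
    have := (Set.ncard_le_ncard hsub).trans (hb u huo)
    rw [hIcard, ← hfdef] at this
    omega
  · have hcount := invol_mul_centralizer hone huo
    rw [hinv, hS.card_centralizer (hS.four_inU hab hu hu1), ← hfdef, hcardG, hk,
      show 2 * k + 1 - 1 = 2 * k by omega] at hcount
    have hk0 : 0 < k := by omega
    have : (4 * k + 1) * (4 * k + 3) = 35 := by
      refine Nat.eq_of_mul_eq_mul_right (show 0 < (2 * k + 1) * (2 * k) * 12 by positivity) ?_
      linarith [hcount]
    have hk1 : k = 1 := by nlinarith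
    subst hk1
    refine ⟨by rw [hdeg, hk], ⟨MulEquiv.trans ?_ ψ⟩⟩
    refine (Subgroup.topEquiv.symm.trans (MulEquiv.subgroupCongr ?_))
    symm
    refine Subgroup.eq_top_of_card_eq E ?_
    rw [Nat.card_congr ψ.toEquiv, nat_card_alternatingGroup, Nat.card_fin, hcardG]
    decide

end Setup

end Cfsg.Agent.TwoTransA4
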