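import Cfsg.Agent.Lib.TwoTransA4.Swap

/-!
# Degree 16: the involutions without fixed points form a regular group

The fixed-point sets of the four-groups are the lines of an affine plane of order 4.
-/

set_option autoImplicit false
set_option maxHeartbeats 400000
set_option linter.style.haveILetI false
set_option linter.unusedSectionVars false

namespace Cfsg.Agent.TwoTransA4

open Subgroup MulAction

variable {G : Type*} [Group G] {Ω : Type*} [MulAction G Ω]

/-- The line through two points. -/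
def line (G : Type*) [Group G] {Ω : Type*} [MulAction G Ω] (c d : Ω) : Set Ω := fixS Ω (four G c d)

/-- The involutions that do not fix two points. -/
def I0 (G : Type*) [Group G] (Ω : Type*) [MulAction G Ω] : Set G := {t | t * t = 1 ∧ t ≠ 1 ∧ ¬ InU Ω t}

theorem four_symm (c d : Ω) : four G c d = four G d c := by
  unfold four pair
  rw [inf_comm]

theorem line_symm (c d : Ω) : line G c d = line G d c := by rw [line, four_symm, line]

variable [Finite G] [Finite Ω] [FaithfulSMul G Ω]

/-- The hypotheses in degree 16. -/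
structure Plane (G : Type*) [Group G] (Ω : Type*) [MulAction G Ω] : Prop where
  setup : Setup G Ω
  card : Nat.card Ω = 16
  central : ¬ SCase G Ω
  ncard_line : ∀ c d : Ω, c ≠ d → (fixS Ω (four G c d)).ncard = 4
  ncard_lam : ∀ c d : Ω, c ≠ d → {t : G | InU Ω t ∧ t • c = d}.ncard = 3

namespace Plane

variable (hP : Plane G Ω)
include hP

theorem left_mem {c d : Ω} (h : c ≠ d) : c ∈ line G c d := (hP.setup.mem_fixS_self h).1

theorem right_mem {c d : Ω} (h : c ≠ d) : d ∈ line G c d := (hP.setup.mem_fixS_self h).2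

theorem line_eq {c d e e' : Ω} (h : c ≠ d) (he : e ∈ line G c d) (he' : e' ∈ line G c d) (hne : e ≠ e') :
    line G e e' = line G c d := by
  unfold line
  rw [hP.setup.four_eq_of_fix h hne he he']

/-- Two lines with two common points coincide. -/
theorem line_unique {c d c' d' e e' : Ω} (h : c ≠ d) (h' : c' ≠ d') (hne : e ≠ e')
    (he : e ∈ line G c d) (he' : e' ∈ line G c d) (hf : e ∈ line G c' d') (hf' : e' ∈ line G c' d') :
    line G c d = line G c' d' := (hP.line_eq h he he' hne).symm.trans (hP.line_eq h' hf hf' hne)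

theorem smul_mem_line {c d e : Ω} (h : c ≠ d) (g : G) (he : e ∈ line G c d) :
    g • e ∈ line G (g • c) (g • d) := by
  intro x hx
  have h1 := hP.setup.conj_mem_four (fun e' => h (smul_left_cancel g e')) g⁻¹ hx
  rw [inv_smul_smul, inv_smul_smul, inv_inv] at h1
  have h2 := he _ h1
  rwa [mul_smul, mul_smul, inv_smul_eq_iff] at h2

theorem sq {t : G} (ht : t ∈ I0 G Ω) : t * t = 1 := ht.1

theorem fpf {t : G} (ht : t ∈ I0 G Ω) (c : Ω) : t • c ≠ c := fun e => by
  have h := ncard_fix_of_not_inU (Ω := Ω) ht.1 ht.2.1 ht.2.2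
  rw [hP.card] at h
  have h2 : 0 < (fixE Ω t).ncard := (Set.ncard_pos (Set.toFinite (fixE Ω t))).2 ⟨c, e⟩
  omega

theorem mem_I0 {t : G} (h2 : t * t = 1) (h1 : t ≠ 1) (hf : ∀ c : Ω, t • c ≠ c) : t ∈ I0 G Ω :=
  ⟨h2, h1, fun ⟨_, _, c, _, _, hc, _⟩ => hf c hc⟩

theorem exists_map {c d : Ω} (h : c ≠ d) : ∃ t ∈ I0 G Ω, t • c = d := by
  have hn := hP.setup.ncard_nonU hP.central h
  rw [hP.ncard_lam c d h] at hn
  obtain ⟨t, h2, h1, hU, ht⟩ := Set.nonempty_of_ncard_ne_zero (by rw [hn]; omega :
    {t : G | t * t = 1 ∧ t ≠ 1 ∧ ¬ InU Ω t ∧ t • c = d}.ncard ≠ 0)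
  exact ⟨t, ⟨h2, h1, hU⟩, ht⟩

theorem map_unique {t t' : G} (ht : t ∈ I0 G Ω) (ht' : t' ∈ I0 G Ω) {c : Ω} (h : t • c = t' • c) : t = t' := by
  have hne : c ≠ t • c := (hP.fpf ht c).symm
  have hn := hP.setup.ncard_nonU hP.central hne
  rw [hP.ncard_lam c (t • c) hne] at hn
  obtain ⟨x, hx⟩ := Set.ncard_eq_one.1 hn
  rw [Set.eq_singleton_iff_unique_mem] at hx
  rw [hx.2 t ⟨ht.1, ht.2.1, ht.2.2, rfl⟩, hx.2 t' ⟨ht'.1, ht'.2.1, ht'.2.2, h.symm⟩]

theorem conj_mem {t : G} (ht : t ∈ I0 G Ω) (g : G) : g * t * g⁻¹ ∈ I0 G Ω :=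
  ⟨by rw [show g * t * g⁻¹ * (g * t * g⁻¹) = g * (t * t) * g⁻¹ by group, ht.1]; group,
    fun e => ht.2.1 (conj_eq_one_iff.1 e), fun h => ht.2.2 ((inU_conj_iff g).2 h)⟩

theorem inv_smul {t : G} (ht : t ∈ I0 G Ω) (c : Ω) : t • t • c = c := by rw [← mul_smul, ht.1, one_smul]

/-- The image of a line under a fixed-point-free involution is that line or disjoint from it. -/
theorem image_eq_or_disjoint {t : G} (ht : t ∈ I0 G Ω) {c d e : Ω} (h : c ≠ d) (he : e ∈ line G c d)
    (he' : t • e ∈ line G c d) {x : Ω} (hx : x ∈ line G c d) : t • x ∈ line G c d := by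
  have h' : t • c ≠ t • d := fun e' => h (smul_left_cancel t e')
  have hi := hP.inv_smul ht e
  rw [hP.line_unique h h' (hP.fpf ht e).symm he he' (hi ▸ hP.smul_mem_line h t he') (hP.smul_mem_line h t he)]
  exact hP.smul_mem_line h t hx

/-- Invariant lines are disjoint or equal. -/
theorem invariant_disjoint {t : G} (ht : t ∈ I0 G Ω) {c d c' d' e : Ω} (h : c ≠ d) (h' : c' ≠ d')
    (hi : ∀ x ∈ line G c d, t • x ∈ line G c d) (hi' : ∀ x ∈ line G c' d', t • x ∈ line G c' d')
    (he : e ∈ line G c d) (he' : e ∈ line G c' d') : line G c d = line G c' d' :=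
  hP.line_unique h h' (hP.fpf ht e).symm he (hi e he) he' (hi' e he')

theorem line_invariant {t : G} (ht : t ∈ I0 G Ω) (c : Ω) {x : Ω} (hx : x ∈ line G c (t • c)) :
    t • x ∈ line G c (t • c) := by
  have h := hP.smul_mem_line (hP.fpf ht c).symm t hx
  rwa [hP.inv_smul ht, line_symm] at h

/-- Parallels are unique. -/
theorem parallel_unique {c d e p q : Ω} (h : c ≠ d) (he : e ∉ line G c d) (hp : e ≠ p) (hq : e ≠ q)
    (hdp : Disjoint (line G e p) (line G c d)) (hdq : Disjoint (line G e q) (line G c d)) :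
    line G e p = line G e q := by
  classical
  haveI := Fintype.ofFinite Ω
  set L := (line G c d).toFinset
  have hne : ∀ x ∈ L, e ≠ x := fun x hx e' => he (e' ▸ Set.mem_toFinset.1 hx)
  set D : Ω → Finset Ω := fun x => (line G e x).toFinset.erase e
  have hD : ∀ x, e ≠ x → (D x).card = 3 := fun x hx => by
    rw [Finset.card_erase_of_mem (Set.mem_toFinset.2 (hP.left_mem hx)), ← Set.ncard_eq_toFinset_card']
    show (fixS Ω (four G e x)).ncard - 1 = 3
    rw [hP.ncard_line e x hx]
  have hdis : (L : Set Ω).PairwiseDisjoint D := by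
    intro x hx y hy hxy
    rw [Function.onFun, Finset.disjoint_left]
    intro z hz hz'
    simp only [D, Finset.mem_erase, Set.mem_toFinset] at hz hz'
    have hxL := Set.mem_toFinset.1 hx
    have hyL := Set.mem_toFinset.1 hy
    have heq := hP.line_unique (hne x hx) (hne y hy) (Ne.symm hz.1) (hP.left_mem (hne x hx)) hz.2
      (hP.left_mem (hne y hy)) hz'.2
    have := hP.line_unique (hne x hx) h hxy (hP.right_mem (hne x hx)) (heq ▸ hP.right_mem (hne y hy)) hxL hyL
    exact he (this ▸ hP.left_mem (hne x hx))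
  have hU : (L.biUnion D).card = 12 := by
    rw [Finset.card_biUnion hdis, Finset.sum_congr rfl fun x hx => hD x (hne x hx), Finset.sum_const,
      ← Set.ncard_eq_toFinset_card']
    show (fixS Ω (four G c d)).ncard • 3 = 12
    rw [hP.ncard_line c d h]; rfl
  set C := Finset.univ.erase e \ L.biUnion D
  have hC : C.card = 3 := by
    rw [Finset.card_sdiff_of_subset, hU, Finset.card_erase_of_mem (Finset.mem_univ e), Finset.card_univ,
      ← Nat.card_eq_fintype_card, hP.card]
    intro z hz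
    obtain ⟨x, -, hz⟩ := Finset.mem_biUnion.1 hz
    exact Finset.mem_erase.2 ⟨(Finset.mem_erase.1 hz).1, Finset.mem_univ z⟩
  have hsub : ∀ {r}, e ≠ r → Disjoint (line G e r) (line G c d) → D r = C := by
    intro r hr hd'
    refine Finset.eq_of_subset_of_card_le (fun z hz => ?_) (by rw [hC, hD r hr])
    have hz0 := hz
    simp only [D, Finset.mem_erase, Set.mem_toFinset] at hz
    refine Finset.mem_sdiff.2 ⟨Finset.mem_erase.2 ⟨hz.1, Finset.mem_univ z⟩, fun hzU => ?_⟩
    obtain ⟨x, hx, hzx⟩ := Finset.mem_biUnion.1 hzU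
    simp only [D, Finset.mem_erase, Set.mem_toFinset] at hzx
    have heq := hP.line_unique hr (hne x hx) (Ne.symm hz.1) (hP.left_mem hr) hz.2 (hP.left_mem (hne x hx)) hzx.2
    exact Set.disjoint_left.1 hd' (heq ▸ hP.right_mem (hne x hx)) (Set.mem_toFinset.1 hx)
  obtain ⟨z, hz⟩ := Finset.card_pos.1 (hD p hp ▸ Nat.succ_pos 2 : 0 < (D p).card)
  have hz' : z ∈ D q := by rw [hsub hq hdq, ← hsub hp hdp]; exact hz
  simp only [D, Finset.mem_erase, Set.mem_toFinset] at hz hz'
  exact hP.line_unique hp hq (Ne.symm hz.1) (hP.left_mem hp) hz.2 (hP.left_mem hq) hz'.2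

/-- Translations in different directions commute. -/
theorem commute_of_not_mem {t t' : G} (ht : t ∈ I0 G Ω) (ht' : t' ∈ I0 G Ω) {c : Ω}
    (h : t' • c ∉ line G c (t • c)) : Commute t t' := by
  have h1 : c ≠ t • c := (hP.fpf ht c).symm
  have h2 : c ≠ t' • c := (hP.fpf ht' c).symm
  have h3 : t • c ∉ line G c (t' • c) := fun hm =>
    h (hP.line_eq h2 (hP.left_mem h2) hm h1 ▸ hP.right_mem h2)
  -- the line through `s • c` invariant under `r` is the image of the line `c (r • c)`
  have key : ∀ {r s : G}, r ∈ I0 G Ω → s ∈ I0 G Ω → s • c ∉ line G c (r • c) →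
      s • (r • c) ∈ line G (s • c) (r • s • c) ∧
        Disjoint (line G (s • c) (r • s • c)) (line G c (r • c)) := by
    intro r s hr hs hn
    have hrc : c ≠ r • c := (hP.fpf hr c).symm
    have hne : s • c ≠ r • s • c := (hP.fpf hr _).symm
    have hd : Disjoint (line G (s • c) (r • s • c)) (line G c (r • c)) := by
      rw [Set.disjoint_left]
      intro z hz hz'
      have := hP.invariant_disjoint hr hne hrc (fun x hx => hP.line_invariant hr _ hx)
        (fun x hx => hP.line_invariant hr _ hx) hz hz'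
      exact hn (this ▸ hP.left_mem hne)
    have hne' : s • c ≠ s • (r • c) := fun e => hrc (smul_left_cancel s e)
    have hd' : Disjoint (line G (s • c) (s • (r • c))) (line G c (r • c)) := by
      rw [Set.disjoint_left]
      intro z hz hz'
      have hzs : s • z ∈ line G c (r • c) := by
        have := hP.smul_mem_line hne' s hz
        rwa [hP.inv_smul hs, hP.inv_smul hs] at this
      exact hn (hP.image_eq_or_disjoint hs hrc hz' hzs (hP.left_mem hrc))
    rw [hP.parallel_unique hrc hn hne hne' hd hd']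
    exact ⟨hP.right_mem hne', hd'⟩
  obtain ⟨k1, d1⟩ := key ht ht' h
  obtain ⟨k2, d2⟩ := key ht' ht h3
  have hn1 : t' • c ≠ t • t' • c := (hP.fpf ht _).symm
  have hn2 : t • c ≠ t' • t • c := (hP.fpf ht' _).symm
  have heq : t • t' • c = t' • t • c := by
    by_contra hne
    have := hP.line_unique hn1 hn2 hne (hP.right_mem hn1) k1 k2 (hP.right_mem hn2)
    exact Set.disjoint_left.1 d1 (this ▸ hP.left_mem hn2) (hP.right_mem h1)
  have hu := hP.map_unique (hP.conj_mem ht' t) ht' (c := t • c) (by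
    rw [inv_eq_of_mul_eq_one_right ht.1, mul_smul, mul_smul, hP.inv_smul ht, heq])
  exact mul_inv_eq_iff_eq_mul.1 hu

theorem mul_mem_of_commute {t t' : G} (ht : t ∈ I0 G Ω) (ht' : t' ∈ I0 G Ω) (hne : t ≠ t')
    (hc : Commute t t') : t * t' ∈ I0 G Ω := by
  refine hP.mem_I0 (by rw [hc.symm.mul_mul_mul_comm, ht.1, ht'.1, one_mul]) (fun e => hne ?_)
    fun c e => hne ?_
  · rw [eq_inv_of_mul_eq_one_left e, inv_eq_of_mul_eq_one_right ht'.1]
  · refine (hP.map_unique ht' ht (c := c) ?_).symm
    rw [mul_smul] at e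
    conv_rhs => rw [← e, hP.inv_smul ht]

theorem commute {t t' : G} (ht : t ∈ I0 G Ω) (ht' : t' ∈ I0 G Ω) : Commute t t' := by
  haveI := hP.setup.pretransitive
  obtain ⟨c⟩ : Nonempty Ω := (Nat.card_pos_iff.1 (by rw [hP.card]; norm_num : 0 < Nat.card Ω)).1
  by_cases h : t' • c ∉ line G c (t • c)
  · exact hP.commute_of_not_mem ht ht' h
  rw [not_not] at h
  have h1 : c ≠ t • c := (hP.fpf ht c).symm
  obtain ⟨x, hx⟩ : ∃ x, x ∉ line G c (t • c) := by
    by_contra hall
    push Not at hall
    have := hP.ncard_line c (t • c) h1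
    rw [show fixS Ω (four G c (t • c)) = Set.univ from Set.eq_univ_of_forall hall, Set.ncard_univ,
      hP.card] at this
    omega
  obtain ⟨s, hs, hsx⟩ := hP.exists_map (c := c) (d := x) fun e => hx (e ▸ hP.left_mem h1)
  subst hsx
  have hts : Commute t s := hP.commute_of_not_mem ht hs hx
  have heq : line G c (t' • c) = line G c (t • c) :=
    hP.line_eq h1 (hP.left_mem h1) h (hP.fpf ht' c).symm
  have ht's : Commute t' s := hP.commute_of_not_mem ht' hs (heq ▸ hx)
  have hne : t' ≠ s := fun e => hx (e ▸ h)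
  have hmul := hP.mul_mem_of_commute ht' hs hne ht's
  have hout : (t' * s) • c ∉ line G c (t • c) := by
    rw [ht's.eq, mul_smul]
    intro hm
    exact hx (hP.image_eq_or_disjoint hs h1 h hm (hP.left_mem h1))
  have := (hP.commute_of_not_mem ht hmul hout).mul_right hts
  rwa [mul_assoc, hs.1, mul_one] at this

/-- The regular normal subgroup. -/
theorem exists_regular : ∃ R : Subgroup G, R.Normal ∧ (∀ x ∈ R, x * x = 1) ∧
    (∀ x ∈ R, ∀ y ∈ R, Commute x y) ∧ (∀ x ∈ R, x ≠ 1 → ∀ c : Ω, x • c ≠ c) ∧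
    ∀ c d : Ω, ∃ x ∈ R, x • c = d := by
  refine ⟨{ carrier := {x | x = 1 ∨ x ∈ I0 G Ω}
            one_mem' := Or.inl rfl
            mul_mem' := ?_
            inv_mem' := ?_ }, ?_, ?_, ?_, ?_, ?_⟩
  · rintro x y (rfl | hx) hy
    · rwa [one_mul]
    rcases hy with rfl | hy
    · rw [mul_one]; exact Or.inr hx
    rcases eq_or_ne x y with rfl | hne
    · exact Or.inl hx.1
    · exact Or.inr (hP.mul_mem_of_commute hx hy hne (hP.commute hx hy))
  · rintro x (rfl | hx)
    · exact Or.inl inv_one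
    · exact Or.inr (by rw [inv_eq_of_mul_eq_one_right hx.1]; exact hx)
  · refine ⟨fun x hx g => ?_⟩
    rcases hx with rfl | hx
    · exact Or.inl (by group)
    · exact Or.inr (hP.conj_mem hx g)
  · rintro x (rfl | hx)
    · exact one_mul 1
    · exact hx.1
  · rintro x (rfl | hx) y (rfl | hy)
    exacts [Commute.one_left _, Commute.one_left _, Commute.one_right _, hP.commute hx hy]
  · rintro x (rfl | hx) h
    · exact absurd rfl h
    · exact hP.fpf hx
  · intro c d
    rcases eq_or_ne c d with rfl | h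
    · exact ⟨1, Or.inl rfl, one_smul G c⟩
    · obtain ⟨t, ht, htc⟩ := hP.exists_map h
      exact ⟨t, Or.inr ht, htc⟩

end Plane

end Cfsg.Agent.TwoTransA4
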