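import Cfsg.Agent.Lib.TwoTransA4.Swap
import Cfsg.Agent.Lib.Perm.Basic

/-!
# Degree 28 is impossible; degree 6
-/

set_option autoImplicit false
set_option maxHeartbeats 400000
set_option linter.style.haveILetI false
set_option linter.unusedSectionVars false

namespace Cfsg.Agent.TwoTransA4

open Subgroup MulAction

variable {G : Type*} [Group G] {Ω : Type*} [MulAction G Ω] [Finite G] [Finite Ω] [FaithfulSMul G Ω]

theorem dvd_card_of_normal [Nontrivial Ω] (h2 : IsMultiplyPretransitive G Ω 2) {N : Subgroup G} [N.Normal]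
    (hN : N ≠ ⊥) : Nat.card Ω ∣ Nat.card N := by
  haveI : IsPreprimitive G Ω := isPreprimitive_of_is_two_pretransitive h2
  haveI : IsPretransitive N Ω := Perm.isPretransitive_of_normal hN
  obtain ⟨c, -⟩ := exists_pair_ne Ω
  exact ⟨Nat.card (stabilizer N c),
    by rw [← index_stabilizer_of_transitive (G := N) c, Subgroup.index_mul_card]⟩

theorem divisor_cases {d : ℕ} (hd : d ∣ 1296) (h4 : ¬ 4 ∣ d) :
    d = 1 ∨ d = 3 ∨ d = 9 ∨ d = 27 ∨ d = 81 ∨ d = 2 ∨ d = 6 ∨ d = 18 ∨ d = 54 ∨ d = 162 := by
  have key : ∀ e, e ∣ 1296 → ¬ 2 ∣ e → e = 1 ∨ e = 3 ∨ e = 9 ∨ e = 27 ∨ e = 81 := by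
    intro e he h2
    have hcop : e.Coprime (2 ^ 4) := Nat.Coprime.pow_right 4
      ((Nat.prime_two.coprime_iff_not_dvd.2 h2).symm)
    have h81 : e ∣ 3 ^ 4 := hcop.dvd_of_dvd_mul_left (by norm_num; exact he)
    obtain ⟨i, hi, rfl⟩ := (Nat.dvd_prime_pow Nat.prime_three).1 h81
    interval_cases i <;> simp
  by_cases h : 2 ∣ d
  · obtain ⟨e, rfl⟩ := h
    rcases key e ((dvd_mul_left e 2).trans hd) (fun h' => h4 (Nat.mul_dvd_mul_left 2 h')) with
      e' | e' | e' | e' | e' <;> subst e' <;> simp
  · rcases key d hd h with e' | e' | e' | e' | e' <;> subst e' <;> simp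

namespace Setup

variable (hS : Setup G Ω)
include hS

theorem false_degree_28 {u : G} {a b : Ω} (hu1 : u ≠ 1) (hab : a ≠ b) (hu : u ∈ four G a b)
    (hn : Nat.card Ω = 28) (hf : (fixE Ω u).ncard = 4)
    (hl : {t : G | InU Ω t ∧ t • a = b}.ncard = 6) : False := by
  classical
  haveI : Fact (Nat.Prime 7) := ⟨by norm_num⟩
  haveI : Nontrivial Ω := ⟨a, b, hab⟩
  haveI := hS.pretransitive
  have hSC : SCase G Ω := by
    by_contra h
    rcases hS.lam_cases h hab with e | e | e <;> omega
  have hG : Nat.card G = 9072 := by rw [hS.card_group hab, hn]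
  obtain ⟨P⟩ : Nonempty (Sylow 7 G) := inferInstance
  have hP : Nat.card (P : Subgroup G) = 7 := by
    rw [P.card_eq_multiplicity, hG]
    rw [show (9072 : ℕ) = 1296 * 7 ^ 1 by norm_num, Nat.factorization_mul (by norm_num) (by norm_num),
      Finsupp.add_apply, Nat.factorization_eq_zero_of_not_dvd (by norm_num : ¬ 7 ∣ 1296), zero_add,
      Nat.Prime.factorization_pow (by norm_num), Finsupp.single_eq_same]
    norm_num
  haveI : IsCyclic (P : Subgroup G) := isCyclic_of_prime_card hP
  obtain ⟨⟨x, hxP⟩, hxg⟩ := IsCyclic.exists_generator (α := (P : Subgroup G))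
  have hxo : orderOf x = 7 := by
    rw [← hP, ← orderOf_eq_card_of_forall_mem_zpowers hxg, Subgroup.orderOf_mk]
  have hx7 : x ^ 7 = 1 := hxo ▸ pow_orderOf_eq_one x
  -- no fixed points
  have hfree : ∀ c : Ω, x • c ≠ c := by
    intro c hc
    obtain ⟨d, hd⟩ := exists_ne c
    have h := Subgroup.orderOf_dvd_natCard (stabilizer G c) (mem_stabilizer_iff.2 hc)
    rw [hxo, hS.card_stabilizer hd.symm, hn] at h
    norm_num at h
  -- odd centraliser
  have hCodd : ∀ t : G, t * t = 1 → Commute t x → t = 1 := by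
    intro t ht htx
    by_contra ht1
    obtain ⟨c, hc⟩ : ∃ c : Ω, t • c ≠ c := by
      by_contra h
      push Not at h
      exact ht1 (Perm.eq_one_of_forall_smul_eq h)
    have htU := (hS.case_S hSC hc.symm).2 t ⟨ht, rfl⟩
    have h4 : (fixE Ω t).ncard = 4 := by rw [hS.ncard_fixE_eq htU (hS.four_inU hab hu hu1), hf]
    obtain ⟨d, hd⟩ := Set.nonempty_of_ncard_ne_zero (show (fixE Ω t).ncard ≠ 0 by omega)
    -- the seven images of `d`
    have hsub : Set.range (fun i : Fin 7 => x ^ (i : ℕ) • d) ⊆ fixE Ω t := by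
      rintro _ ⟨i, rfl⟩
      exact smul_mem_fixE (htx.pow_right i).symm hd
    have hinj : Function.Injective (fun i : Fin 7 => x ^ (i : ℕ) • d) := by
      intro i j e
      by_contra hne
      wlog hij : (i : ℕ) < j generalizing i j
      · exact this e.symm (Ne.symm hne) (by omega)
      refine hfree d ?_
      set k := (j : ℕ) - i
      have hk : x ^ k • d = d := by
        simp only at e
        have : x ^ (i : ℕ) • (x ^ k • d) = x ^ (i : ℕ) • d := by
          rw [← mul_smul, ← pow_add, show (i : ℕ) + k = j by omega, ← e]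
        exact smul_left_cancel _ this
      have hkk : Nat.Coprime k 7 :=
        ((Nat.Prime.coprime_iff_not_dvd (by norm_num : Nat.Prime 7)).2 fun h => by
          have := Nat.le_of_dvd (by omega) h
          omega).symm
      obtain ⟨r, hr⟩ := exists_pow_eq_self_of_coprime (x := x) (n := k) (hxo.symm ▸ hkk)
      rw [← hr]
      exact (stabilizer G d).pow_mem hk r
    have h := Set.ncard_le_ncard hsub
    rw [Set.ncard_range_of_injective hinj, Nat.card_fin, h4] at h
    omega
  set C := centralizer ((P : Subgroup G) : Set G)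
  set N := normalizer ((P : Subgroup G) : Set G)
  have hC2 : ¬ 2 ∣ Nat.card C := by
    intro h
    haveI := Fact.mk Nat.prime_two
    obtain ⟨t, ht⟩ := exists_prime_orderOf_dvd_card' (G := C) 2 h
    rw [← Subgroup.orderOf_coe] at ht
    have := hCodd (t : G) (mul_self_of_orderOf ht) (mem_centralizer_iff.1 t.2 x hxP).symm
    rw [this, orderOf_one] at ht
    omega
  have hN4 : ¬ 4 ∣ Nat.card N := by
    intro h
    have hC : Nat.card C = Nat.card (Subgroup.normalizerMonoidHom (P : Subgroup G)).ker := by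
      rw [Subgroup.normalizerMonoidHom_ker]
      exact (Nat.card_congr (Subgroup.subgroupOfEquivOfLe (Subgroup.centralizer_le_normalizer _)).toEquiv).symm
    have h1 := Subgroup.card_mul_index (Subgroup.normalizerMonoidHom (P : Subgroup G)).ker
    rw [Subgroup.index_ker, ← hC] at h1
    have h2 : Nat.card (Subgroup.normalizerMonoidHom (P : Subgroup G)).range ∣ 6 := by
      refine (Subgroup.card_subgroup_dvd_card _).trans ?_
      rw [IsCyclic.card_mulAut, hP, Nat.totient_prime (by norm_num)]
    rw [← h1] at h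
    have h3 : 4 ∣ Nat.card (Subgroup.normalizerMonoidHom (P : Subgroup G)).range :=
      (Nat.Coprime.pow_left 2 (Nat.prime_two.coprime_iff_not_dvd.2 hC2) :
        Nat.Coprime (2 ^ 2) (Nat.card C)).dvd_of_dvd_mul_left h
    exact absurd (h3.trans h2) (by norm_num)
  obtain ⟨d, hd⟩ : 7 ∣ Nat.card N := hP ▸ Subgroup.card_dvd_of_le Subgroup.le_normalizer
  have hidx := Subgroup.index_mul_card N
  have hSyl : Nat.card (Sylow 7 G) = N.index := Sylow.card_eq_index_normalizer P
  have hmod : Nat.card (Sylow 7 G) % 7 = 1 := by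
    have := card_sylow_modEq_one 7 G
    rwa [Nat.ModEq, Nat.one_mod] at this
  rw [hG, hd] at hidx
  have hd' : d ∣ 1296 := ⟨N.index, by linarith⟩
  rcases divisor_cases hd' (fun h => hN4 (hd ▸ Dvd.dvd.mul_left h 7)) with
    e | e | e | e | e | e | e | e | e | e <;> subst e
  all_goals try omega
  · -- normal complement
    have hNP : N = (P : Subgroup G) :=
      (Subgroup.eq_of_le_of_card_ge Subgroup.le_normalizer (by rw [hd, hP])).symm
    have hle : N ≤ centralizer ((P : Subgroup G) : Set G) := by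
      rw [hNP]
      intro y hy
      refine mem_centralizer_iff.2 fun z hz => ?_
      exact congrArg Subtype.val ((IsCyclic.isMulCommutative (α := (P : Subgroup G))).is_comm.comm ⟨z, hz⟩ ⟨y, hy⟩)
    have hc := MonoidHom.ker_transferSylow_isComplement' P hle
    set K := (MonoidHom.transferSylow P hle).ker
    have hK : Nat.card K * 7 = 9072 := by rw [← hG, ← hP]; exact hc.card_mul_card
    have hKne : K ≠ ⊥ := fun e => by rw [e, Subgroup.card_bot] at hK; omega
    have h := dvd_card_of_normal (Ω := Ω) hS.h2 hKne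
    rw [hn, show Nat.card K = 1296 by omega] at h
    norm_num at h
  · -- eight Sylow subgroups
    have h8 : Nat.card (Sylow 7 G) = 8 := by omega
    set ψ := MulAction.toPermHom G (Sylow 7 G)
    have hker : ψ.ker ≤ N := fun y hy =>
      Sylow.smul_eq_iff_mem_normalizer.1 (Equiv.ext_iff.1 hy P)
    have hbot : ψ.ker = ⊥ := by
      by_contra hne
      have h := (dvd_card_of_normal (Ω := Ω) hS.h2 hne).trans (Subgroup.card_dvd_of_le hker)
      rw [hn, hd] at h
      norm_num at h
    have h := Subgroup.card_dvd_of_injective ψ ((MonoidHom.ker_eq_bot_iff ψ).1 hbot)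
    rw [hG, Nat.card_perm, h8] at h
    revert h; decide

theorem degree_six {a b : Ω} (hab : a ≠ b) (hn : Nat.card Ω = 6) :
    Nonempty (G ≃* alternatingGroup (Fin 6)) := by
  classical
  obtain ⟨e⟩ : Nonempty (Ω ≃ Fin 6) := ⟨Finite.equivFinOfCardEq hn⟩
  set ψ : G →* Equiv.Perm (Fin 6) := e.permCongrHom.toMonoidHom.comp (MulAction.toPermHom G Ω)
  have hψ : Function.Injective ψ := e.permCongrHom.injective.comp MulAction.toPerm_injective
  have hidx : ψ.range.index = 2 := by
    have h1 := ψ.range.card_mul_index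
    rw [Nat.card_congr (MonoidHom.ofInjective hψ).symm.toEquiv, hS.card_group hab, hn, Nat.card_perm,
      Nat.card_fin, show Nat.factorial 6 = 720 from rfl] at h1
    omega
  exact ⟨(MonoidHom.ofInjective hψ).trans
    (MulEquiv.subgroupCongr (Equiv.Perm.eq_alternatingGroup_of_index_eq_two hidx))⟩

end Setup

end Cfsg.Agent.TwoTransA4
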