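import Cfsg.Agent.Lib.TwoTransA4.Basic
import Cfsg.Agent.S0680

/-!
# The involutions exchanging two points, and the fixed-point numbers
-/

set_option autoImplicit false
set_option maxHeartbeats 400000
set_option linter.style.haveILetI false
set_option linter.unusedSectionVars false

namespace Cfsg.Agent.TwoTransA4

open Subgroup MulAction

variable {G : Type*} [Group G] {Ω : Type*} [MulAction G Ω]

/-- Some involution exchanging two points does not centralise their four-group. -/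
def SCase (G : Type*) [Group G] (Ω : Type*) [MulAction G Ω] : Prop :=
  ∃ (c d : Ω) (t x : G), c ≠ d ∧ t ∈ Sw G c d ∧ x ∈ four G c d ∧ ¬ Commute t x

theorem uSw_subset {c d : Ω} : {t : G | InU Ω t ∧ t • c = d} ⊆ Sw G c d := fun _ ht => ⟨ht.1.2.1, ht.2⟩

theorem ne_one_of_Sw {c d : Ω} (hcd : c ≠ d) {t : G} (ht : t ∈ Sw G c d) : t ≠ 1 :=
  fun e => hcd (by have := ht.2; rwa [e, one_smul] at this)

variable [Finite G] [Finite Ω]

/-- An involution with at most one fixed point. -/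
theorem ncard_fix_of_not_inU {t : G} (ht : t * t = 1) (ht1 : t ≠ 1) (h : ¬ InU Ω t) :
    (fixE Ω t).ncard = Nat.card Ω % 2 := by
  have h1 := ncard_fix_mod_two (t := t) (X := (Set.univ : Set Ω)) (fun _ _ => Set.mem_univ _)
    (fun c _ => by rw [← mul_smul, ht, one_smul])
  have h2 : (fixE Ω t).ncard ≤ 1 := by
    by_contra hlt
    obtain ⟨c, hc, d, hd, hcd⟩ := (Set.one_lt_ncard (Set.toFinite _)).1 (not_le.1 hlt)
    exact h ⟨ht1, ht, c, d, hcd, hc, hd⟩
  simp only [Set.mem_univ, true_and, Set.ncard_univ] at h1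
  show {c : Ω | t • c = c}.ncard = _
  change {c : Ω | t • c = c}.ncard ≤ 1 at h2
  omega

namespace Setup

variable [FaithfulSMul G Ω] (hS : Setup G Ω)
include hS

theorem exists_inU_Sw {c d : Ω} (hcd : c ≠ d) : ∃ t, InU Ω t ∧ t ∈ Sw G c d := by
  obtain ⟨v, hv, hv1, -⟩ := hS.exists_mem_four hcd 1
  obtain ⟨t, ht⟩ := Set.nonempty_of_ncard_ne_zero (hS.lam_pos (hS.four_inU hcd hv hv1) hcd).ne'
  exact ⟨t, ht.1, uSw_subset ht⟩

theorem central (h : ¬ SCase G Ω) {c d : Ω} (hcd : c ≠ d) {t x : G} (ht : t ∈ Sw G c d)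
    (hx : x ∈ four G c d) : Commute t x :=
  by_contra fun hne => h ⟨c, d, t, x, hcd, ht, hx, hne⟩

theorem noncentral (h : SCase G Ω) {e e' : Ω} (he : e ≠ e') {s : G} (hs : s ∈ Sw G e e') :
    ∃ y ∈ four G e e', ¬ Commute s y := by
  by_contra hne
  push Not at hne
  obtain ⟨c, d, t, x, hcd, ht, hx, htx⟩ := h
  obtain ⟨g, rfl, rfl⟩ := Perm.exists_smul_eq_two hS.h2 hcd he
  have h1 := conj_mem_Sw g ht
  have h2 := hS.central_of_one he h1 hs hne _ (hS.conj_mem_four hcd g hx)
  exact htx ((Commute.conj_iff g).1 h2)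

/-- An involution exchanging `c, d` and commuting with their whole stabiliser. -/
theorem exists_central_Sw (h : ¬ SCase G Ω) {c d : Ω} (hcd : c ≠ d) :
    ∃ w ∈ Sw G c d, ∀ z ∈ pair G c d, Commute w z := by
  obtain ⟨t, -, ht⟩ := hS.exists_inU_Sw hcd
  obtain ⟨z, hz, hzf⟩ : ∃ z ∈ pair G c d, z ∉ four G c d := by
    by_contra hne
    push Not at hne
    have := Subgroup.card_le_of_le (show pair G c d ≤ four G c d from fun z hz => hne z hz)
    rw [hS.card_pair hcd, hS.card_four hcd] at this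
    omega
  set V := four G c d
  have hzV : ∀ v ∈ V, z * v * z⁻¹ ∈ V := fun v hv => by
    have := hS.conj_mem_four hcd z hv
    rwa [(mem_pair.1 hz).1, (mem_pair.1 hz).2] at this
  have hSw := hS.Sw_eq_image hcd ht fun x hx => hS.central h hcd ht hx
  have ht' : z * t * z⁻¹ ∈ Sw G c d := by
    have := conj_mem_Sw z ht
    rwa [(mem_pair.1 hz).1, (mem_pair.1 hz).2] at this
  rw [hSw] at ht'
  obtain ⟨v₀, hv₀, e₀⟩ := ht'
  -- `v ↦ v (z v z⁻¹)` is a bijection of `V`
  let φ : V → V := fun v => ⟨v * (z * v * z⁻¹), mul_mem v.2 (hzV v v.2)⟩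
  have hφ : Function.Injective φ := by
    intro v v' e
    have e1 : (v : G) * (z * v * z⁻¹) = v' * (z * v' * z⁻¹) := congrArg Subtype.val e
    set y := (v : G) * v'
    have hy : y ∈ V := mul_mem v.2 v'.2
    have hzy : z * y * z⁻¹ = y := by
      have h3 : ∀ {a b : G}, a ∈ V → b ∈ V → a * b = b * a := fun ha hb => (hS.four_comm hcd ha hb).eq
      have hzv := hzV v v.2
      have hzv' := hzV v' v'.2
      calc z * y * z⁻¹ = (z * v * z⁻¹) * (z * v' * z⁻¹) := by simp only [y]; group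
        _ = (v : G) * ((v : G) * (z * v * z⁻¹)) * (z * v' * z⁻¹) := by
            rw [← mul_assoc (v : G) v, hS.four_sq hcd v.2, one_mul]
        _ = (v : G) * (v' * (z * v' * z⁻¹)) * (z * v' * z⁻¹) := by rw [e1]
        _ = y * ((z * v' * z⁻¹) * (z * v' * z⁻¹)) := by simp only [y]; group
        _ = y := by rw [hS.four_sq hcd hzv', mul_one]
    have hy1 : y = 1 := by
      by_contra hne
      exact hzf (hS.mem_four_of_commute hcd hy hne hz (mul_inv_eq_iff_eq_mul.1 hzy))
    ext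
    calc (v : G) = (v : G) * ((v' : G) * v') := by rw [hS.four_sq hcd v'.2, mul_one]
      _ = y * v' := by simp only [y]; group
      _ = v' := by rw [hy1, one_mul]
  obtain ⟨⟨v, hv⟩, hφv⟩ := (Finite.injective_iff_surjective.1 hφ) ⟨v₀, hv₀⟩
  have hvv : v * (z * v * z⁻¹) = v₀ := congrArg Subtype.val hφv
  have hw : t * v ∈ Sw G c d := hSw ▸ ⟨v, hv, rfl⟩
  refine ⟨t * v, hw, ?_⟩
  have hwz : Commute (t * v) z := by
    have e : z * (t * v) * z⁻¹ = t * v := by
      calc z * (t * v) * z⁻¹ = (z * t * z⁻¹) * (z * v * z⁻¹) := by group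
        _ = t * v₀ * (z * v * z⁻¹) := by rw [← e₀]
        _ = t * (v * ((z * v * z⁻¹) * (z * v * z⁻¹))) := by rw [← hvv]; group
        _ = t * v := by rw [hS.four_sq hcd (hzV v hv), mul_one]
    exact (mul_inv_eq_iff_eq_mul.1 e).symm
  intro y hy
  set D := pair G c d ⊓ centralizer ({t * v} : Set G)
  have hVD : V ≤ D := fun x hx => ⟨((hS.four_eq hcd).1 hx).1,
    mem_centralizer_singleton_iff.2 (hS.central h hcd hw hx).eq.symm⟩
  have hD12 : Nat.card D ∣ 12 := hS.card_pair hcd ▸ Subgroup.card_dvd_of_le inf_le_left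
  have h4D : 4 ∣ Nat.card D := hS.card_four hcd ▸ Subgroup.card_dvd_of_le hVD
  have hne4 : Nat.card D ≠ 4 := fun e => hzf (by
    rw [show V = D from Subgroup.eq_of_le_of_card_ge hVD (by rw [e, hS.card_four hcd])]
    exact ⟨hz, mem_centralizer_singleton_iff.2 hwz.eq.symm⟩)
  have hD : D = pair G c d := Subgroup.eq_of_le_of_card_ge inf_le_left (by
    rw [hS.card_pair hcd]
    obtain ⟨k, hk⟩ := h4D
    rw [hk] at hD12 hne4 ⊢
    have hk3 : k ∣ 3 := Nat.dvd_of_mul_dvd_mul_left (by norm_num : 0 < 4) hD12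
    rcases (Nat.dvd_prime Nat.prime_three).1 hk3 with rfl | rfl <;> omega)
  exact (mem_centralizer_singleton_iff.1 (hD.symm.le hy).2 : Commute y (t * v)).symm

theorem card_Sw (h : ¬ SCase G Ω) {c d : Ω} (hcd : c ≠ d) : (Sw G c d).ncard = 4 := by
  obtain ⟨t, -, ht⟩ := hS.exists_inU_Sw hcd
  rw [hS.Sw_eq_image hcd ht fun x hx => hS.central h hcd ht hx,
    Set.ncard_image_of_injective _ (mul_right_injective t), ← Nat.card_coe_set_eq]
  exact hS.card_four hcd

/-- The possible numbers of involutions with two fixed points exchanging a given pair. -/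
theorem lam_cases (h : ¬ SCase G Ω) {c d : Ω} (hcd : c ≠ d) :
    {t : G | InU Ω t ∧ t • c = d}.ncard = 1 ∨ {t : G | InU Ω t ∧ t • c = d}.ncard = 3 ∨
      {t : G | InU Ω t ∧ t • c = d}.ncard = 4 := by
  obtain ⟨w, hw, hwc⟩ := hS.exists_central_Sw h hcd
  have hSw := hS.Sw_eq_image hcd hw fun x hx => hS.central h hcd hw hx
  set V := four G c d
  have hset : {t : G | InU Ω t ∧ t • c = d} = (fun x => w * x) '' {x | x ∈ V ∧ InU Ω (w * x)} := by
    ext t
    constructor
    · intro ht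
      obtain ⟨x, hx, rfl⟩ := hSw.subset (uSw_subset ht)
      exact ⟨x, ⟨hx, ht.1⟩, rfl⟩
    · rintro ⟨x, ⟨hx, hU⟩, rfl⟩
      exact ⟨hU, by simp only; rw [mul_smul, (hS.four_le hcd hx).1, hw.2]⟩
  have hpos : 0 < {x : G | x ∈ V ∧ InU Ω (w * x)}.ncard := by
    obtain ⟨v, hv, hv1, -⟩ := hS.exists_mem_four hcd 1
    have := hS.lam_pos (hS.four_inU hcd hv hv1) hcd
    rwa [hset, Set.ncard_image_of_injective _ (mul_right_injective w)] at this
  rw [hset, Set.ncard_image_of_injective _ (mul_right_injective w)]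
  obtain ⟨v, hv, hv1, -⟩ := hS.exists_mem_four hcd 1
  have horb : ∀ x ∈ V, x ≠ 1 → (InU Ω (w * x) ↔ InU Ω (w * v)) := by
    intro x hx hx1
    obtain ⟨z, hz, rfl⟩ := hS.four_conj hcd hv hv1 hx hx1
    have e : w * (z * v * z⁻¹) = z * (w * v) * z⁻¹ := by
      calc w * (z * v * z⁻¹) = (w * z) * v * z⁻¹ := by group
        _ = (z * w) * v * z⁻¹ := by rw [(hwc z hz).eq]
        _ = _ := by group
    rw [e, ← inU_conj_iff]
  have hV : (V : Set G).ncard = 4 := by rw [← Nat.card_coe_set_eq]; exact hS.card_four hcd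
  by_cases hwv : InU Ω (w * v)
  · by_cases hw1 : InU Ω w
    · refine Or.inr (Or.inr ?_)
      rw [← hV]
      congr 1
      ext x
      refine ⟨fun hx => hx.1, fun hx => ⟨hx, ?_⟩⟩
      rcases eq_or_ne x 1 with rfl | hx1
      · rwa [mul_one]
      · exact (horb x hx hx1).2 hwv
    · refine Or.inr (Or.inl ?_)
      rw [show {x : G | x ∈ V ∧ InU Ω (w * x)} = (V : Set G) \ {1} from ?_,
        Set.ncard_sdiff_singleton_of_mem (one_mem V), hV]
      ext x
      refine ⟨fun hx => ⟨hx.1, fun e => hw1 ?_⟩, fun hx => ⟨hx.1, (horb x hx.1 hx.2).2 hwv⟩⟩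
      have := hx.2
      rwa [Set.mem_singleton_iff.1 e, mul_one] at this
  · refine Or.inl (le_antisymm ?_ hpos)
    rw [← Set.ncard_singleton (1 : G)]
    exact Set.ncard_le_ncard fun x hx => by_contra fun hx1 => hwv ((horb x hx.1 hx1).1 hx.2)

theorem case_S (h : SCase G Ω) {c d : Ω} (hcd : c ≠ d) :
    {t : G | InU Ω t ∧ t • c = d}.ncard = 6 ∧ ∀ s ∈ Sw G c d, InU Ω s := by
  set P := pair G c d with hP
  have key : ∀ s ∈ Sw G c d, ((fun z => z * s * z⁻¹) '' (P : Set G)).ncard = 6 ∧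
      (fun z => z * s * z⁻¹) '' (P : Set G) ⊆ Sw G c d := by
    intro s hs
    constructor
    · obtain ⟨y, hy, hsy⟩ := hS.noncentral h hcd hs
      set C := P ⊓ centralizer ({s} : Set G)
      have hy' := hS.Sw_conj_four hcd hs hy
      have hsi : s⁻¹ = s := inv_eq_of_mul_eq_one_right hs.1
      set v := y * (s * y * s⁻¹) with hv
      have hvV : v ∈ four G c d := mul_mem hy hy'
      have hv1 : v ≠ 1 := fun e => hsy (by
        have : s * y * s⁻¹ = y := by
          rw [hv] at e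
          rw [← inv_eq_of_mul_eq_one_right e, inv_eq_of_mul_eq_one_right (hS.four_sq hcd hy)]
        exact mul_inv_eq_iff_eq_mul.1 this)
      have hvs : Commute v s := by
        refine (mul_inv_eq_iff_eq_mul.1 ?_).symm
        calc s * v * s⁻¹ = (s * y * s⁻¹) * ((s * s) * y * (s⁻¹ * s⁻¹)) := by rw [hv]; group
          _ = (s * y * s⁻¹) * y := by rw [hs.1, hsi, hs.1, one_mul, mul_one]
          _ = v := (hS.four_comm hcd hy' hy).eq
      have hle : (C : Set G) ⊆ {1, v} := by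
        intro z hz
        have hzs : Commute z s := mem_centralizer_singleton_iff.1 hz.2
        by_cases hzV : z ∈ four G c d
        · by_contra hne
          simp only [Set.mem_insert_iff, Set.mem_singleton_iff, not_or] at hne
          apply hsy
          rcases hS.four_cases hcd hvV hv1 hzV hne.1 hne.2 hy with e | e | e | e <;> rw [e]
          · exact Commute.one_right s
          · exact hvs.symm
          · exact hzs.symm
          · exact hvs.symm.mul_right hzs.symm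
        · exfalso
          have hzv : z * v * z⁻¹ ∈ four G c d := by
            have := hS.conj_mem_four hcd z hvV
            rwa [(mem_pair.1 hz.1).1, (mem_pair.1 hz.1).2] at this
          have hne : z * v * z⁻¹ ≠ v := fun e =>
            hzV (hS.mem_four_of_commute hcd hvV hv1 hz.1 (mul_inv_eq_iff_eq_mul.1 e))
          have hc : Commute s (z * v * z⁻¹) := (hzs.symm.mul_right hvs.symm).mul_right hzs.symm.inv_right
          apply hsy
          rcases hS.four_cases hcd hvV hv1 hzv (fun e => hv1 (conj_eq_one_iff.1 e)) hne hy with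
            e | e | e | e <;> rw [e]
          · exact Commute.one_right s
          · exact hvs.symm
          · exact hc
          · exact hvs.symm.mul_right hc
      have hC2 : Nat.card C = 2 := by
        refine le_antisymm ?_ ?_
        · rw [← SetLike.coe_sort_coe, Nat.card_coe_set_eq]
          exact (Set.ncard_le_ncard hle).trans ((Set.ncard_insert_le _ _).trans (by rw [Set.ncard_singleton]))
        · haveI : Nontrivial C := ⟨⟨1, ⟨v, ((hS.four_eq hcd).1 hvV).1, mem_centralizer_singleton_iff.2 hvs.eq⟩,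
            fun e => hv1 (congrArg Subtype.val e).symm⟩⟩
          exact Finite.one_lt_card
      haveI : Finite (ConjAct G) := Finite.of_equiv G ConjAct.toConjAct.toEquiv
      let η : G →* ConjAct G := (ConjAct.toConjAct (G := G)).toMonoidHom
      have hη : Function.Injective η := (ConjAct.toConjAct (G := G)).injective
      have h1 := card_eq_ncard_mul (G := ConjAct G) (Ω := G) (P.map η) s
        ((fun z => z * s * z⁻¹) '' (P : Set G))
        (by rintro _ ⟨z, hz, rfl⟩; exact ⟨z, hz, (ConjAct.toConjAct_smul z s).symm⟩)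
        (by rintro _ ⟨z, hz, rfl⟩; exact ⟨_, ⟨z, hz, rfl⟩, ConjAct.toConjAct_smul z s⟩)
      have hCmap : P.map η ⊓ stabilizer (ConjAct G) s = C.map η := by
        ext z
        constructor
        · rintro ⟨⟨z, hz, rfl⟩, hzs⟩
          refine ⟨z, ⟨hz, mem_centralizer_singleton_iff.2 (mul_inv_eq_iff_eq_mul.1 ?_)⟩, rfl⟩
          rw [← ConjAct.toConjAct_smul]; exact hzs
        · rintro ⟨z, ⟨hz, hzs⟩, rfl⟩
          refine ⟨⟨z, hz, rfl⟩, ?_⟩
          show ConjAct.toConjAct z • s = s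
          rw [ConjAct.toConjAct_smul, mem_centralizer_singleton_iff.1 hzs, mul_inv_cancel_right]
      rw [hCmap, Subgroup.card_map_of_injective hη, Subgroup.card_map_of_injective hη, hS.card_pair hcd, hC2] at h1
      omega
    · rintro _ ⟨z, hz, rfl⟩
      have := conj_mem_Sw z hs
      rwa [(mem_pair.1 hz).1, (mem_pair.1 hz).2] at this
  obtain ⟨t, htU, ht⟩ := hS.exists_inU_Sw hcd
  obtain ⟨ht6, hts⟩ := key t ht
  -- not every element of the coset is an involution
  obtain ⟨y, hy, hty⟩ := hS.noncentral h hcd ht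
  have hy2 : ¬ t * y * (t * y) = 1 := fun e => hty (by
    show t * y = y * t
    calc t * y = (t * y)⁻¹ := (inv_eq_of_mul_eq_one_right e).symm
      _ = y * t := by rw [mul_inv_rev, inv_eq_of_mul_eq_one_right ht.1,
          inv_eq_of_mul_eq_one_right (hS.four_sq hcd hy)])
  have hsub : Sw G c d ⊆ (fun z => t * z) '' ((P : Set G) \ {y}) := by
    intro s hs
    refine ⟨t * s, ⟨mul_mem_pair hs ht, fun e => hy2 ?_⟩, by simp only; rw [← mul_assoc, ht.1, one_mul]⟩
    rw [Set.mem_singleton_iff] at e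
    rw [show t * y = s by rw [← e, ← mul_assoc, ht.1, one_mul], hs.1]
  have h11 : (Sw G c d).ncard ≤ 11 := by
    refine (Set.ncard_le_ncard hsub).trans ?_
    rw [Set.ncard_image_of_injective _ (mul_right_injective t),
      Set.ncard_sdiff_singleton_of_mem (s := (P : Set G)) ((hS.four_eq hcd).1 hy).1, ← Nat.card_coe_set_eq]
    rw [show Nat.card (P : Set G) = 12 from hS.card_pair hcd]
  have horb : Sw G c d = (fun z => z * t * z⁻¹) '' (P : Set G) := by
    refine (hts.antisymm fun s hs => ?_).symm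
    obtain ⟨hs6, hss⟩ := key s hs
    by_contra hne
    have hdis : Disjoint ((fun z => z * t * z⁻¹) '' (P : Set G)) ((fun z => z * s * z⁻¹) '' (P : Set G)) := by
      rw [Set.disjoint_left]
      rintro _ ⟨z, hz, rfl⟩ ⟨z', hz', e⟩
      refine hne ⟨z'⁻¹ * z, mul_mem (inv_mem hz') hz, ?_⟩
      calc z'⁻¹ * z * t * (z'⁻¹ * z)⁻¹ = z'⁻¹ * (z * t * z⁻¹) * z' := by group
        _ = s := by simp only at e; rw [← e]; group
    have := Set.ncard_union_eq hdis
    have := Set.ncard_le_ncard (Set.union_subset hts hss)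
    omega
  have hall : ∀ s ∈ Sw G c d, InU Ω s := by
    intro s hs
    obtain ⟨z, -, rfl⟩ := horb.subset hs
    exact htU.conj z
  refine ⟨?_, hall⟩
  rw [show {t : G | InU Ω t ∧ t • c = d} = Sw G c d from
    uSw_subset.antisymm fun s hs => ⟨hall s hs, hs.2⟩, horb, ht6]

/-- The number of the other involutions exchanging two points. -/
theorem ncard_nonU (h : ¬ SCase G Ω) {c d : Ω} (hcd : c ≠ d) :
    {t : G | t * t = 1 ∧ t ≠ 1 ∧ ¬ InU Ω t ∧ t • c = d}.ncard =
      4 - {t : G | InU Ω t ∧ t • c = d}.ncard := by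
  rw [← hS.card_Sw h hcd, ← Set.ncard_sdiff uSw_subset]
  congr 1
  ext t
  exact ⟨fun ht => ⟨⟨ht.1, ht.2.2.2⟩, fun h' => ht.2.2.1 h'.1⟩,
    fun ht => ⟨ht.1.1, ne_one_of_Sw hcd ht.1, fun h' => ht.2 ⟨h', ht.1.2⟩, ht.1.2⟩⟩

/-! ### The involutions of `C(u)` with two fixed points in `Fix(u)` -/

/-- Further involutions of `C(u)` fixing two fixed points of `u`. -/
def Y (Ω : Type*) [MulAction G Ω] (u : G) : Set G :=
  {y | y * y = 1 ∧ y ≠ 1 ∧ y ≠ u ∧ Commute y u ∧
    ∃ c d : Ω, c ≠ d ∧ c ∈ fixE Ω u ∧ d ∈ fixE Ω u ∧ y • c = c ∧ y • d = d}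

omit hS in
theorem Y_conj {u g y : G} (hg : g ∈ centralizer ({u} : Set G)) (hy : y ∈ Y Ω u) :
    g * y * g⁻¹ ∈ Y Ω u := by
  obtain ⟨h2, h1, hu, hc, c, d, hcd, hcu, hdu, hcy, hdy⟩ := hy
  have hgu : Commute g u := mem_centralizer_singleton_iff.1 hg
  have hug : g * u * g⁻¹ = u := by rw [hgu.eq, mul_inv_cancel_right]
  refine ⟨?_, fun e => h1 (conj_eq_one_iff.1 e), fun e => hu ?_, ?_, g • c, g • d,
    fun e => hcd (smul_left_cancel g e), smul_mem_fixE hgu hcu, smul_mem_fixE hgu hdu, ?_, ?_⟩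
  · rw [show g * y * g⁻¹ * (g * y * g⁻¹) = g * (y * y) * g⁻¹ by group, h2]; group
  · exact mul_left_cancel (mul_right_cancel (e.trans hug.symm))
  · exact (hgu.mul_left hc).mul_left hgu.inv_left
  · rw [mul_smul, mul_smul, inv_smul_smul, hcy]
  · rw [mul_smul, mul_smul, inv_smul_smul, hdy]

/-- The fixed-point number `f` of an involution exceeds that `g` of a four-group by `g (g - 1)` or
twice that. -/
theorem fix_relation {u : G} {a b : Ω} (hu1 : u ≠ 1) (hab : a ≠ b) (hu : u ∈ four G a b)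
    (hlt : (fixS Ω (four G a b)).ncard < (fixE Ω u).ncard) :
    ∃ μ, (μ = 2 ∨ μ = 4) ∧ {t : G | t ∈ Y Ω u ∧ t • a = b}.ncard = μ ∧
      μ * ((fixS Ω (four G a b)).ncard * ((fixS Ω (four G a b)).ncard - 1)) =
        2 * ((fixE Ω u).ncard - (fixS Ω (four G a b)).ncard) := by
  set g := (fixS Ω (four G a b)).ncard with hg
  set f := (fixE Ω u).ncard with hf
  set F := fixE Ω u with hF
  have huu : u * u = 1 := hS.four_sq hab hu
  have haF : a ∈ F := (hS.four_le hab hu).1
  have hbF : b ∈ F := (hS.four_le hab hu).2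
  have hY : ∀ y ∈ Y Ω u, {c ∈ F | y • c = c}.ncard = g := by
    intro y ⟨h2, h1, hne, hc, c, d, hcd, hcu, hdu, hcy, hdy⟩
    rw [hS.fix_inter hcd (hS.mem_four_of_fix huu hcd hcu hdu) hu1 (hS.mem_four_of_fix h2 hcd hcy hdy) h1 hne]
    exact hS.ncard_fixS_eq hcd hab
  have htr : ∀ c ∈ F, ∀ d ∈ F, c ≠ d → ∃ h ∈ centralizer ({u} : Set G), h • a = c ∧ h • b = d :=
    fun c hc d hd hcd => hS.exists_centralizer_map hu1 hab hu hcd hc hd
  have hYiff : ∀ h ∈ centralizer ({u} : Set G), ∀ y, y ∈ Y Ω u ↔ h * y * h⁻¹ ∈ Y Ω u := fun h hh y =>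
    ⟨Y_conj hh, fun hy => by have := Y_conj (inv_mem hh) hy; simpa [mul_assoc] using this⟩
  -- count pairs of fixed points
  have hcount : (Y Ω u).ncard * (g * (g - 1)) = (f * (f - 1)) * 2 := by
    have hoff : ∀ X : Set Ω, X.offDiag.ncard = X.ncard * (X.ncard - 1) := fun X => by
      classical
      haveI := Fintype.ofFinite Ω
      rw [Set.ncard_eq_toFinset_card', Set.toFinset_offDiag, Finset.offDiag_card, ← Set.ncard_eq_toFinset_card',
        Nat.mul_sub_one]
    have h1 := card_mul_fixed (G := G) (Ω := Ω × Ω) (Y Ω u) F.offDiag (r := 2) (φ := g * (g - 1))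
      (fun p hp => ?_) (fun y hy => ?_)
    · rwa [hoff] at h1
    · obtain ⟨hc, hd, hcd⟩ := hp
      have hVu := hS.mem_four_of_fix huu hcd hc hd
      rw [show {t | t ∈ Y Ω u ∧ t • p = p} = ((four G p.1 p.2 : Set G) \ {1}) \ {u} from ?_,
        Set.ncard_sdiff_singleton_of_mem (s := (four G p.1 p.2 : Set G) \ {1}) ⟨hVu, hu1⟩,
        Set.ncard_sdiff_singleton_of_mem (s := (four G p.1 p.2 : Set G)) (one_mem _), ← Nat.card_coe_set_eq,
        show Nat.card (four G p.1 p.2 : Set G) = 4 from hS.card_four hcd]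
      ext y
      constructor
      · rintro ⟨⟨h2, h1, hne, -⟩, hy⟩
        rw [Prod.ext_iff] at hy
        exact ⟨⟨hS.mem_four_of_fix h2 hcd hy.1 hy.2, h1⟩, hne⟩
      · rintro ⟨⟨hy, h1⟩, hne⟩
        exact ⟨⟨hS.four_sq hcd hy, h1, hne, hS.four_comm hcd hy hVu, p.1, p.2, hcd, hc, hd, hS.four_le hcd hy⟩,
          Prod.ext_iff.2 (hS.four_le hcd hy)⟩
    · rw [← hY y hy, ← hoff]
      congr 1
      ext ⟨c, d⟩
      simp only [Set.mem_offDiag, Set.mem_ofPred, Prod.smul_mk, Prod.mk.injEq]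
      tauto
  have hmove := card_mul_moved (Y Ω u) F (s := {t : G | t ∈ Y Ω u ∧ t • a = b}.ncard) (φ := g)
    (fun t ht c hc => smul_mem_fixE ht.2.2.2.1 hc)
    (fun c hc d hd hcd => by
      obtain ⟨h, hh, rfl, rfl⟩ := htr c hc d hd hcd
      exact (ncard_maps_eq (hYiff h hh) a b).symm) hY
  set μ := {t : G | t ∈ Y Ω u ∧ t • a = b}.ncard with hμ
  rw [← hf] at hmove
  have hg2 : 2 ≤ g := hS.two_le_fixS hab
  have heq : μ * (g * (g - 1)) = 2 * (f - g) := by
    refine Nat.eq_of_mul_eq_mul_left (show 0 < f * (f - 1) by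
      have : 0 < f - 1 := by omega
      have : 0 < f := by omega
      positivity) ?_
    calc f * (f - 1) * (μ * (g * (g - 1))) = (f * (f - 1) * μ) * (g * (g - 1)) := by ring
      _ = ((Y Ω u).ncard * (g * (g - 1))) * (f - g) := by rw [← hmove]; ring
      _ = _ := by rw [hcount]; ring
  refine ⟨μ, ?_, rfl, heq⟩
  have hμ0 : μ ≠ 0 := fun e => by rw [e, zero_mul] at heq; omega
  have hμ4 : μ ≤ 4 := by
    obtain ⟨t, ht⟩ := Set.nonempty_of_ncard_ne_zero hμ0
    have htS : t ∈ Sw G a b := ⟨ht.1.1, ht.2⟩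
    refine (Set.ncard_le_ncard (t := (fun x => t * x) '' (four G a b : Set G)) fun s hs => ?_).trans ?_
    · have hsS : s ∈ Sw G a b := ⟨hs.1.1, hs.2⟩
      exact ⟨t * s, hS.mem_four_of_commute hab hu hu1 (mul_mem_pair hsS htS)
        (ht.1.2.2.2.1.mul_left hs.1.2.2.2.1), by simp only; rw [← mul_assoc, htS.1, one_mul]⟩
    · rw [Set.ncard_image_of_injective _ (mul_right_injective t), ← Nat.card_coe_set_eq]
      exact (hS.card_four hab).le
  have hflip : ∀ y, y ∈ Y Ω u ∧ y • a = b → y * u ∈ Y Ω u ∧ (y * u) • a = b ∧ y * u ≠ y := by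
    rintro y ⟨⟨h2, h1, hne, hc, c, d, hcd, hcu, hdu, hcy, hdy⟩, hab'⟩
    refine ⟨⟨?_, ?_, ?_, hc.mul_left (Commute.refl u), c, d, hcd, hcu, hdu, ?_, ?_⟩, ?_, fun e => hu1 ?_⟩
    · rw [hc.symm.mul_mul_mul_comm, h2, huu, one_mul]
    · exact fun e => hne (by rw [eq_inv_of_mul_eq_one_left e, inv_eq_of_mul_eq_one_right huu])
    · exact fun e => h1 (mul_eq_right.1 e)
    · rw [mul_smul, hcu, hcy]
    · rw [mul_smul, hdu, hdy]
    · rw [mul_smul, haF, hab']
    · exact mul_eq_left.1 e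
  obtain ⟨y, hy⟩ := Set.nonempty_of_ncard_ne_zero hμ0
  obtain ⟨hy1, hy2, hy3⟩ := hflip y hy
  by_contra hne
  have hsub : ({y, y * u} : Set G) ⊆ {t : G | t ∈ Y Ω u ∧ t • a = b} := by
    rintro _ (rfl | rfl)
    · exact hy
    · exact ⟨hy1, hy2⟩
  have h2μ := Set.ncard_le_ncard hsub
  rw [Set.ncard_pair hy3.symm, ← hμ] at h2μ
  obtain ⟨z, hz, hzn⟩ : ∃ z, (z ∈ Y Ω u ∧ z • a = b) ∧ z ∉ ({y, y * u} : Set G) := by
    by_contra hall
    push Not at hall
    have := Set.ncard_le_ncard (s := {t : G | t ∈ Y Ω u ∧ t • a = b}) (t := {y, y * u}) hall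
    rw [Set.ncard_pair hy3.symm, ← hμ] at this
    omega
  obtain ⟨hz1, hz2, hz3⟩ := hflip z hz
  simp only [Set.mem_insert_iff, Set.mem_singleton_iff, not_or] at hzn
  have hsub4 : ({z, z * u} ∪ {y, y * u} : Set G) ⊆ {t : G | t ∈ Y Ω u ∧ t • a = b} := by
    refine Set.union_subset ?_ hsub
    rintro _ (rfl | rfl)
    · exact hz
    · exact ⟨hz1, hz2⟩
  have h4μ := Set.ncard_le_ncard hsub4
  have hdis : Disjoint ({z, z * u} : Set G) {y, y * u} := by
    simp only [Set.disjoint_insert_left, Set.mem_insert_iff, Set.mem_singleton_iff,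
      Set.disjoint_singleton_left, not_or]
    refine ⟨hzn, fun e => hzn.2 ?_, fun e => hzn.1 (mul_right_cancel e)⟩
    rw [← e, mul_assoc, huu, mul_one]
  rw [Set.ncard_union_eq hdis, Set.ncard_pair hy3.symm, Set.ncard_pair hz3.symm, ← hμ] at h4μ
  omega

theorem fixS_le_fix {u : G} {a b : Ω} (hu : u ∈ four G a b) :
    (fixS Ω (four G a b)).ncard ≤ (fixE Ω u).ncard :=
  Set.ncard_le_ncard (hS.fixS_subset hu)

/-- All fixed-point numbers have the parity of the degree. -/
theorem parity {u : G} {a b : Ω} (hu1 : u ≠ 1) (hab : a ≠ b) (hu : u ∈ four G a b) :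
    (fixE Ω u).ncard % 2 = Nat.card Ω % 2 ∧ (fixS Ω (four G a b)).ncard % 2 = Nat.card Ω % 2 := by
  have hlt := hS.fix_lt (hS.four_inU hab hu hu1)
  have hle := hS.fixS_le_fix hu
  have heq := hS.lam_eq (hS.four_inU hab hu hu1) hab
  set f := (fixE Ω u).ncard
  set lam := {t : G | InU Ω t ∧ t • a = b}.ncard
  obtain ⟨k, hk⟩ := even_iff_two_dvd.1 (Nat.even_mul_pred_self f)
  rw [hk, show lam * (2 * k) = 2 * (lam * k) by ring] at heq
  refine ⟨by omega, ?_⟩
  set g := (fixS Ω (four G a b)).ncard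
  rcases eq_or_lt_of_le hle with e | e
  · omega
  · obtain ⟨μ, hμ, -, h⟩ := hS.fix_relation hu1 hab hu e
    obtain ⟨j, hj⟩ := even_iff_two_dvd.1 (Nat.even_mul_pred_self g)
    rw [hj] at h
    rcases hμ with rfl | rfl <;> omega

/-- Conjugation inside the fixed points of a four-group. -/
theorem exists_normalizing_map {u : G} {a b c d : Ω} (hu1 : u ≠ 1) (hab : a ≠ b) (hu : u ∈ four G a b)
    (hc : c ∈ fixS Ω (four G a b)) (hd : d ∈ fixS Ω (four G a b)) (hcd : c ≠ d) :
    ∃ h ∈ centralizer ({u} : Set G), (∀ x ∈ four G a b, h * x * h⁻¹ ∈ four G a b) ∧ h • a = c ∧ h • b = d := by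
  obtain ⟨h, hh, hhc, hhd⟩ := hS.exists_centralizer_map hu1 hab hu hcd (hc u hu) (hd u hu)
  refine ⟨h, hh, fun x hx => ?_, hhc, hhd⟩
  have := hS.conj_mem_four hab h hx
  rwa [hhc, hhd, hS.four_eq_of_fix hab hcd hc hd] at this

/-- The fixed-point number of a four-group is a prime power. -/
theorem isPrimePow_fixS {u : G} {a b : Ω} (hu1 : u ≠ 1) (hab : a ≠ b) (hu : u ∈ four G a b) :
    IsPrimePow (fixS Ω (four G a b)).ncard := by
  classical
  rcases (hS.two_le_fixS hab).lt_or_eq with h3 | h3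
  swap
  · rw [← h3]; exact Nat.prime_two.isPrimePow
  set V := four G a b
  set X := fixS Ω V
  set M := centralizer ({u} : Set G) ⊓ normalizer (V : Set G)
  haveI : Fintype Ω := Fintype.ofFinite _
  have hMX : ∀ m : M, ∀ c ∈ X, (m : G) • c ∈ X := fun m c hc x hx => by
    have h1 := ((Subgroup.mem_normalizer_iff''.1 m.2.2) x).1 hx
    have h2 := hc _ h1
    rwa [mul_smul, mul_smul, inv_smul_eq_iff] at h2
  letI : MulAction M X :=
    { smul := fun m c => ⟨(m : G) • (c : Ω), hMX m c c.2⟩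
      one_smul := fun c => Subtype.ext (one_smul G (c : Ω))
      mul_smul := fun m m' c => Subtype.ext (mul_smul (m : G) (m' : G) (c : Ω)) }
  set Q := (MulAction.toPermHom M X).range with hQ
  haveI h2Q : IsMultiplyPretransitive Q X 2 := by
    rw [is_two_pretransitive_iff]
    intro c d c' d' hcd hcd'
    obtain ⟨h, hh, hhV, hha, hhb⟩ :=
      hS.exists_normalizing_map hu1 hab hu c.2 d.2 fun e => hcd (Subtype.ext e)
    obtain ⟨h', hh', hhV', hha', hhb'⟩ :=
      hS.exists_normalizing_map hu1 hab hu c'.2 d'.2 fun e => hcd' (Subtype.ext e)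
    have hN : ∀ k, (∀ x ∈ V, k * x * k⁻¹ ∈ V) → k ∈ normalizer (V : Set G) := fun k hk =>
      PGroup.mem_normalizer_of_map_conj_eq (Subgroup.eq_of_le_of_card_ge
        (by rintro _ ⟨x, hx, rfl⟩; exact hk x hx)
        (Subgroup.card_map_of_injective (MulAut.conj k).injective).ge)
    let m : M := ⟨h' * h⁻¹, mul_mem ⟨hh', hN _ hhV'⟩ (inv_mem ⟨hh, hN _ hhV⟩)⟩
    refine ⟨⟨MulAction.toPermHom M X m, ⟨m, rfl⟩⟩, Subtype.ext ?_, Subtype.ext ?_⟩
    · show (h' * h⁻¹) • (c : Ω) = c'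
      rw [← hha, mul_smul, inv_smul_smul, hha']
    · show (h' * h⁻¹) • (d : Ω) = d'
      rw [← hhb, mul_smul, inv_smul_smul, hhb']
  have hsharp : ∀ x : Fin 2 ↪ X, stabilizer Q x = ⊥ := by
    intro x
    rw [Subgroup.eq_bot_iff_forall]
    rintro ⟨_, m, rfl⟩ hm
    have h0 := congrArg (fun e : Fin 2 ↪ X => (e 0 : Ω)) hm
    have h1 := congrArg (fun e : Fin 2 ↪ X => (e 1 : Ω)) hm
    have hne : (x 0 : Ω) ≠ x 1 := fun e => by simpa using x.injective (Subtype.ext e)
    have hm0 : (m : G) • (x 0 : Ω) = x 0 := h0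
    have hm1 : (m : G) • (x 1 : Ω) = x 1 := h1
    have hVe := hS.four_eq_of_fix hab hne (x 0).2 (x 1).2
    have hu' : u ∈ four G (x 0 : Ω) (x 1 : Ω) := by rw [hVe]; exact hu
    have hm' := hS.mem_four_of_commute hne hu' hu1 (mem_pair.2 ⟨hm0, hm1⟩)
      (mem_centralizer_singleton_iff.1 m.2.1)
    have hmV : (m : G) ∈ V := by rw [hVe] at hm'; exact hm'
    ext c
    exact c.2 (m : G) hmV
  have hX2 : 2 ≤ Fintype.card X := by
    rw [← Nat.card_eq_fintype_card, Nat.card_coe_set_eq]; exact hS.two_le_fixS hab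
  obtain ⟨p, j, hp, hj, hcard, -⟩ := S0680.result Q hsharp hX2
  rw [← Nat.card_eq_fintype_card, Nat.card_coe_set_eq] at hcard
  exact hcard ▸ hp.isPrimePow.pow (by omega)

end Setup

end Cfsg.Agent.TwoTransA4
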